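import Groth.Agent.Sga3B.ChartEx
import Groth.Agent.Sga3B.AffYoneda
import Groth.Agent.Sga3C.ClosedSub
import Groth.Prelude.Def_AlgGrp

/-!
# Closed subgroup schemes in a chart: points

For a subgroup `i : H ⟶ G` and a chart `c` of `G` over `s : Spec R ⟶ S` the subgroup `sub i c B` of
`Pt R c.A B` of the `B`-points of `H`.  For closed immersions it is cut out by an ideal.
-/

set_option autoImplicit false
universe u

open CategoryTheory MonoidalCategory CartesianMonoidalCategory MonObj GrpObj AlgebraicGeometry Limits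

namespace K803.SubPt

open Groth.Agent.Sga3B Groth.Agent.Sga3B.Cell Groth.Agent.Sga3B.PinMod

variable {S : Scheme.{u}} {G H H' : Over S} [GrpObj G] [GrpObj H] [GrpObj H']
  {R : Type u} [CommRing R] {s : Spec (CommRingCat.of R) ⟶ S} (c : Chart G s)
  {B C : Type u} [CommRing B] [Algebra R B] [CommRing C] [Algebra R C]

/-- the points of a subgroup -/
def sub (i : H ⟶ G) [IsMonHom i] (B : Type u) [CommRing B] [Algebra R B] :
    Subgroup (Pt R c.A B) where
  carrier := {g | ∃ h : tB s B ⟶ H, h ≫ i = c.pts B g}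
  one_mem' := ⟨1, by rw [MonObj.one_comp, map_one]⟩
  mul_mem' := by
    rintro a b ⟨x, hx⟩ ⟨y, hy⟩
    exact ⟨x * y, by rw [MonObj.mul_comp, hx, hy, map_mul]⟩
  inv_mem' := by
    rintro a ⟨x, hx⟩
    exact ⟨x⁻¹, by rw [GrpObj.inv_comp, hx, map_inv]⟩

lemma mem_sub {i : H ⟶ G} [IsMonHom i] {g : Pt R c.A B} :
    g ∈ sub c i B ↔ ∃ h : tB s B ⟶ H, h ≫ i = c.pts B g := Iff.rfl

lemma symm_mem_sub (i : H ⟶ G) [IsMonHom i] (h : tB s B ⟶ H) :
    (c.pts B).symm (h ≫ i) ∈ sub c i B := ⟨h, (MulEquiv.apply_symm_apply _ _).symm⟩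

lemma map_mem {i : H ⟶ G} [IsMonHom i] (φ : B →ₐ[R] C) {g : Pt R c.A B} (hg : g ∈ sub c i B) :
    Pt.map φ g ∈ sub c i C := by
  obtain ⟨h, hh⟩ := hg
  refine ⟨tMap s φ ≫ h, ?_⟩
  rw [Category.assoc, hh, c.pts_nat]

/-- a closed subgroup is cut out by an ideal -/
theorem exists_ideal (i : H ⟶ G) [IsMonHom i] [IsClosedImmersion i.left] :
    ∃ I : Ideal c.A, ∀ (B : Type u) [CommRing B] [Algebra R B] (g : Pt R c.A B),
      g ∈ sub c i B ↔ ∀ f ∈ I, g.hom f = 0 := by
  have hcl : IsClosedImmersion (pullback.snd i.left c.p) := inferInstance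
  obtain ⟨I, e, he⟩ := IsClosedImmersion.Spec_iff.mp hcl
  refine ⟨I, fun B _ _ g => ?_⟩
  constructor
  · rintro ⟨h, hh⟩
    have h1 : h.left ≫ i.left = Spec.map (CommRingCat.ofHom (g.hom : c.A →+* B)) ≫ c.p := by
      rw [← c.pts_left, ← hh, Over.comp_left]
    have h2 : pullback.lift h.left (Spec.map (CommRingCat.ofHom (g.hom : c.A →+* B))) h1 ≫
        pullback.snd i.left c.p = Spec.map (CommRingCat.ofHom (g.hom : c.A →+* B)) :=
      pullback.lift_snd _ _ _
    rw [he, ← Category.assoc] at h2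
    obtain ⟨y, hy⟩ := Spec.map_surjective (pullback.lift h.left
      (Spec.map (CommRingCat.ofHom (g.hom : c.A →+* B))) h1 ≫ e.hom)
    rw [← hy, ← Spec.map_comp] at h2
    have h3 := Spec.map_injective h2
    intro f hf
    have h4 := congrArg (fun k => CommRingCat.Hom.hom k f) h3
    have h5 : y.hom (Ideal.Quotient.mk I f) = g.hom f := h4
    rw [← h5, Ideal.Quotient.eq_zero_iff_mem.mpr hf, map_zero]
  · intro h
    let g' : c.A ⧸ I →+* B := Ideal.Quotient.lift I (g.hom : c.A →+* B) h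
    have hg' : CommRingCat.ofHom (Ideal.Quotient.mk I) ≫ CommRingCat.ofHom g' =
        CommRingCat.ofHom (g.hom : c.A →+* B) := by
      rw [← CommRingCat.ofHom_comp, Ideal.Quotient.lift_comp_mk]
    have hc : (Spec.map (CommRingCat.ofHom g') ≫ e.inv ≫ pullback.fst i.left c.p) ≫ i.left =
        Spec.map (CommRingCat.ofHom (g.hom : c.A →+* B)) ≫ c.p := by
      rw [Category.assoc, Category.assoc, pullback.condition, he, Category.assoc,
        Iso.inv_hom_id_assoc, ← Category.assoc, ← Spec.map_comp, hg']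
    have hw : (Spec.map (CommRingCat.ofHom g') ≫ e.inv ≫ pullback.fst i.left c.p) ≫ H.hom =
        (tB s B).hom := by
      rw [← Over.w i, ← Category.assoc, hc, ← c.pts_left, Over.w]
    refine ⟨Over.homMk _ hw, ?_⟩
    ext1
    rw [Over.comp_left, c.pts_left]
    exact hc

/-- membership in a closed subgroup can be tested after an injective extension -/
lemma mem_of_map_mem {i : H ⟶ G} [IsMonHom i] [IsClosedImmersion i.left] {φ : B →ₐ[R] C}
    (hφ : Function.Injective φ) {g : Pt R c.A B} (hg : Pt.map φ g ∈ sub c i C) :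
    g ∈ sub c i B := by
  obtain ⟨I, hI⟩ := exists_ideal c i
  rw [hI] at hg ⊢
  intro f hf
  apply hφ
  rw [map_zero]
  exact hg f hf

/-- normal subgroups are normal on points -/
lemma conj_mem {i : H ⟶ G} [IsMonHom i] (hn : AlgGrp.IsNormalHom i) (g : Pt R c.A B)
    {h : Pt R c.A B} (hh : h ∈ sub c i B) : g * h * g⁻¹ ∈ sub c i B := by
  obtain ⟨x, hx⟩ := hh
  obtain ⟨y, hy⟩ := hn _ (c.pts B g) x
  refine ⟨y, ?_⟩
  rw [← hy, hx, map_mul, map_mul, map_inv]

section one

variable {k : Type u} [CommRing k] {G H H' : Over (Spec (CommRingCat.of k))} [GrpObj G] [GrpObj H]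
  [GrpObj H'] (c : Chart G (𝟙 (Spec (CommRingCat.of k))))

/-- every affine scheme over `Spec k` is a `tB` -/
lemma exists_algebra (B : CommRingCat.{u}) (s : Spec B ⟶ Spec (CommRingCat.of k)) :
    ∃ ρ : CommRingCat.of k ⟶ B, Spec.map ρ ≫ 𝟙 _ = s :=
  ⟨Spec.preimage s, by rw [Category.comp_id, Spec.map_preimage]⟩

/-- morphisms out of a subgroup -/
theorem exists_hom_iff (i : H ⟶ G) (i' : H' ⟶ G) [IsMonHom i] [IsMonHom i'] [Mono i'] :
    (∃ f : H ⟶ H', f ≫ i' = i) ↔
      ∀ (B : Type u) [CommRing B] [Algebra k B], sub c i B ≤ sub c i' B := by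
  constructor
  · rintro ⟨f, rfl⟩ B _ _ g ⟨h, hh⟩
    exact ⟨h ≫ f, by rw [Category.assoc, hh]⟩
  · intro h
    have key : ∀ (B : CommRingCat.{u}) (s : Spec B ⟶ Spec (CommRingCat.of k))
        (x : Over.mk s ⟶ H), ∃ y : Over.mk s ⟶ H', y ≫ i' = x ≫ i := by
      intro B s x
      obtain ⟨ρ, rfl⟩ := exists_algebra B s
      let _ : Algebra k B := ρ.hom.toAlgebra
      obtain ⟨y, hy⟩ := h B (symm_mem_sub c i (B := B) x)
      exact ⟨y, hy.trans (MulEquiv.apply_symm_apply _ _)⟩
    choose F hF using key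
    obtain ⟨f, hf, -⟩ := AffYoneda.existsUnique_hom F (by
      intro B B' s s' h g
      rw [← cancel_mono i', Category.assoc, hF, hF, Category.assoc])
    refine ⟨f, AffYoneda.hom_ext fun B s g => ?_⟩
    rw [← Category.assoc, hf, hF]

/-- factorization through a subgroup on affine points -/
theorem exists_factor_iff {X : Over (Spec (CommRingCat.of k))} (f : X ⟶ G) (i : H ⟶ G) [IsMonHom i]
    [Mono i] : (∃ f' : X ⟶ H, f' ≫ i = f) ↔
      ∀ (B : Type u) [CommRing B] [Algebra k B] (x : tB (𝟙 (Spec (CommRingCat.of k))) B ⟶ X),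
        (c.pts B).symm (x ≫ f) ∈ sub c i B := by
  constructor
  · rintro ⟨f', rfl⟩ B _ _ x
    rw [← Category.assoc]
    exact symm_mem_sub c i _
  · intro h
    have key : ∀ (B : CommRingCat.{u}) (s : Spec B ⟶ Spec (CommRingCat.of k))
        (x : Over.mk s ⟶ X), ∃ y : Over.mk s ⟶ H, y ≫ i = x ≫ f := by
      intro B s x
      obtain ⟨ρ, rfl⟩ := exists_algebra B s
      let _ : Algebra k B := ρ.hom.toAlgebra
      obtain ⟨y, hy⟩ := h B x
      exact ⟨y, hy.trans (MulEquiv.apply_symm_apply _ _)⟩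
    choose F hF using key
    obtain ⟨f', hf, -⟩ := AffYoneda.existsUnique_hom F (by
      intro B B' s s' h g
      rw [← cancel_mono i, Category.assoc, hF, hF, Category.assoc])
    refine ⟨f', AffYoneda.hom_ext fun B s g => ?_⟩
    rw [← Category.assoc, hf, hF]

/-- containment of a root group -/
theorem exists_ga_iff (D : Red.SplitRed G) (a : D.idx) (i : H ⟶ G) [IsMonHom i] [Mono i] :
    (∃ v : Red.Ga (Spec (CommRingCat.of k)) ⟶ H, v ≫ i = D.u a) ↔
      ∀ (B : Type u) [CommRing B] [Algebra k B] (x : B), (c.datum D).uu a B x ∈ sub c i B := by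
  rw [exists_factor_iff c]
  constructor
  · intro h B _ _ x
    have h1 := h B (GaPts.gaPt (tB (𝟙 (Spec (CommRingCat.of k))) B) (fnOf (𝟙 _) x))
    rw [← c.pts_uu, MulEquiv.symm_apply_apply] at h1
    exact h1
  · intro h B _ _ x
    obtain ⟨y, hy⟩ := exists_fnOf (𝟙 (Spec (CommRingCat.of k))) (Red.gaFn x)
    have hx : x = GaPts.gaPt (tB (𝟙 (Spec (CommRingCat.of k))) B) (fnOf (𝟙 _) y) := by
      apply GaPts.gaFn_injective
      rw [GaPts.gaFn_gaPt, hy]
    rw [hx, ← c.pts_uu, MulEquiv.symm_apply_apply]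
    exact h B y

/-- containment of the torus -/
theorem exists_torus_iff (D : Red.SplitRed G) (i : H ⟶ G) [IsMonHom i] [Mono i] :
    (∃ v : D.T ⟶ H, v ≫ i = D.i) ↔
      ∀ (B : Type u) [CommRing B] [Algebra k B] (t : TPt D.M B), (c.datum D).i B t ∈ sub c i B := by
  rw [exists_factor_iff c]
  constructor
  · intro h B _ _ t
    have h1 := h B (DSPts.dsEquiv (tB (𝟙 (Spec (CommRingCat.of k))) B) D.M (chΓ (𝟙 _) t) ≫
      Chart.splitInv D)
    rw [Category.assoc, ← Chart.j_eq, ← c.pts_i, MulEquiv.symm_apply_apply] at h1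
    exact h1
  · intro h B _ _ x
    obtain ⟨t, ht⟩ := exists_chΓ (𝟙 (Spec (CommRingCat.of k))) (x ≫ Chart.splitHom D)
    have hx : x ≫ D.i = DSPts.dsEquiv (tB (𝟙 (Spec (CommRingCat.of k))) B) D.M (chΓ (𝟙 _) t) ≫
        Chart.j D := by
      rw [← ht, Chart.j_eq, Category.assoc, Chart.splitHom_inv_assoc]
    rw [hx, ← c.pts_i, MulEquiv.symm_apply_apply]
    exact h B t

/-- a subgroup which contains all points is everything -/
theorem isIso_of_forall_mem (i : H ⟶ G) [IsMonHom i] [Mono i]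
    (h : ∀ (B : Type u) [CommRing B] [Algebra k B] (g : Pt k c.A B), g ∈ sub c i B) : IsIso i := by
  obtain ⟨f, hf⟩ := (exists_hom_iff c (𝟙 G) i).mpr fun B _ _ g _ => h B g
  exact ⟨f, by rw [← cancel_mono i, Category.assoc, hf, Category.comp_id, Category.id_comp], hf⟩

end one

end K803.SubPt
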