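import Groth.Agent.ParSch.K803.RComb

/-!
# Combinatorics of a pair of roots `a` (long) and `b` (short) forming an obtuse angle
-/

set_option autoImplicit false

open RootPairing

namespace K803.Pair2

open K803.RComb K221.Prop

variable {κ M N : Type*} [Fintype κ] [AddCommGroup M] [AddCommGroup N] {P : RootPairing κ ℤ M N}

omit [Fintype κ] in
lemma pairing_of_root_eq {a b e : κ} {i j : ℤ} (h : i • P.root a + j • P.root b = P.root e)
    (c : κ) : P.pairing e c = i * P.pairing a c + j * P.pairing b c := by
  rw [← P.root_coroot_eq_pairing, ← h, map_add, map_smul, map_smul, LinearMap.add_apply,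
    LinearMap.smul_apply, LinearMap.smul_apply, P.root_coroot_eq_pairing,
    P.root_coroot_eq_pairing, smul_eq_mul, smul_eq_mul]

omit [Fintype κ] in
lemma linIndep {a b : κ} {m : ℤ} (hm : m ≠ 4) (hab : P.pairing a b = -m)
    (hba : P.pairing b a = -1) : LinearIndependent ℤ ![P.root a, P.root b] := by
  rw [LinearIndependent.pair_iff]
  intro s t h
  have key : ∀ c, s * P.pairing a c + t * P.pairing b c = 0 := by
    intro c
    have h1 := congrArg (fun x => P.toLinearMap x (P.coroot c)) h
    simp only [map_add, map_smul, LinearMap.add_apply, LinearMap.smul_apply, map_zero,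
      LinearMap.zero_apply, smul_eq_mul, P.root_coroot_eq_pairing] at h1
    exact h1
  have h1 := key a
  have h2 := key b
  rw [P.pairing_same, hba] at h1
  rw [P.pairing_same, hab] at h2
  have h3 : t = 2 * s := by linarith
  rw [h3] at h2
  have h4 : s * (4 - m) = 0 := by linarith
  rcases mul_eq_zero.mp h4 with h5 | h5
  · exact ⟨h5, by rw [h3, h5]; rfl⟩
  · exact absurd (by linarith) hm

omit [Fintype κ] in
lemma root_reflect {a b : κ} (hba : P.pairing b a = -1) :
    P.root a + P.root b = P.root (P.reflectionPerm a b) := by
  rw [root_reflectionPerm, reflection_apply_root, hba]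
  simp [add_comm]

omit [Fintype κ] in
lemma ne_of_root_eq {a b e : κ} {i j : ℤ} (hlin : LinearIndependent ℤ ![P.root a, P.root b])
    (h : i • P.root a + j • P.root b = P.root e) (hj : j ≠ 0) :
    e ≠ a ∧ e ≠ P.reflectionPerm a a := by
  rw [LinearIndependent.pair_iff] at hlin
  constructor
  · rintro rfl
    exact hj (hlin (i - 1) j (by rw [sub_smul, one_smul, ← sub_eq_zero.mpr h]; abel)).2
  · rintro rfl
    rw [root_reflectionPerm, reflection_apply_self] at h
    exact hj (hlin (i + 1) j (by
      rw [add_smul, one_smul]
      have := sub_eq_zero.mpr h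
      rw [← this]; abel)).2

omit [Fintype κ] in
lemma ne_of_root_eq' {a b e : κ} {i j : ℤ} (hlin : LinearIndependent ℤ ![P.root a, P.root b])
    (h : i • P.root a + j • P.root b = P.root e) (hi : i ≠ 0) :
    e ≠ b ∧ e ≠ P.reflectionPerm b b := by
  rw [LinearIndependent.pair_iff] at hlin
  constructor
  · rintro rfl
    exact hi (hlin i (j - 1) (by rw [sub_smul, one_smul, ← sub_eq_zero.mpr h]; abel)).1
  · rintro rfl
    rw [root_reflectionPerm, reflection_apply_self] at h
    exact hi (hlin i (j + 1) (by
      rw [add_smul, one_smul]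
      have := sub_eq_zero.mpr h
      rw [← this]; abel)).1

variable [P.IsReduced] {a b : κ} {m : ℤ}

lemma not_root_add (hm : m = 2 ∨ m = 3) (hab : P.pairing a b = -m) (hba : P.pairing b a = -1)
    (e : κ) (i : ℕ) (hi : 2 ≤ i) : i • P.root a + P.root b ≠ P.root e := by
  intro h
  have h0 : (i : ℤ) • P.root a + (1 : ℤ) • P.root b = P.root e := by
    rw [natCast_zsmul, one_smul, h]
  have hlin := linIndep (by omega) hab hba
  have h1 := pairing_of_root_eq h0 a
  have h2 := pairing_of_root_eq h0 b
  rw [P.pairing_same, hba] at h1
  rw [P.pairing_same, hab] at h2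
  obtain ⟨h3, h3'⟩ := ne_of_root_eq hlin h0 one_ne_zero
  obtain ⟨h4, h4'⟩ := ne_of_root_eq' hlin h0 (by omega)
  have h5 := len_swap (P := P) e a
  have h6 := len_swap (P := P) e b
  have h7 := len_swap (P := P) a b
  have h8 := len_pos (P := P) b
  have h9 := pairs h3 h3'
  have h10 := pairs h4 h4'
  have hi2 : (i : ℤ) = 2 := by omega
  rw [hi2] at h1 h2
  rw [h1] at h5
  rw [hab, hba] at h7
  rcases hm with rfl | rfl
  · rw [h2] at h6
    have h11 : P.pairing a e = 1 := by omega
    have h12 : P.pairing b e = -1 := by omega
    rw [h11] at h5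
    rw [h12] at h6
    omega
  · omega

lemma not_root_sub (hm : m = 2 ∨ m = 3) (hab : P.pairing a b = -m) (hba : P.pairing b a = -1)
    (e : κ) (i : ℕ) (hi : i ≠ 0) :
    i • P.root (P.reflectionPerm a a) + P.root b ≠ P.root e := by
  intro h
  have h0 : (-(i : ℤ)) • P.root a + (1 : ℤ) • P.root b = P.root e := by
    rw [← h, neg_smul, natCast_zsmul, one_smul, root_reflectionPerm, reflection_apply_self,
      smul_neg]
  have hlin := linIndep (by omega) hab hba
  have h2 := pairing_of_root_eq h0 b
  rw [P.pairing_same, hab] at h2
  obtain ⟨h4, h4'⟩ := ne_of_root_eq' hlin h0 (by omega)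
  have h10 := pairs h4 h4'
  rcases hm with rfl | rfl <;> omega

open K221.Conn

omit [Fintype κ] [P.IsReduced] in
lemma conj_step (x l : κ) : Conj P x (P.reflectionPerm l x) :=
  Relation.ReflTransGen.single ⟨l, rfl⟩

omit [Fintype κ] [P.IsReduced] in
/-- roots of the same length which are not orthogonal are conjugate -/
lemma conj_of_pairing {x y : κ} (h : (P.pairing x y = 1 ∧ P.pairing y x = 1) ∨
    (P.pairing x y = -1 ∧ P.pairing y x = -1)) : Conj P x y := by
  rcases h with ⟨h1, h2⟩ | ⟨h1, h2⟩
  · have e : P.reflectionPerm x (P.reflectionPerm y x) = P.reflectionPerm y y := by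
      apply P.root.injective
      rw [root_reflectionPerm, root_reflectionPerm, root_reflectionPerm, reflection_apply_root, h1,
        map_sub, map_smul, reflection_apply_self, reflection_apply_root, h2, reflection_apply_self]
      simp only [one_smul]
      abel
    have h3 := (conj_step x y).trans ((conj_step (P.reflectionPerm y x) x).trans
      (conj_step (P.reflectionPerm x (P.reflectionPerm y x)) y))
    rw [e, reflectionPerm_self] at h3
    exact h3
  · have e : P.reflectionPerm x (P.reflectionPerm y x) = y := by
      apply P.root.injective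
      rw [root_reflectionPerm, root_reflectionPerm, reflection_apply_root, h1,
        map_sub, map_smul, reflection_apply_self, reflection_apply_root, h2]
      simp only [neg_smul, one_smul]
      abel
    have h3 := (conj_step x y).trans (conj_step (P.reflectionPerm y x) x)
    rwa [e] at h3

/-- In an irreducible reduced root system with roots `a`, `b` forming a multiple edge every root is
conjugate to `a` or to `b`. -/
theorem conj_or (hirr : Irr P) (hm : m = 2 ∨ m = 3) (hab : P.pairing a b = -m)
    (hba : P.pairing b a = -1) (e : κ) : Conj P e a ∨ Conj P e b := by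
  have h7 := len_swap (P := P) a b
  have hb := len_pos (P := P) b
  rw [hab, hba] at h7
  -- a root conjugate to `e` of the length of `x` and not orthogonal to `x` is conjugate to `x`
  have key : ∀ x : κ, len P e = len P x → Conj P e x := by
    intro x hx
    obtain ⟨e', h1, h2⟩ := hirr.exists_conj e x
    have h3 := len_swap (P := P) e' x
    rw [len_conj h1, hx] at h3
    have hx0 := len_pos (P := P) x
    by_cases h4 : e' = x
    · exact h4 ▸ h1
    by_cases h5 : e' = P.reflectionPerm x x
    · rw [h5] at h1
      have h6 := h1.trans (conj_step (P := P) (P.reflectionPerm x x) x)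
      rwa [reflectionPerm_self] at h6
    refine h1.trans (conj_of_pairing ?_)
    have h6 : P.pairing e' x = P.pairing x e' := mul_right_cancel₀ hx0.ne' h3
    rcases pairs h4 h5 with h | h | h | h | h | h | h | h | h | h | h <;> omega
  obtain ⟨e', h1, h2⟩ := hirr.exists_conj e b
  have h3 := len_swap (P := P) e' b
  have h8 := len_le_three hirr e b
  have h9 := len_le_three hirr a e
  rw [len_conj h1] at h3
  have he0 := len_pos (P := P) e
  by_cases h4 : e' = b
  · exact Or.inr (h4 ▸ h1)
  by_cases h5 : e' = P.reflectionPerm b b
  · right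
    rw [h5] at h1
    have h6 := h1.trans (conj_step (P := P) (P.reflectionPerm b b) b)
    rwa [reflectionPerm_self] at h6
  have h10 : len P e = len P b ∨ len P e = len P a ∨ (len P e = 2 * len P b ∧ m = 3) ∨
      (len P e = 3 * len P b ∧ m = 2) := by
    rcases hm with rfl | rfl <;>
    rcases pairs h4 h5 with h | h | h | h | h | h | h | h | h | h | h <;>
      (obtain ⟨e1, e2⟩ := h; rw [e1, e2] at h3; first | exact absurd e1 h2 | omega)
  -- lengths `2` and `3` do not occur together
  have key2 : ∀ x y : κ, ¬ (2 * len P x = 3 * len P y) := by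
    intro x y hxy
    obtain ⟨x', g1, g2⟩ := hirr.exists_conj x y
    have g3 := len_swap (P := P) x' y
    rw [len_conj g1] at g3
    have gx := len_pos (P := P) x
    by_cases g4 : x' = y
    · rw [← g4, len_conj g1] at hxy; omega
    by_cases g5 : x' = P.reflectionPerm y y
    · have := len_neg (P := P) y
      rw [← g5, len_conj g1] at this; omega
    rcases pairs g4 g5 with h | h | h | h | h | h | h | h | h | h | h <;>
      (obtain ⟨e1, e2⟩ := h; rw [e1, e2] at g3; first | exact absurd e1 g2 | omega)
  rcases h10 with h | h | ⟨h, h'⟩ | ⟨h, h'⟩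
  · exact Or.inr (key b h)
  · exact Or.inl (key a h)
  · exact absurd (by rw [h'] at h7; omega) (key2 a e)
  · exact absurd (by rw [h'] at h7; omega) (key2 e a)

end K803.Pair2
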