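import Groth.Agent.ParSch.K803.Nn
import Groth.Agent.ParSch.K803.Pair2
import Groth.Agent.Sga3B.SplitModel889

/-!
# Root vectors of closed subgroup functors
-/

set_option autoImplicit false
universe u

open CategoryTheory AlgebraicGeometry

namespace K803.HtOne

open Groth.Agent.Sga3B Groth.Agent.Sga3B.Cell Groth.Agent.Sga3B.PinMod
open K803.SubPt K803.Gen K803.Split K803.Lie K803.Str K803.Nn K803.Pair2 K221.Conn

variable {k : Type u} [Field k] {G : Over (Spec (CommRingCat.of k))} [GrpObj G]
  {D : Red.SplitRed G} {c : Chart G (𝟙 (Spec (CommRingCat.of k)))}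

/-- the subgroup functor `S` is cut out by the ideal `I` -/
def Cut (I : Ideal c.A)
    (S : ∀ (B : Type u) [CommRing B] [Algebra k B], Subgroup (Pt k c.A B)) : Prop :=
  ∀ (B : Type u) [CommRing B] [Algebra k B] (g : Pt k c.A B), g ∈ S B ↔ ∀ f ∈ I, g.hom f = 0

/-- the tangent vector of the root `a` is tangent to the closed subscheme of `I` -/
def Tan (D : Red.SplitRed G) {c : Chart G (𝟙 (Spec (CommRingCat.of k)))} (I : Ideal c.A)
    (a : D.idx) : Prop := ∀ f ∈ I, tan (c.datum D) a f = 0

variable {I : Ideal c.A} {S : ∀ (B : Type u) [CommRing B] [Algebra k B], Subgroup (Pt k c.A B)}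

lemma Cut.map (hS : Cut I S) {B C : Type u} [CommRing B] [Algebra k B] [CommRing C] [Algebra k C]
    (φ : B →ₐ[k] C) {g : Pt k c.A B} (hg : g ∈ S B) : Pt.map φ g ∈ S C := by
  rw [hS] at hg ⊢
  intro f hf
  rw [Pt.map_hom_apply, hg f hf, map_zero]

lemma Cut.one (hS : Cut I S) {B : Type u} [CommRing B] [Algebra k B] {f : c.A} (hf : f ∈ I) :
    (1 : Pt k c.A B).hom f = 0 := (hS B 1).mp (one_mem _) f hf

lemma Cut.dd (hS : Cut I S) {B : Type u} [CommRing B] [Algebra k B] {g : Pt k c.A B}
    (hg : g ∈ S B) {f : c.A} (hf : f ∈ I) : dd g f = 0 := by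
  rw [Lie.dd, (hS B g).mp hg f hf, hS.one hf, sub_zero]

lemma mem_of_tan (hS : Cut I S) {a : D.idx} (h : Tan D I a) {B : Type u} [CommRing B]
    [Algebra k B] {x : B} (hx : x * x = 0) : (c.datum D).uu a B x ∈ S B := by
  rw [hS]
  intro f hf
  have h1 := dd_uu (c.datum D) a hx f
  rw [h f hf, map_zero, zero_mul, Lie.dd, hS.one hf, sub_zero] at h1
  exact h1

lemma tan_of_mem (hS : Cut I S) {a : D.idx} {B : Type u} [CommRing B]
    [Algebra k B] {x : B} (hx : x * x = 0) (h : (c.datum D).uu a B x ∈ S B) {f : c.A}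
    (hf : f ∈ I) : algebraMap k B (tan (c.datum D) a f) * x = 0 := by
  have h1 := dd_uu (c.datum D) a hx f
  rw [hS.dd h hf] at h1
  exact h1.symm

lemma eq_zero_of_mul_eps {r s : k} (hs : s ≠ 0)
    (h : algebraMap k (DualNumber k) r * (algebraMap k (DualNumber k) s * DualNumber.eps) = 0) :
    r = 0 := by
  have h1 := congrArg TrivSqZeroExt.snd h
  rw [← mul_assoc, ← map_mul, TrivSqZeroExt.algebraMap_eq_inl] at h1
  have h2 : r * s = 0 := by simpa using h1
  exact (mul_eq_zero.mp h2).resolve_right hs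

/-- root vectors of a normal subgroup: stability under reflections -/
lemma tan_reflect (hS : Cut I S)
    (hn : ∀ (B : Type u) [CommRing B] [Algebra k B] (g h : Pt k c.A B), h ∈ S B →
      g * h * g⁻¹ ∈ S B) (a : D.idx) {e : D.idx} (h : Tan D I e) :
    Tan D I (D.P.reflectionPerm a e) := by
  obtain ⟨r, r', hnn⟩ := exists_nn D c a
  obtain ⟨s, hs⟩ := hnn e
  intro f hf
  have hε : (DualNumber.eps : DualNumber k) * DualNumber.eps = 0 := DualNumber.eps_mul_eps
  have h1 := hn _ (nn D c a r r' (DualNumber k)) _ (mem_of_tan hS h hε)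
  rw [hs] at h1
  have h2 := tan_of_mem hS (by
    rw [mul_mul_mul_comm, hε, mul_zero]) h1 hf
  exact eq_zero_of_mul_eps s.ne_zero h2

lemma tan_conj (hS : Cut I S)
    (hn : ∀ (B : Type u) [CommRing B] [Algebra k B] (g h : Pt k c.A B), h ∈ S B →
      g * h * g⁻¹ ∈ S B) {e e' : D.idx} (hc : Conj D.P e e') (h : Tan D I e) : Tan D I e' := by
  induction hc with
  | refl => exact h
  | tail _ hbc ih =>
    obtain ⟨l, rfl⟩ := hbc
    exact tan_reflect hS hn l ih

/-- brackets: from the long root `a` to the short root `a + b` -/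
lemma tan_bracket {m : ℤ} (hS : Cut I S)
    (hn : ∀ (B : Type u) [CommRing B] [Algebra k B] (g h : Pt k c.A B), h ∈ S B →
      g * h * g⁻¹ ∈ S B) {a b : D.idx} (hm : m = 2 ∨ m = 3) (hab : D.P.pairing a b = -m)
    (hba : D.P.pairing b a = -1) (h : Tan D I a) : Tan D I (D.P.reflectionPerm a b) := by
  have := isReduced D
  obtain ⟨L, δ, hL, hL', hδ, hδ0⟩ := exists_list D c
  have hlin := linIndep (by omega) hab hba
  obtain ⟨C, C', d, d', h1, h2, h3, h4, h5⟩ := exists_comm hlin hδ hδ0
  have he := root_reflect (P := D.P) hba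
  have hC : C (D.P.reflectionPerm a b) ≠ 0 :=
    C_ne_zero hlin he rfl (not_root_add hm hab hba) (not_root_sub hm hab hba) h1 h4
  obtain ⟨h6, h7, h8⟩ := h3 _ he
  have hε : (DualNumber.eps : DualNumber k) * DualNumber.eps = 0 := DualNumber.eps_mul_eps
  have h9 := mem_of_tan hS h hε
  have h10 := mul_mem h9 (hn _ ((c.datum D).uu b (DualNumber k) 1) _ (inv_mem h9))
  rw [← mul_assoc, ← mul_assoc, h5 _ _ _ hε] at h10
  intro f hf
  let K : Ideal (DualNumber k) := Ideal.span {DualNumber.eps}
  have hK : K * K = ⊥ := by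
    rw [Ideal.span_mul_span, Set.singleton_mul_singleton, hε, Ideal.span_singleton_eq_bot]
  have h11 := weights (D := c.datum D) (fun B _ _ => S B) hS
    (fun B _ _ t g hg => hn B _ g hg) hK hL hL'
    (fun e => Ideal.mul_mem_left _ _ (Ideal.mul_mem_left _ _
      (Ideal.subset_span (Set.mem_singleton _)))) h10 (D.P.reflectionPerm a b) hf
  rw [one_pow, one_mul] at h11
  exact eq_zero_of_mul_eps (h6 ▸ hC) h11

/-- **A closed normal subgroup with a root vector contains the short root vectors.** -/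
theorem tan_short {m : ℤ} (hS : Cut I S)
    (hn : ∀ (B : Type u) [CommRing B] [Algebra k B] (g h : Pt k c.A B), h ∈ S B →
      g * h * g⁻¹ ∈ S B) (hirr : Irr D.P) {a b : D.idx} (hm : m = 2 ∨ m = 3)
    (hab : D.P.pairing a b = -m) (hba : D.P.pairing b a = -1) {e : D.idx} (h : Tan D I e) :
    Tan D I b := by
  have := isReduced D
  rcases conj_or hirr hm hab hba e with h1 | h1
  · have h2 := tan_bracket hS hn hm hab hba (tan_conj hS hn h1 h)
    have h3 := tan_reflect hS hn a h2
    rwa [RootPairing.reflectionPerm_self] at h3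
  · exact tan_conj hS hn h1 h

/-- tangent vectors of pinned cell data -/
lemma tan_pin {b : D.P.Base} (E : PinCell D.P b k c.A)
    (hE : ∀ (B : Type u) [CommRing B] [Algebra k B] (t : TPt D.M B),
      E.i B t = (c.datum D).i B t) (a : D.idx) :
    ∃ r : kˣ, ∀ f, tan E.toDatum a f = tan (c.datum D) a f * r := by
  obtain ⟨r, hr⟩ := exists_scale E hE a
  refine ⟨r, fun f => ?_⟩
  have hε : (DualNumber.eps : DualNumber k) * DualNumber.eps = 0 := DualNumber.eps_mul_eps
  have h1 := dd_uu E.toDatum a hε f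
  have h2 := dd_uu (c.datum D) a (x := algebraMap k (DualNumber k) r * DualNumber.eps) (by
    rw [mul_mul_mul_comm, hε, mul_zero]) f
  have h3 : E.toDatum.uu a (DualNumber k) DualNumber.eps =
      (c.datum D).uu a (DualNumber k) (algebraMap k (DualNumber k) r * DualNumber.eps) := hr _ _
  rw [h3, h2] at h1
  have h4 := congrArg TrivSqZeroExt.snd h1
  rw [← mul_assoc, ← map_mul, TrivSqZeroExt.algebraMap_eq_inl] at h4
  simpa using h4.symm

/-- **A closed infinitesimal normal subgroup has a root vector or is central.** -/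
theorem tan_or_central (hS : Cut I S)
    (hn : ∀ (B : Type u) [CommRing B] [Algebra k B] (g h : Pt k c.A B), h ∈ S B →
      g * h * g⁻¹ ∈ S B)
    (hnil : IsNilpotent ((RingHom.ker ((1 : Pt k c.A k).hom : c.A →+* k)).map
      (Ideal.Quotient.mk I))) :
    (∃ a, Tan D I a) ∨
      ∀ (B : Type u) [CommRing B] [Algebra k B] (g : Pt k c.A B), g ∈ S B →
        ∀ h : Pt k c.A B, g * h = h * g := by
  classical
  have := isReduced D
  obtain ⟨b⟩ := BaseZ.nonempty_base D.P
  obtain ⟨E, hE⟩ := Groth.Agent.Agf.H613.TwGlue.exists_pinCell D b c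
  rcases exists_tan_or_torus E (fun B _ _ => S B) hS (fun B _ _ t g hg => hn B _ g hg) hnil with
    ⟨a, ha⟩ | h
  · left
    obtain ⟨r, hr⟩ := tan_pin E hE a
    refine ⟨a, fun f hf => ?_⟩
    have h1 := ha f hf
    rw [hr] at h1
    exact (mul_eq_zero.mp h1).resolve_right r.ne_zero
  · right
    intro B _ _ g hg g'
    obtain ⟨t, ht⟩ := h B g hg
    have ht1 : ∀ a : D.idx, TPt.ch (D.P.root a) t = 1 := by
      intro a
      have h1 := hn B (E.uu a B 1) _ hg
      obtain ⟨t', ht'⟩ := h B _ h1
      have h2 : E.uu a B 1 * g * (E.uu a B 1)⁻¹ =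
          E.uu a B (1 - TPt.ch (D.P.root a) t) * E.i B t := by
        rw [ht, sub_eq_add_neg, E.uu_add, PinCell.uu_neg, ← mul_one (TPt.ch (D.P.root a) t),
          ← E.rel]
        group
      have h3 : E.cell (Function.update (fun _ => 0) a (1 - TPt.ch (D.P.root a) t)) t =
          E.cell (fun _ => 0) t' := by
        rw [cell_zero, ← ht', h2]
        have := Datum.prod_uu_single (D := E.toDatum) (allList_nodup b) (mem_allList b a)
          (y := Function.update (fun _ => (0 : B)) a (1 - TPt.ch (D.P.root a) t))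
          (fun e he => Function.update_of_ne he _ _)
        rw [Function.update_self] at this
        rw [PinCell.cell]
        exact congrArg (· * E.i B t) this
      have h4 := congrFun (E.cell_injective h3).1 a
      rw [Function.update_self] at h4
      exact (sub_eq_zero.mp h4).symm
    have := c.smooth D.reductive
    rw [ht, hE]
    exact Datum.i_central (c.good D) (c.cellGeomDom D.reductive) t ht1 g'

end K803.HtOne
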