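import Groth.Agent.ParSch.K803.Str

/-!
# The Weyl group elements `n_a` for arbitrary roots, non-vanishing of structure constants
-/

set_option autoImplicit false
universe u

open CategoryTheory AlgebraicGeometry

namespace K803.Nn

open Groth.Agent.Sga3B Groth.Agent.Sga3B.Cell Groth.Agent.Sga3B.PinMod
open K803.SubPt K803.Gen K803.Split K803.Lie K803.Str

section base

variable {κ M N : Type*} [Finite κ] [AddCommGroup M] [AddCommGroup N]
  [Module.Finite ℤ M] (P : RootPairing κ ℤ M N) [P.IsReduced]

omit [Finite κ] [Module.Finite ℤ M] [P.IsReduced] in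
lemma exists_base_mem_reflection {a : κ} (j : κ) (h : ∃ b : P.Base, a ∈ b.support) :
    ∃ b : P.Base, P.reflectionPerm j a ∈ b.support := by
  obtain ⟨b, hb⟩ := h
  refine ⟨BaseZ.comapBase (RootPairing.Equiv.reflection P j) b, ?_⟩
  rw [BaseZ.mem_comapBase_support]
  change P.reflectionPerm j (P.reflectionPerm j a) ∈ b.support
  rwa [P.reflectionPerm_self]

/-- every root belongs to a base -/
theorem exists_base_mem (a : κ) : ∃ b : P.Base, a ∈ b.support := by
  obtain ⟨b⟩ := BaseZ.nonempty_base P
  exact b.induction_reflect a (p := fun i => ∃ b' : P.Base, i ∈ b'.support)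
    (fun i h => exists_base_mem_reflection P i h) (fun i h => ⟨b, h⟩)
    (fun i j h _ => exists_base_mem_reflection P j h)

end base

variable {k : Type u} [Field k] {G : Over (Spec (CommRingCat.of k))} [GrpObj G]
  {D : Red.SplitRed G} {c : Chart G (𝟙 (Spec (CommRingCat.of k)))}

lemma unit_cancel {B : Type u} [CommRing B] [Algebra k B] (r : kˣ) (x : B) :
    algebraMap k B r * (algebraMap k B ((r⁻¹ : kˣ) : k) * x) = x := by
  rw [← mul_assoc, ← map_mul, Units.mul_inv, map_one, one_mul]

variable (D c) in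
/-- the product `u_a(r) u_{-a}(r') u_a(r)` -/
noncomputable def nn (a : D.idx) (r r' : kˣ) (B : Type u) [CommRing B] [Algebra k B] :
    Pt k c.A B :=
  (c.datum D).uu a B (algebraMap k B r) *
    (c.datum D).uu (D.P.reflectionPerm a a) B (algebraMap k B r') *
    (c.datum D).uu a B (algebraMap k B r)

variable (D c) in
/-- the elements `n_a` -/
theorem exists_nn (a : D.idx) : ∃ r r' : kˣ, ∀ e : D.idx, ∃ s : kˣ,
    ∀ (B : Type u) [CommRing B] [Algebra k B] (x : B),
      nn D c a r r' B * (c.datum D).uu e B x * (nn D c a r r' B)⁻¹ =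
        (c.datum D).uu (D.P.reflectionPerm a e) B (algebraMap k B s * x) := by
  have := isReduced D
  obtain ⟨b, hb⟩ := exists_base_mem D.P a
  obtain ⟨E, hE⟩ := Groth.Agent.Agf.H613.TwGlue.exists_pinCell D b c
  obtain ⟨r, hr⟩ := exists_scale E hE a
  obtain ⟨r', hr'⟩ := exists_scale E hE (D.P.reflectionPerm a a)
  refine ⟨r, -r', fun e => ?_⟩
  obtain ⟨t, ht⟩ := exists_scale E hE e
  obtain ⟨t', ht'⟩ := exists_scale E hE (D.P.reflectionPerm a e)
  obtain ⟨s, hs⟩ := E.nn_conj hb e
  refine ⟨t' * s * t⁻¹, fun B _ _ x => ?_⟩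
  have h1 : nn D c a r (-r') B = E.nn a B := by
    rw [nn, PinCell.nn, hr, hr', mul_one, mul_neg_one]
    congr 3
    rw [Units.val_neg, map_neg]
  have h2 : (c.datum D).uu e B x = E.uu e B (algebraMap k B ((t⁻¹ : kˣ) : k) * x) := by
    rw [ht, unit_cancel]
  rw [h1, h2, hs, ht']
  congr 1
  rw [Units.val_mul, Units.val_mul, map_mul, map_mul]
  ring

variable (D c) in
/-- different root groups intersect trivially -/
lemma eq_zero_of_uu_eq {a e : D.idx} (h : a ≠ e) {B : Type u} [CommRing B] [Algebra k B] {x y : B}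
    (hxy : (c.datum D).uu a B x = (c.datum D).uu e B y) : x = 0 := by
  classical
  have := isReduced D
  obtain ⟨b⟩ := BaseZ.nonempty_base D.P
  obtain ⟨E, hE⟩ := Groth.Agent.Agf.H613.TwGlue.exists_pinCell D b c
  obtain ⟨r, hr⟩ := exists_scale E hE a
  obtain ⟨r', hr'⟩ := exists_scale E hE e
  have h1 : E.uu a B (algebraMap k B ((r⁻¹ : kˣ) : k) * x) =
      E.uu e B (algebraMap k B ((r'⁻¹ : kˣ) : k) * y) := by
    rw [hr, hr', unit_cancel, unit_cancel, hxy]
  have h2 : ∀ (a : D.idx) (x : B), E.cell (Function.update (fun _ => 0) a x) 1 = E.uu a B x := by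
    intro a x
    have := Datum.cell_single (D := E.toDatum) (allList_nodup b) (mem_allList b a)
      (y := Function.update (fun _ => (0 : B)) a x)
      (fun e he => Function.update_of_ne he _ _)
    refine this.trans ?_
    rw [Function.update_self]
    rfl
  rw [← h2, ← h2] at h1
  have h3 := congrFun (E.cell_injective h1).1 a
  rw [Function.update_self, Function.update_of_ne h] at h3
  have h4 : algebraMap k B (r : k) * (algebraMap k B ((r⁻¹ : kˣ) : k) * x) = 0 := by
    rw [h3, mul_zero]
  rwa [unit_cancel] at h4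

lemma linIndep_neg_left {a b : D.idx} (h : LinearIndependent ℤ ![D.P.root a, D.P.root b]) :
    LinearIndependent ℤ ![D.P.root (D.P.reflectionPerm a a), D.P.root b] := by
  rw [LinearIndependent.pair_iff] at h ⊢
  intro s t hst
  have := h (-s) t (by
    rw [RootPairing.root_reflectionPerm, RootPairing.reflection_apply_self] at hst
    rw [← hst]
    simp)
  omega

/-- `u_a` and `u_b(ε)` commute if no `i a + b` is a root -/
lemma comm_of_no_root {a b : D.idx} (hlin : LinearIndependent ℤ ![D.P.root a, D.P.root b])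
    (hno : ∀ (e : D.idx) (i : ℕ), i ≠ 0 → i • D.P.root a + D.P.root b ≠ D.P.root e)
    {B : Type u} [CommRing B] [Algebra k B] (x ε : B) (hε : ε * ε = 0) :
    (c.datum D).uu a B x * (c.datum D).uu b B ε = (c.datum D).uu b B ε * (c.datum D).uu a B x := by
  obtain ⟨L, δ, hL, hL', hδ, hδ0⟩ := exists_list D c
  obtain ⟨C, C', d, d', h1, h2, h3, h4, h5⟩ := exists_comm hlin hδ hδ0
  have h6 : C = fun _ => 0 := by
    funext e
    by_contra h
    exact hno e _ (h1 e h).1 (h1 e h).2
  have h7 := h4 B x ε hε
  have h8 : (c.datum D).cell L (fun e => algebraMap k B (C e) * (x ^ d e * ε)) 1 = 1 := by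
    rw [h6]
    simp only [map_zero, zero_mul]
    rw [Datum.cell_zero, map_one]
  rw [h8, mul_inv_eq_one, mul_inv_eq_iff_eq_mul] at h7
  exact h7

/-- **Non-vanishing of structure constants at the end of a string of length one.** -/
theorem C_ne_zero {a b e : D.idx} (hlin : LinearIndependent ℤ ![D.P.root a, D.P.root b])
    (he : D.P.root a + D.P.root b = D.P.root e) (hre : D.P.reflectionPerm a b = e)
    (hno : ∀ (e' : D.idx) (i : ℕ), 2 ≤ i → i • D.P.root a + D.P.root b ≠ D.P.root e')
    (hno' : ∀ (e' : D.idx) (i : ℕ), i ≠ 0 →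
      i • D.P.root (D.P.reflectionPerm a a) + D.P.root b ≠ D.P.root e')
    {L : List D.idx} {C : D.idx → k} {d : D.idx → ℕ}
    (hC : ∀ e, C e ≠ 0 → d e ≠ 0 ∧ d e • D.P.root a + D.P.root b = D.P.root e)
    (hv : ∀ (B : Type u) [CommRing B] [Algebra k B] (x ε : B), ε * ε = 0 →
        (c.datum D).uu a B x * (c.datum D).uu b B ε * ((c.datum D).uu a B x)⁻¹ *
          ((c.datum D).uu b B ε)⁻¹ =
          (c.datum D).cell L (fun e => algebraMap k B (C e) * (x ^ d e * ε)) 1) : C e ≠ 0 := by
  intro h0
  have h6 : C = fun _ => 0 := by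
    funext e'
    by_contra h
    obtain ⟨h1, h2⟩ := hC e' h
    rcases Nat.lt_or_ge (d e') 2 with h3 | h3
    · have h4 : d e' = 1 := by omega
      rw [h4, one_smul, he] at h2
      exact h (D.P.root.injective h2 ▸ h0)
    · exact hno e' _ h3 h2
  obtain ⟨r, r', hn⟩ := exists_nn D c a
  obtain ⟨s, hs⟩ := hn b
  let ε : DualNumber k := DualNumber.eps
  have hε : ε * ε = 0 := DualNumber.eps_mul_eps
  have hcomm : ∀ x : DualNumber k, (c.datum D).uu a (DualNumber k) x *
      (c.datum D).uu b (DualNumber k) ε =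
      (c.datum D).uu b (DualNumber k) ε * (c.datum D).uu a (DualNumber k) x := by
    intro x
    have h7 := hv (DualNumber k) x ε hε
    have h8 : (c.datum D).cell L (fun e => algebraMap k (DualNumber k) (C e) * (x ^ d e * ε)) 1 =
        1 := by
      rw [h6]
      simp only [map_zero, zero_mul]
      rw [Datum.cell_zero, map_one]
    rw [h8, mul_inv_eq_one, mul_inv_eq_iff_eq_mul] at h7
    exact h7
  have hcomm' := fun x => comm_of_no_root (c := c) (linIndep_neg_left hlin) hno' x ε hε
  have h9 := hs (DualNumber k) ε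
  have h10 : nn D c a r r' (DualNumber k) * (c.datum D).uu b (DualNumber k) ε *
      (nn D c a r r' (DualNumber k))⁻¹ = (c.datum D).uu b (DualNumber k) ε := by
    rw [mul_inv_eq_iff_eq_mul, nn]
    have e1 := hcomm (algebraMap k (DualNumber k) r)
    have e2 := hcomm' (algebraMap k (DualNumber k) r')
    exact ((show Commute _ _ from e1).mul_left (show Commute _ _ from e2)).mul_left e1
  rw [h10, hre] at h9
  have hbe : b ≠ e := by
    rintro rfl
    have : D.P.root a = 0 := by simpa using he
    exact D.P.ne_zero a this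
  have h11 := eq_zero_of_uu_eq D c hbe h9
  exact one_ne_zero (congrArg TrivSqZeroExt.snd h11)

end K803.Nn
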