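import Groth.Agent.ParSch.K803.HtOne
import Groth.Agent.Red.K214.ChevPts
import Groth.Agent.Red.K214.PairG
import Groth.Agent.Red.K214.ChainComb

/-!
# Brackets of root vectors

The structure constant of two roots `a, b` with `a + b` a root is `± (r + 1)`, `r` the largest
integer with `b - r a` a root.
-/

set_option autoImplicit false
universe u

open CategoryTheory AlgebraicGeometry

namespace K803.Brk

open Groth.Agent.Sga3B Groth.Agent.Sga3B.Cell Groth.Agent.Sga3B.Cell.Datum Groth.Agent.Sga3B.PinMod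
open K803.SubPt K803.Gen K803.Split K803.Lie K803.Str K803.Nn K803.Pair2 K803.HtOne
open K213.RkOneR K213 K214.PairComb K214.Pair K214.ChainComb
open K213.Rk2 (nn_conj)

section datum

variable {k A : Type u} [Field k] [CommRing A] [Algebra k A] [PtGrp k A] {D : Datum k A}

/-- the bracket of `e_a` and `e_b` is a non-zero multiple of `e_e` -/
def Br (D : Datum k A) (a b e : D.idx) : Prop := ∃ N : k, N ≠ 0 ∧
  ∀ (B : Type u) [CommRing B] [Algebra k B] (x y : B), x * x = 0 → y * y = 0 →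
    D.uu b B y * D.uu a B x = D.uu a B x * (D.uu b B y * D.uu e B (algebraMap k B N * (x * y)))

lemma Br.symm {a b e : D.idx} (h : Br D a b e) : Br D b a e := by
  obtain ⟨N, hN, h⟩ := h
  refine ⟨-N, neg_ne_zero.mpr hN, fun B _ _ x y hx hy => ?_⟩
  have h1 := h B y x hy hx
  have h2 : algebraMap k B (-N) * (x * y) = -(algebraMap k B N * (y * x)) := by
    rw [map_neg]; ring
  rw [h2, D.uu_neg, ← mul_assoc, h1]
  group

lemma br_of_rescale {κ : D.idx → kˣ} {a b e : D.idx} (h : Br (D.rescale κ) a b e) :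
    Br D a b e := by
  obtain ⟨N, hN, h⟩ := h
  refine ⟨(κ e : k) * N * ((κ a)⁻¹ : kˣ) * ((κ b)⁻¹ : kˣ), by simp [hN], fun B _ _ x y hx hy => ?_⟩
  have h1 := h B (algebraMap k B ((κ a)⁻¹ : kˣ) * x) (algebraMap k B ((κ b)⁻¹ : kˣ) * y)
    (by rw [mul_mul_mul_comm, hx, mul_zero]) (by rw [mul_mul_mul_comm, hy, mul_zero])
  change D.uu b B (algebraMap k B (κ b) * (algebraMap k B ((κ b)⁻¹ : kˣ) * y)) *
    D.uu a B (algebraMap k B (κ a) * (algebraMap k B ((κ a)⁻¹ : kˣ) * x)) =
    D.uu a B (algebraMap k B (κ a) * (algebraMap k B ((κ a)⁻¹ : kˣ) * x)) *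
      (D.uu b B (algebraMap k B (κ b) * (algebraMap k B ((κ b)⁻¹ : kˣ) * y)) *
      D.uu e B (algebraMap k B (κ e) * (algebraMap k B N *
        (algebraMap k B ((κ a)⁻¹ : kˣ) * x * (algebraMap k B ((κ b)⁻¹ : kˣ) * y))))) at h1
  rw [unit_cancel, unit_cancel] at h1
  rw [h1]
  congr 3
  rw [map_mul, map_mul, map_mul]
  ring

variable (P : RootPairing D.idx ℤ D.M (Module.Dual ℤ D.M)) (hP : ∀ a, P.root a = D.root a)
  (hpe : P.toLinearMap = Module.Dual.eval ℤ D.M) (Δ : P.Base) (hG : D.Good) {a b : D.idx}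
  (hI : Ind P a b)
  (hra : Rank1 P a) (hrb : Rank1 P b)

include hP hpe Δ hG hI hra hrb

lemma br_a2 (pba : P.pairing b a = -1) (pab : P.pairing a b = -1) :
    Br D a b (P.reflectionPerm b a) := by
  obtain ⟨s, hs⟩ := nn_conj P hP hpe Δ hG hrb a
  refine ⟨s, s.ne_zero, fun B _ _ x y hx hy => ?_⟩
  have h := (K214.Pair.a2 P hP hpe Δ hG hI hra hrb pba pab (B := B)
    (fun x => nn P b B * D.uu a B x * (nn P b B)⁻¹) (fun x => rfl)).1 x y
  rw [hs] at h
  exact h

lemma br_b2 (pba : P.pairing b a = -2) (pab : P.pairing a b = -1) :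
    Br D a b (P.reflectionPerm b a) ∧
    ((2 : k) ≠ 0 → Br D a (P.reflectionPerm b a) (P.reflectionPerm a b)) := by
  obtain ⟨s, hs⟩ := nn_conj P hP hpe Δ hG hrb a
  obtain ⟨s', hs'⟩ := nn_conj P hP hpe Δ hG hra b
  have key : ∀ (B : Type u) [CommRing B] [Algebra k B], _ := fun B _ _ =>
    K214.Pair.b2 P hP hpe Δ hG hI hra hrb pba pab (B := B)
    (fun x => nn P b B * D.uu a B x * (nn P b B)⁻¹) (fun x => nn P a B * D.uu b B x * (nn P a B)⁻¹)
    (fun x => rfl) (fun x => rfl)
  refine ⟨⟨s, s.ne_zero, fun B _ _ x y hx hy => ?_⟩, fun h2 => ⟨2 * (s' : k) * ((s⁻¹ : kˣ) : k),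
    mul_ne_zero (mul_ne_zero h2 s'.ne_zero) (s⁻¹).ne_zero, fun B _ _ x y hx hy => ?_⟩⟩
  · have h := (key B).1.1 x y
    rw [hs, hs', pow_two, hx, zero_mul, mul_zero, D.uu_zero, mul_one] at h
    exact h
  · have h := (key B).1.2.1 x (algebraMap k B ((s⁻¹ : kˣ) : k) * y)
    rw [hs, hs', unit_cancel] at h
    rw [h]
    congr 3
    rw [map_mul, map_mul, map_ofNat]
    ring

lemma br_g2 (pba : P.pairing b a = -3) (pab : P.pairing a b = -1) :
    Br D a b (P.reflectionPerm b a) ∧
    ((2 : k) ≠ 0 → Br D a (P.reflectionPerm b a) (P.reflectionPerm a (P.reflectionPerm b a))) ∧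
    ((3 : k) ≠ 0 → Br D a (P.reflectionPerm a (P.reflectionPerm b a)) (P.reflectionPerm a b)) := by
  obtain ⟨s, hs⟩ := nn_conj P hP hpe Δ hG hrb a
  obtain ⟨s', hs'⟩ := nn_conj P hP hpe Δ hG hra (P.reflectionPerm b a)
  obtain ⟨s2, hs2⟩ := nn_conj P hP hpe Δ hG hra b
  obtain ⟨s3, hs3⟩ := nn_conj P hP hpe Δ hG hrb (P.reflectionPerm a b)
  have key : ∀ (B : Type u) [CommRing B] [Algebra k B], _ := fun B _ _ =>
    K214.Pair.g2 P hP hpe Δ hG hI hra hrb pba pab (B := B)
    (fun x => nn P b B * D.uu a B x * (nn P b B)⁻¹)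
    (fun x => nn P a B * (nn P b B * D.uu a B x * (nn P b B)⁻¹) * (nn P a B)⁻¹)
    (fun x => nn P a B * D.uu b B (-x) * (nn P a B)⁻¹)
    (fun x => nn P b B * (nn P a B * D.uu b B (-x) * (nn P a B)⁻¹) * (nn P b B)⁻¹)
    (fun x => rfl) (fun x => rfl) (fun x => rfl) (fun x => rfl)
  refine ⟨⟨s, s.ne_zero, fun B _ _ x y hx hy => ?_⟩, fun h2 => ⟨2 * (s' : k),
    mul_ne_zero h2 s'.ne_zero, fun B _ _ x y hx hy => ?_⟩, fun h3 =>
    ⟨-(3 * (s2 : k) * ((s⁻¹ : kˣ) : k) * ((s'⁻¹ : kˣ) : k)),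
    neg_ne_zero.mpr (mul_ne_zero (mul_ne_zero (mul_ne_zero h3 s2.ne_zero) (s⁻¹).ne_zero)
      (s'⁻¹).ne_zero), fun B _ _ x y hx hy => ?_⟩⟩
  · have h := (key B).1.1 x y
    have e1 : x ^ 2 * y = 0 := by rw [pow_two, hx, zero_mul]
    have e2 : x ^ 3 * y = 0 := by rw [pow_succ, pow_two, hx, zero_mul, zero_mul]
    have e3 : x ^ 3 * y ^ 2 = 0 := by rw [pow_succ, pow_two, hx, zero_mul, zero_mul]
    simp only [hs, hs', hs2, hs3, e1, e2, e3, mul_zero, neg_zero, D.uu_zero, mul_one,
      mul_inv_cancel] at h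
    exact h
  · have h := (key B).1.2.1 x (algebraMap k B ((s⁻¹ : kˣ) : k) * y)
    have e1 : 3 * x ^ 2 * (algebraMap k B ((s⁻¹ : kˣ) : k) * y) = 0 := by
      rw [pow_two, hx, mul_zero, zero_mul]
    have e2 : 3 * x * (algebraMap k B ((s⁻¹ : kˣ) : k) * y) ^ 2 = 0 := by
      rw [mul_pow, pow_two y, hy, mul_zero, mul_zero]
    have e3 : algebraMap k B (s : k) * (2 * x * (algebraMap k B ((s⁻¹ : kˣ) : k) * y)) =
        2 * x * y := by
      rw [show algebraMap k B (s : k) * (2 * x * (algebraMap k B ((s⁻¹ : kˣ) : k) * y)) =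
        2 * x * (algebraMap k B (s : k) * (algebraMap k B ((s⁻¹ : kˣ) : k) * y)) by ring,
        unit_cancel]
    simp only [hs, hs', hs2, hs3, e1, e2, e3, mul_zero, neg_zero, D.uu_zero, mul_one,
      unit_cancel, mul_inv_cancel] at h
    rw [h]
    congr 3
    rw [map_mul, map_ofNat]
    ring
  · have h := (key B).1.2.2.1 x (algebraMap k B ((s⁻¹ : kˣ) : k) *
      (algebraMap k B ((s'⁻¹ : kˣ) : k) * y))
    simp only [hs, hs', hs2] at h
    rw [unit_cancel, unit_cancel] at h
    rw [h]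
    congr 3
    rw [map_neg, map_mul, map_mul, map_mul, map_ofNat]
    ring

end datum

section grp

open scoped TensorProduct

variable {k : Type u} [Field k] {G : Over (Spec (CommRingCat.of k))} [GrpObj G]
  {D : Red.SplitRed G} {c : Chart G (𝟙 (Spec (CommRingCat.of k)))}

variable (D c) in
lemma exists_rel (a : D.idx) : ∃ κ : kˣ, K214.DatumChev.Rel (D := c.datum D) D.P a κ := by
  have := isReduced D
  have hsm := c.smooth D.reductive
  have hdom : ∀ (K : Type u) [Field K] [Algebra k K], IsDomain (K ⊗[k] c.A) :=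
    fun K _ _ => c.geomDom D.reductive K
  obtain ⟨Δ⟩ := BaseZ.nonempty_base D.P
  obtain ⟨n, hn⟩ := PinModelOf.exists_acts D c a
  exact K214.DatumChev.exists_rel (D := c.datum D) hdom (c.good D) D.P (fun _ => rfl) D.pairing_eq Δ
    a ⟨n, fun t => PinModelOf.conj_of_acts (D := c.datum D) D.P (fun _ => rfl) D.pairing_eq hn t⟩

variable (c) in
/-- a rescaling of the datum of a chart, normalised at two roots -/
theorem exists_kit {a b : D.idx} (hI : Ind D.P a b) : ∃ κ : D.idx → kˣ,
    Rank1 (D := (c.datum D).rescale κ) D.P a ∧ Rank1 (D := (c.datum D).rescale κ) D.P b := by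
  obtain ⟨κ₁, h₁⟩ := exists_rel D c a
  obtain ⟨κ₂, h₂⟩ := exists_rel D c b
  obtain ⟨e1, e2, e3, e4⟩ := K214.ChevPts.ne_neg hI
  obtain ⟨κ, -, h3, h4, -⟩ := K214.ChevDual.kit_aux (D := c.datum D) D.P e1 e2 e3 e4 hI.ne h₁ h₂
  exact ⟨κ, h3, h4⟩

variable (c) in
lemma br1 {a b : D.idx} (hI : Ind D.P a b) (h : (D.P.pairing b a, D.P.pairing a b) ∈
    ({(-1, -1), (-2, -1), (-3, -1)} : Set (ℤ × ℤ))) :
    Br (c.datum D) a b (D.P.reflectionPerm b a) := by
  have := isReduced D
  obtain ⟨Δ⟩ := BaseZ.nonempty_base D.P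
  obtain ⟨κ, ha, hb⟩ := exists_kit c hI
  have hG := Good.rescale (c.datum D) κ (c.good D)
  apply br_of_rescale (κ := κ)
  simp only [Set.mem_insert_iff, Set.mem_singleton_iff, Prod.mk.injEq] at h
  rcases h with ⟨h1, h2⟩ | ⟨h1, h2⟩ | ⟨h1, h2⟩
  · exact br_a2 (D := (c.datum D).rescale κ) D.P (fun _ => rfl) D.pairing_eq Δ hG hI ha hb h1 h2
  · exact (br_b2 (D := (c.datum D).rescale κ) D.P (fun _ => rfl) D.pairing_eq Δ hG hI ha hb h1 h2).1
  · exact (br_g2 (D := (c.datum D).rescale κ) D.P (fun _ => rfl) D.pairing_eq Δ hG hI ha hb h1 h2).1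

variable (c) in
/-- **The bracket of two root vectors.** -/
theorem br {a b e : D.idx} (hli : LI D.P a b) (he : D.P.root a + D.P.root b = D.P.root e)
    {r : ℕ} (hr : D.P.root b - (r : ℤ) • D.P.root a ∈ Set.range D.P.root)
    (hr' : D.P.root b - ((r : ℤ) + 1) • D.P.root a ∉ Set.range D.P.root)
    (hk : ((r + 1 : ℕ) : k) ≠ 0) : Br (c.datum D) a b e := by
  have := isReduced D
  obtain ⟨Δ⟩ := BaseZ.nonempty_base D.P
  obtain ⟨p, q, hpq, hch⟩ := chain hli
  have hq : (1 : ℤ) ≤ q := ((hch 1).mp ⟨e, by rw [← he]; module⟩).2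
  have hrp : (r : ℤ) = p := by
    have h1 := (hch (-(r : ℤ))).mp (by
      have : D.P.root b + (-(r : ℤ)) • D.P.root a = D.P.root b - (r : ℤ) • D.P.root a := by module
      rw [this]; exact hr)
    have h2 : ¬ (-(p : ℤ) ≤ -((r : ℤ) + 1) ∧ -((r : ℤ) + 1) ≤ q) := by
      rw [← hch]
      have : D.P.root b + (-((r : ℤ) + 1)) • D.P.root a =
        D.P.root b - ((r : ℤ) + 1) • D.P.root a := by module
      rw [this]; exact hr'
    omega
  obtain rfl : r = p := by exact_mod_cast hrp
  obtain ⟨b₀, hb₀⟩ := hr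
  have hb₀' : D.P.root b₀ = D.P.root b + (-(r : ℤ)) • D.P.root a := by rw [hb₀]; module
  have hli₀ := hli.of_root hb₀'
  have hp₀ := pairing_of_root hb₀'
  have hI : Ind D.P a b₀ := ⟨hli₀, by
    rw [hb₀]
    have : D.P.root b - (r : ℤ) • D.P.root a - D.P.root a =
        D.P.root b - ((r : ℤ) + 1) • D.P.root a := by module
    rw [this]; exact hr'⟩
  have hset := mem_set hli₀
  have hcases := pair_cases hli₀
  rcases Nat.eq_zero_or_pos r with rfl | hr0
  · obtain rfl : b₀ = b := D.P.root.injective (by rw [hb₀]; simp)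
    have h1 : D.P.pairing b₀ a < 0 := by
      have := hpq
      push_cast at this
      omega
    simp only [Set.mem_insert_iff, Set.mem_singleton_iff, Prod.mk.injEq] at hset
    have h2 : D.P.pairing a b₀ = -1 ∨ (D.P.pairing b₀ a = -1 ∧ D.P.pairing a b₀ ≠ -1) := by omega
    rcases h2 with h2 | h2
    · have h3 : D.P.reflectionPerm b₀ a = e := by
        apply D.P.root.injective
        rw [D.P.root_reflectionPerm, D.P.reflection_apply_root, h2, ← he]
        module
      rw [← h3]
      apply br1 c hI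
      simp only [Set.mem_insert_iff, Set.mem_singleton_iff, Prod.mk.injEq]
      omega
    · have h3 : D.P.reflectionPerm a b₀ = e := by
        apply D.P.root.injective
        rw [D.P.root_reflectionPerm, D.P.reflection_apply_root, h2.1, ← he]
        module
      rw [← h3]
      apply Br.symm
      apply br1 c hI.symm
      simp only [Set.mem_insert_iff, Set.mem_singleton_iff, Prod.mk.injEq]
      omega
  · have h1 : D.P.pairing b₀ a = -(r : ℤ) - q := by rw [hp₀, ← hpq]; ring
    have hab : D.P.pairing a b₀ = -1 := by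
      simp only [Set.mem_insert_iff, Set.mem_singleton_iff, Prod.mk.injEq] at hset
      omega
    obtain ⟨κ, ha, hb⟩ := exists_kit c hI
    have hG := Good.rescale (c.datum D) κ (c.good D)
    apply br_of_rescale (κ := κ)
    have hc1 : D.P.root (D.P.reflectionPerm b₀ a) = D.P.root a + D.P.root b₀ := by
      rw [D.P.root_reflectionPerm, D.P.reflection_apply_root, hab]
      module
    have hd1 : D.P.root (D.P.reflectionPerm a b₀) =
        (-(D.P.pairing b₀ a)) • D.P.root a + D.P.root b₀ := by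
      rw [D.P.root_reflectionPerm, D.P.reflection_apply_root]
      module
    have hb2 : D.P.root b = (r : ℤ) • D.P.root a + D.P.root b₀ := by rw [hb₀]; module
    have he2 : D.P.root e = ((r : ℤ) + 1) • D.P.root a + D.P.root b₀ := by rw [← he, hb₀]; module
    obtain rfl | rfl : r = 1 ∨ r = 2 := by omega
    · have hbb : D.P.reflectionPerm b₀ a = b := D.P.root.injective (by rw [hc1, hb2]; simp)
      rcases (by omega : D.P.pairing b₀ a = -2 ∨ D.P.pairing b₀ a = -3) with h2 | h2
      · have hee : D.P.reflectionPerm a b₀ = e := D.P.root.injective (by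
          rw [hd1, he2, h2]; norm_num)
        rw [← hbb, ← hee]
        exact (br_b2 (D := (c.datum D).rescale κ) D.P (fun _ => rfl) D.pairing_eq Δ hG hI ha hb
          h2 hab).2 (by exact_mod_cast hk)
      · have hee : D.P.reflectionPerm a (D.P.reflectionPerm b₀ a) = e := D.P.root.injective (by
          rw [D.P.root_reflectionPerm, hc1, map_add, D.P.reflection_apply_self,
            D.P.reflection_apply_root, h2, he2]
          push_cast
          module)
        rw [← hbb, ← hee]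
        exact (br_g2 (D := (c.datum D).rescale κ) D.P (fun _ => rfl) D.pairing_eq Δ hG hI ha hb
          h2 hab).2.1 (by exact_mod_cast hk)
    · have h2 : D.P.pairing b₀ a = -3 := by omega
      have hbb : D.P.reflectionPerm a (D.P.reflectionPerm b₀ a) = b := D.P.root.injective (by
          rw [D.P.root_reflectionPerm, hc1, map_add, D.P.reflection_apply_self,
            D.P.reflection_apply_root, h2, hb2]
          push_cast
          module)
      have hee : D.P.reflectionPerm a b₀ = e := D.P.root.injective (by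
          rw [hd1, he2, h2]; norm_num)
      rw [← hbb, ← hee]
      exact (br_g2 (D := (c.datum D).rescale κ) D.P (fun _ => rfl) D.pairing_eq Δ hG hI ha hb
          h2 hab).2.2 (by exact_mod_cast hk)

variable {I : Ideal c.A} {S : ∀ (B : Type u) [CommRing B] [Algebra k B], Subgroup (Pt k c.A B)}

omit [GrpObj G] in
variable (k) in
lemma exists_two : ∃ (B : Type u) (_ : CommRing B) (_ : Algebra k B) (x y : B),
    x * x = 0 ∧ y * y = 0 ∧ ∀ r : k, algebraMap k B r * (x * y) = 0 → r = 0 := by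
  refine ⟨DualNumber (DualNumber k), inferInstance, inferInstance,
    algebraMap (DualNumber k) (DualNumber (DualNumber k)) DualNumber.eps, DualNumber.eps, ?_,
    DualNumber.eps_mul_eps, fun r hr => ?_⟩
  · rw [← map_mul, DualNumber.eps_mul_eps, map_zero]
  · have h1 : algebraMap k (DualNumber (DualNumber k)) r =
        algebraMap (DualNumber k) (DualNumber (DualNumber k)) (algebraMap k (DualNumber k) r) := rfl
    rw [h1, ← mul_assoc, ← map_mul] at hr
    have h2 := congrArg (fun z : DualNumber (DualNumber k) =>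
      TrivSqZeroExt.snd (TrivSqZeroExt.snd z)) hr
    simpa [TrivSqZeroExt.algebraMap_eq_inl] using h2

/-- brackets of root vectors of a closed subgroup -/
theorem tan_br (hS : Cut I S) {a b e : D.idx} (h : Br (c.datum D) a b e) (ha : Tan D I a)
    (hb : Tan D I b) : Tan D I e := by
  obtain ⟨N, hN, h⟩ := h
  obtain ⟨B, _, _, x, y, hx, hy, hxy⟩ := exists_two k
  have h1 := h B x y hx hy
  have h2 := mem_of_tan hS ha hx
  have h3 := mem_of_tan hS hb hy
  have h4 : (c.datum D).uu e B (algebraMap k B N * (x * y)) =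
      ((c.datum D).uu b B y)⁻¹ * (((c.datum D).uu a B x)⁻¹ *
        ((c.datum D).uu b B y * (c.datum D).uu a B x)) := by
    rw [h1]; group
  have h5 : (c.datum D).uu e B (algebraMap k B N * (x * y)) ∈ S B := by
    rw [h4]
    exact mul_mem (inv_mem h3) (mul_mem (inv_mem h2) (mul_mem h3 h2))
  intro f hf
  have h6 := tan_of_mem hS (by
    rw [show algebraMap k B N * (x * y) * (algebraMap k B N * (x * y)) =
      algebraMap k B N * algebraMap k B N * ((x * x) * (y * y)) by ring, hx, zero_mul,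
      mul_zero]) h5 hf
  rw [← mul_assoc, ← map_mul] at h6
  exact (mul_eq_zero.mp (hxy _ h6)).resolve_right hN

end grp

end K803.Brk
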