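import Groth.Agent.ParSch.K803.ContrQuot

/-!
# `f_* O_X = O_Y`: fppf descent
-/

set_option autoImplicit false
universe u

open CategoryTheory MonoidalCategory CartesianMonoidalCategory MonObj GrpObj AlgebraicGeometry Limits
open TopologicalSpace

namespace K803.ContrQuot

/-- bijectivity descends along faithfully flat cobase change -/
theorem bijective_of_isPushout {A B C D : CommRingCat.{u}} {f : A ⟶ B} {g : A ⟶ C} {h : B ⟶ D}
    {i : C ⟶ D} (sq : IsPushout f g h i) (hg : g.hom.FaithfullyFlat)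
    (hi : Function.Bijective i.hom) : Function.Bijective f.hom := by
  algebraize [f.hom, g.hom, h.hom, i.hom, (f ≫ h).hom]
  have : IsScalarTower A C D := .of_algebraMap_eq' (congrArg CommRingCat.Hom.hom sq.w)
  have : IsScalarTower A B D := .of_algebraMap_eq' rfl
  have : Algebra.IsPushout A B C D := by
    exact CommRingCat.isPushout_iff_isPushout.mp sq
  exact RingHom.FaithfullyFlat.codescendsAlong_bijective (R := A) (S := B) (R' := C) (S' := D) hg hi

section descent

variable {X Y X' Y' : Scheme.{u}} {g' : X' ⟶ X} {f' : X' ⟶ Y'} {f : X ⟶ Y} {g : Y' ⟶ Y}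

/-- `O_Y → f_* O_X` iso descends along fppf coverings (`f` qcqs). -/
theorem isIso_app_of_isPullback_of_cover (h : IsPullback g' f' f g) [QuasiCompact f]
    [QuasiSeparated f] [Flat g] [Surjective g] [LocallyOfFinitePresentation g]
    (hf : ∀ U : Y'.Opens, IsIso (f'.app U)) (V : Y.Opens) : IsIso (f.app V) := by
  refine Groth.Agent.FlatA.AppIso.isIso_app_of_forall_exists f (fun y => ?_) V
  obtain ⟨x, rfl⟩ := g.surjective y
  obtain ⟨U, hU, hyU, -⟩ := exists_isAffineOpen_mem_and_subset (x := g x) (U := ⊤) trivial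
  obtain ⟨W, hW, hyW, hWU⟩ := exists_isAffineOpen_mem_and_subset (x := x) (U := g ⁻¹ᵁ U) hyU
  -- shrink `U` to a basic open contained in `g W`
  let O : Y.Opens := ⟨g '' (W : Set Y'), g.isOpenMap _ W.2⟩
  obtain ⟨r, hr, hyr⟩ := hU.exists_basicOpen_le (V := O) ⟨g x, ⟨x, hyW, rfl⟩⟩ hyU
  let W' : Y'.Opens := Y'.basicOpen (g.appLE U W hWU r)
  have hW' : IsAffineOpen W' := hW.basicOpen _
  have hU' : IsAffineOpen (Y.basicOpen r) := hU.basicOpen _
  have hW'e : W' = W ⊓ g ⁻¹ᵁ (Y.basicOpen r) := by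
    exact Scheme.basicOpen_appLE g W U hWU r
  have hWU' : W' ≤ g ⁻¹ᵁ (Y.basicOpen r) := hW'e.trans_le inf_le_right
  have hxW' : x ∈ W' := by
    rw [hW'e]
    exact ⟨hyW, hyr⟩
  refine ⟨Y.basicOpen r, hU', hyr, ?_⟩
  have h1 := isIso_pushoutSection_of_isQuasiSeparated_of_flat_right h (US := Y.basicOpen r)
    (UT := W') (UX := f ⁻¹ᵁ (Y.basicOpen r)) hWU' le_rfl (UY := f' ⁻¹ᵁ W') (by
      rw [right_eq_inf]
      intro x hx
      have : g (f' x) ∈ Y.basicOpen r := hWU' hx
      rwa [← Scheme.Hom.comp_apply, ← h.w, Scheme.Hom.comp_apply] at this)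
    hU' hW' (f.isCompact_preimage hU'.isCompact) (f.isQuasiSeparated_preimage hU'.isQuasiSeparated)
  have h2 := (isIso_pushoutSection_iff ..).mp h1
  have h3 : IsIso (f'.appLE W' (f' ⁻¹ᵁ W') le_rfl) := by
    rw [Scheme.Hom.appLE_eq_app]
    exact hf _
  have hff : (g.appLE (Y.basicOpen r) W' hWU').hom.FaithfullyFlat := by
    rw [RingHom.FaithfullyFlat.iff_flat_and_comap_surjective]
    refine ⟨g.flat_appLE hU' hW' _, ?_⟩
    intro p
    have hp : hU'.fromSpec p ∈ Y.basicOpen r := by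
      have : hU'.fromSpec p ∈ hU'.fromSpec.opensRange := ⟨p, rfl⟩
      rwa [hU'.opensRange_fromSpec] at this
    obtain ⟨w, hw, hwp⟩ := hr hp
    have hwW' : w ∈ W' := by
      rw [hW'e]
      refine ⟨hw, ?_⟩
      change g w ∈ Y.basicOpen r
      rw [hwp]
      exact hp
    have hw2 : w ∈ hW'.fromSpec.opensRange := by rwa [hW'.opensRange_fromSpec]
    obtain ⟨v, hv⟩ := hw2
    refine ⟨v, ?_⟩
    apply hU'.fromSpec.injective
    have h5 := IsAffineOpen.SpecMap_appLE_fromSpec g hU' hW' hWU'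
    change hU'.fromSpec ((Spec.map (g.appLE (Y.basicOpen r) W' hWU')) v) = _
    rw [← Scheme.Hom.comp_apply, h5, Scheme.Hom.comp_apply, hv, hwp]
  have h4 := bijective_of_isPushout h2 hff ((ConcreteCategory.isIso_iff_bijective _).mp h3)
  rw [Scheme.Hom.appLE_eq_app] at h4
  exact (ConcreteCategory.isIso_iff_bijective _).mpr h4

end descent

end K803.ContrQuot
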