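import Groth.Agent.ParSch.K803.QuotFib
import Groth.Agent.ParSch.K803.ContrQuot2
import Groth.Agent.Etbase.FpqcDescent
import Groth.Agent.Sga3B.SmoothNear
import Groth.Agent.Sga3B.TorusAlgClosed

/-!
# `G/H → G/H'` is a contraction iff `H'/H` is anti-affine and proper
-/

set_option autoImplicit false
universe u

open CategoryTheory MonoidalCategory CartesianMonoidalCategory MonObj GrpObj AlgebraicGeometry Limits

namespace K803.ContrIff

open K803.ContrQuot

theorem descendsAlong_gen (P : MorphismProperty Scheme.{u})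
    [MorphismProperty.DescendsAlong P (@Surjective ⊓ @Flat ⊓ @QuasiCompact)]
    [IsZariskiLocalAtTarget P] : MorphismProperty.DescendsAlong P
      (@Surjective ⊓ @Flat ⊓ @LocallyOfFinitePresentation) := inferInstance

theorem isProper_of_isPullback {X Y X' Y' : Scheme.{u}} {g' : X' ⟶ X} {f' : X' ⟶ Y'} {f : X ⟶ Y}
    {g : Y' ⟶ Y} (h : IsPullback g' f' f g) [Flat g] [Surjective g] [LocallyOfFinitePresentation g]
    [IsProper f'] : IsProper f := by
  have h1 := descendsAlong_gen.{u} (@IsProper)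
  exact MorphismProperty.of_isPullback_of_descendsAlong (P := @IsProper)
    (Q := @Surjective ⊓ @Flat ⊓ @LocallyOfFinitePresentation) h.flip
    ⟨⟨inferInstance, inferInstance⟩, inferInstance⟩ inferInstance

/-- the conditions `proper` and `O = f_* O` are equivalent for `f` and its base change along an
fppf covering -/
theorem iff_of_isPullback {X Y X' Y' : Scheme.{u}} {g' : X' ⟶ X} {f' : X' ⟶ Y'} {f : X ⟶ Y}
    {g : Y' ⟶ Y} (h : IsPullback g' f' f g) [Flat g] [Surjective g] [LocallyOfFinitePresentation g] :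
    (IsProper f ∧ ∀ U, IsIso (f.app U)) ↔ (IsProper f' ∧ ∀ U, IsIso (f'.app U)) := by
  constructor
  · rintro ⟨h1, h2⟩
    exact ⟨MorphismProperty.of_isPullback h h1, isIso_app_of_isPullback h h2⟩
  · rintro ⟨h1, h2⟩
    have := isProper_of_isPullback h
    exact ⟨this, isIso_app_of_isPullback_of_cover h h2⟩

theorem main
    (k : Type u) [Field k]
    (G : Over (Spec (CommRingCat.of k))) [GrpObj G] [LocallyOfFiniteType G.hom]
    (H H' : Over (Spec (CommRingCat.of k))) [GrpObj H] [GrpObj H']
    (iH : H ⟶ G)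
    (iH' : H' ⟶ G) [IsMonHom iH'] (hH' : IsClosedImmersion iH'.left)
    (e : H ⟶ H') (he : e ≫ iH' = iH)
    (X X' Y : Over (Spec (CommRingCat.of k))) (q : G ⟶ X) (hq : RedSub.IsQuotient iH q)
    (q' : G ⟶ X') (hq' : RedSub.IsQuotient iH' q')
    (f : X ⟶ X') (hf : q ≫ f = q') (r : H' ⟶ Y) (hr : RedSub.IsQuotient e r) :
    (IsProper f.left ∧ ∀ U : X'.left.Opens, IsIso (f.left.app U)) ↔
      (IsProper Y.hom ∧ IsIso Y.hom.appTop) := by
  have hm : Mono iH' := Over.mono_of_mono_left _
  obtain ⟨a, ha⟩ := K803.QuotFib.exists_map he hq hr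
  have sq1 := K803.QuotFib.isPullback he hq hq' hf hr ha
  have sq2 := Groth.Agent.Sga3B.SmoothNear.isPullback_fst_snd G Y
  obtain ⟨h1, h2, h3, -⟩ := hq'
  have := Groth.Agent.Sga3B.TorusAlgClosed.surjective_of_grpObj G
  have : LocallyOfFinitePresentation G.hom := inferInstance
  have : Flat G.hom := inferInstance
  rw [iff_of_isPullback sq1, ← iff_of_isPullback sq2.flip]
  refine and_congr_right fun h => ⟨fun h' => h' ⊤, fun h' U => ?_⟩
  exact Groth.Agent.FlatA.AppIso.isIso_app_of_appTop Y.hom U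

end K803.ContrIff
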