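import Groth.Agent.RedSub.H650.QuotPts
import Groth.Agent.FlatA.AppIso
import Mathlib.AlgebraicGeometry.Morphisms.FlatDescent
import Mathlib.RingTheory.Flat.FaithfullyFlat.Descent

/-!
# `f_* O_X = O_Y` under flat base change and fppf descent; the fibration `G/H → G/H'` with fibre `H'/H`
-/

set_option autoImplicit false
universe u

open CategoryTheory MonoidalCategory CartesianMonoidalCategory MonObj GrpObj AlgebraicGeometry Limits
open TopologicalSpace

namespace K803.ContrQuot

section baseChange

variable {X Y X' Y' : Scheme.{u}} {g' : X' ⟶ X} {f' : X' ⟶ Y'} {f : X ⟶ Y} {g : Y' ⟶ Y}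

/-- `O_Y → f_* O_X` iso is stable under flat base change (`f` qcqs). -/
theorem isIso_app_of_isPullback (h : IsPullback g' f' f g) [QuasiCompact f] [QuasiSeparated f] [Flat g]
    (hf : ∀ U : Y.Opens, IsIso (f.app U)) (V : Y'.Opens) : IsIso (f'.app V) := by
  have hqc : QuasiCompact f' := MorphismProperty.of_isPullback h inferInstance
  have hqs : QuasiSeparated f' := MorphismProperty.of_isPullback h inferInstance
  refine Groth.Agent.FlatA.AppIso.isIso_app_of_forall_exists f' (fun y => ?_) V
  obtain ⟨U, hU, hyU, -⟩ := exists_isAffineOpen_mem_and_subset (x := g y) (U := ⊤) trivial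
  obtain ⟨W, hW, hyW, hWU⟩ := exists_isAffineOpen_mem_and_subset (x := y) (U := g ⁻¹ᵁ U) hyU
  refine ⟨W, hW, hyW, ?_⟩
  have h1 := isIso_pushoutSection_of_isQuasiSeparated_of_flat_right h (US := U) (UT := W)
    (UX := f ⁻¹ᵁ U) hWU le_rfl (UY := f' ⁻¹ᵁ W) (by
      rw [right_eq_inf]
      intro x hx
      have : g (f' x) ∈ U := hWU hx
      rwa [← Scheme.Hom.comp_apply, ← h.w, Scheme.Hom.comp_apply] at this)
    hU hW (f.isCompact_preimage hU.isCompact) (f.isQuasiSeparated_preimage hU.isQuasiSeparated)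
  have h2 := (isIso_pushoutSection_iff ..).mp h1
  have h3 : IsIso (f.appLE U (f ⁻¹ᵁ U) le_rfl) := by
    rw [Scheme.Hom.appLE_eq_app]
    exact hf U
  have h4 := h2.isIso_inr_of_isIso
  rwa [Scheme.Hom.appLE_eq_app] at h4

end baseChange

end K803.ContrQuot
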