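import Groth.Agent.ParSch.K803.Nn
import Groth.Agent.ParSch.K803.Pair2

/-!
# Counting roots modulo two
-/

set_option autoImplicit false

open RootPairing Module

namespace K803.Count

open K803.RComb K803.Pair2 K221.Prop K221.Form

variable {κ M N : Type*} [Fintype κ] [AddCommGroup M] [AddCommGroup N]
  [Module.Finite ℤ M] {P : RootPairing κ ℤ M N} [P.IsReduced]

/-- a root is not divisible by `2` in the root lattice -/
lemma not_two_smul (x : κ) {v : M} (hv : v ∈ Submodule.span ℤ (Set.range P.root)) :
    P.root x ≠ (2 : ℤ) • v := by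
  classical
  intro h
  obtain ⟨b, hb⟩ := K803.Nn.exists_base_mem P x
  rw [← b.span_int_root_support, Finsupp.mem_span_image_iff_linearCombination] at hv
  obtain ⟨l, hl, rfl⟩ := hv
  have h1 := b.linearIndepOn_root
  rw [linearIndepOn_iff] at h1
  have h2 := h1 (Finsupp.single x 1 - (2 : ℤ) • l) (by
    apply Submodule.sub_mem
    · exact Finsupp.single_mem_supported ℤ _ hb
    · exact Submodule.smul_mem _ _ hl) (by
    rw [map_sub, map_smul, Finsupp.linearCombination_single, one_smul, h, sub_self])
  have h3 := DFunLike.congr_fun h2 x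
  simp only [Finsupp.sub_apply, Finsupp.smul_apply, Finsupp.single_eq_same, Finsupp.zero_apply,
    smul_eq_mul] at h3
  omega

/-- the class of an element of a lattice modulo two -/
noncomputable def cls {V : Submodule ℤ M} {r : ℕ} (B : Basis (Fin r) ℤ V) (v : V) :
    Fin r → ZMod 2 := fun i => ((B.repr v i : ℤ) : ZMod 2)

omit [Module.Finite ℤ M] in
lemma exists_of_cls_eq {V : Submodule ℤ M} {r : ℕ} (B : Basis (Fin r) ℤ V) {v w : V}
    (h : cls B v = cls B w) : ∃ u : V, v = w + (2 : ℤ) • u := by
  have h1 : ∀ i, ∃ m : ℤ, B.repr v i = B.repr w i + 2 * m := by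
    intro i
    have h2 : ((B.repr v i : ℤ) : ZMod 2) = ((B.repr w i : ℤ) : ZMod 2) := congrFun h i
    rw [ZMod.intCast_eq_intCast_iff_dvd_sub] at h2
    obtain ⟨m, hm⟩ := h2
    exact ⟨-m, by push_cast at hm; linarith⟩
  choose m hm using h1
  refine ⟨B.equivFun.symm m, ?_⟩
  apply B.repr.injective
  ext i
  rw [map_add, map_smul, Finsupp.add_apply, Finsupp.smul_apply, hm i, smul_eq_mul]
  congr 2
  rw [← B.equivFun_apply, LinearEquiv.apply_symm_apply]

omit [Module.Finite ℤ M] in
lemma cls_zero {V : Submodule ℤ M} {r : ℕ} (B : Basis (Fin r) ℤ V) : cls B 0 = 0 := by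
  funext i
  simp [cls]

omit [Module.Finite ℤ M] in
/-- roots congruent modulo two are orthogonal or proportional -/
lemma orth_of_cls {x y : κ} {v : M} (hxy : x ≠ y) (hxy' : x ≠ P.reflectionPerm y y)
    (h : P.root x = P.root y + (2 : ℤ) • v) : P.pairing x y = 0 ∧ P.pairing y x = 0 := by
  have h1 : ∀ c, P.pairing x c = P.pairing y c + 2 * P.toLinearMap v (P.coroot c) := by
    intro c
    rw [← P.root_coroot_eq_pairing, h, map_add, map_smul, LinearMap.add_apply,
      LinearMap.smul_apply, P.root_coroot_eq_pairing, smul_eq_mul]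
  have h2 := h1 x
  have h3 := h1 y
  rw [P.pairing_same] at h2 h3
  rcases pairs hxy hxy' with h | h | h | h | h | h | h | h | h | h | h <;> omega

omit [Fintype κ] [Module.Finite ℤ M] [P.IsReduced] in
/-- pairwise orthogonal roots are independent -/
lemma card_le_of_orth {V : Submodule ℤ M} [Module.Finite ℤ V] {X : Finset κ}
    (hX : ∀ x ∈ X, P.root x ∈ V) (h : ∀ x ∈ X, ∀ y ∈ X, x ≠ y → P.pairing x y = 0) :
    X.card ≤ finrank ℤ V := by
  classical
  have hli : LinearIndependent ℤ (fun x : X => (⟨P.root x, hX x x.2⟩ : V)) := by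
    rw [Fintype.linearIndependent_iff]
    intro g hg i
    have h1 := congrArg (fun v : V => P.toLinearMap (v : M) (P.coroot i)) hg
    simp only [Submodule.coe_sum, Submodule.coe_smul, map_sum, map_smul, LinearMap.sum_apply,
      LinearMap.smul_apply, P.root_coroot_eq_pairing, Submodule.coe_zero, map_zero,
      LinearMap.zero_apply, smul_eq_mul] at h1
    rw [Finset.sum_eq_single i, P.pairing_same] at h1
    · omega
    · intro j _ hj
      rw [h j j.2 i i.2 (fun e => hj (Subtype.ext e)), mul_zero]
    · intro h; exact absurd (Finset.mem_univ _) h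
  have := hli.fintype_card_le_finrank
  rwa [Fintype.card_coe] at this

/-- **Counting**: positive roots in a sublattice spanned by roots -/
theorem card_le (b : P.Base) {V : Submodule ℤ M} (hV : V ≤ Submodule.span ℤ (Set.range P.root))
    {X : Finset κ} (hX : ∀ x ∈ X, P.root x ∈ V) (hpos : ∀ x ∈ X, b.IsPos x) {m : ℕ}
    (hm : ∀ Y ⊆ X, (∀ x ∈ Y, ∀ y ∈ Y, x ≠ y → P.pairing x y = 0 ∧
      ∃ v ∈ V, P.root x = P.root y + (2 : ℤ) • v) → Y.card ≤ m) :
    X.card ≤ m * (2 ^ finrank ℤ V - 1) := by
  classical
  have : Module.IsReflexive ℤ M := .of_isPerfPair P.toLinearMap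
  let B : Basis (Fin (finrank ℤ V)) ℤ V := Module.finBasis ℤ V
  let f : κ → (Fin (finrank ℤ V) → ZMod 2) := fun x =>
    if h : P.root x ∈ V then cls B ⟨P.root x, h⟩ else 0
  have hf : ∀ x (hx : x ∈ X), f x = cls B ⟨P.root x, hX x hx⟩ := fun x hx => dif_pos (hX x hx)
  have h0 : ∀ x ∈ X, f x ≠ 0 := by
    intro x hx h
    rw [hf x hx, ← cls_zero B] at h
    obtain ⟨u, hu⟩ := exists_of_cls_eq B h
    rw [zero_add] at hu
    exact not_two_smul x (hV u.2) (congrArg Subtype.val hu)
  have h1 : X.card ≤ m * (X.image f).card := by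
    apply Finset.card_le_mul_card_image
    intro z _
    apply hm _ (Finset.filter_subset _ _)
    intro x hx y hy hxy
    rw [Finset.mem_filter] at hx hy
    have h2 : cls B ⟨P.root x, hX x hx.1⟩ = cls B ⟨P.root y, hX y hy.1⟩ := by
      rw [← hf x hx.1, ← hf y hy.1, hx.2, hy.2]
    obtain ⟨u, hu⟩ := exists_of_cls_eq B h2
    have hu' : P.root x = P.root y + (2 : ℤ) • (u : M) := congrArg Subtype.val hu
    have hneg : x ≠ P.reflectionPerm y y := by
      intro h
      have h3 := hpos x hx.1
      have h4 := hpos y hy.1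
      rw [h] at h3
      exact ((Base.IsPos.neg_iff_not b y).mp h3) h4
    exact ⟨(orth_of_cls hxy hneg hu').1, u, u.2, hu'⟩
  have h2 : (X.image f).card ≤ 2 ^ finrank ℤ V - 1 := by
    have h3 : X.image f ⊆ Finset.univ.erase 0 := by
      intro z hz
      obtain ⟨x, hx, rfl⟩ := Finset.mem_image.mp hz
      exact Finset.mem_erase.mpr ⟨h0 x hx, Finset.mem_univ _⟩
    refine (Finset.card_le_card h3).trans ?_
    rw [Finset.card_erase_of_mem (Finset.mem_univ _), Finset.card_univ, Fintype.card_fun,
      ZMod.card, Fintype.card_fin]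
  exact h1.trans (Nat.mul_le_mul_left _ h2)

omit [Fintype κ] [Module.Finite ℤ M] [P.IsReduced] in
/-- the lattice spanned by a simply laced set of roots is even -/
lemma exists_even {Y : Set κ} (hsym : ∀ x ∈ Y, ∀ y ∈ Y, P.pairing x y = P.pairing y x) {q : M}
    (hq : q ∈ AddSubgroup.closure (P.root '' Y)) : ∃ φ : M →ₗ[ℤ] ℤ,
      (∀ z ∈ Y, φ (P.root z) = P.toLinearMap q (P.coroot z)) ∧ Even (φ q) := by
  induction hq using AddSubgroup.closure_induction_left with
  | zero => exact ⟨0, fun z _ => by simp, by simp⟩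
  | add_left x hx q _ ih =>
    obtain ⟨x, hx, rfl⟩ := hx
    obtain ⟨φ, h1, h2⟩ := ih
    refine ⟨φ + P.toLinearMap.flip (P.coroot x), ?_, ?_⟩
    · intro z hz
      rw [LinearMap.add_apply, h1 z hz, LinearMap.flip_apply, map_add, LinearMap.add_apply,
        P.root_coroot_eq_pairing, P.root_coroot_eq_pairing, hsym z hz x hx, add_comm]
    · rw [LinearMap.add_apply, map_add, LinearMap.flip_apply, map_add, LinearMap.add_apply,
        h1 x hx, P.root_coroot_eq_pairing, P.pairing_same]
      obtain ⟨t, ht⟩ := h2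
      exact ⟨t + P.toLinearMap q (P.coroot x) + 1, by rw [ht]; ring⟩
  | neg_add_cancel x hx q _ ih =>
    obtain ⟨x, hx, rfl⟩ := hx
    obtain ⟨φ, h1, h2⟩ := ih
    refine ⟨φ - P.toLinearMap.flip (P.coroot x), ?_, ?_⟩
    · intro z hz
      rw [LinearMap.sub_apply, h1 z hz, LinearMap.flip_apply, map_add, LinearMap.add_apply,
        P.root_coroot_eq_pairing, map_neg, LinearMap.neg_apply, P.root_coroot_eq_pairing,
        hsym z hz x hx]
      ring
    · rw [LinearMap.sub_apply, map_add, map_neg, LinearMap.flip_apply, map_add, map_neg,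
        LinearMap.add_apply, LinearMap.neg_apply,
        h1 x hx, P.root_coroot_eq_pairing, P.pairing_same]
      obtain ⟨t, ht⟩ := h2
      exact ⟨t - P.toLinearMap q (P.coroot x) + 1, by rw [ht]; ring⟩

omit [Fintype κ] [Module.Finite ℤ M] [P.IsReduced] in
/-- in a simply laced set orthogonal roots are not congruent modulo two -/
lemma not_congr {Y : Set κ} (hsym : ∀ x ∈ Y, ∀ y ∈ Y, P.pairing x y = P.pairing y x) {x y : κ}
    (hx : x ∈ Y) (hy : y ∈ Y) (h0 : P.pairing x y = 0) {v : M}
    (hv : v ∈ Submodule.span ℤ (P.root '' Y)) : P.root x ≠ P.root y + (2 : ℤ) • v := by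
  intro h
  have h0' : P.pairing y x = 0 := by rw [← hsym x hx y hy, h0]
  have hq : v + P.root y ∈ AddSubgroup.closure (P.root '' Y) := by
    rw [← Submodule.span_int_eq_addSubgroupClosure]
    exact add_mem hv (Submodule.subset_span ⟨y, hy, rfl⟩)
  obtain ⟨φ, h1, t, ht⟩ := exists_even hsym hq
  have e1 := h1 x hx
  have e2 := h1 y hy
  have e3 : P.root x + P.root y = (2 : ℤ) • (v + P.root y) := by
    rw [h, smul_add]; module
  have e4 := congrArg φ e3
  have e5 := congrArg (fun m => P.toLinearMap m (P.coroot x)) e3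
  have e6 := congrArg (fun m => P.toLinearMap m (P.coroot y)) e3
  simp only [map_add, map_smul, LinearMap.add_apply, LinearMap.smul_apply,
    P.root_coroot_eq_pairing, P.pairing_same, smul_eq_mul] at e1 e2 e4 e5 e6 ht
  rw [h0] at *
  omega

omit [Fintype κ] [Module.Finite ℤ M] [P.IsReduced] in
/-- a vector of a sublattice spanned by roots pairs to zero with orthogonal roots -/
lemma pairing_span_eq_zero {X : Set κ} {z : κ} (h : ∀ x ∈ X, P.pairing x z = 0) {v : M}
    (hv : v ∈ Submodule.span ℤ (P.root '' X)) : P.toLinearMap v (P.coroot z) = 0 := by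
  induction hv using Submodule.span_induction with
  | mem x hx =>
    obtain ⟨x, hx, rfl⟩ := hx
    rw [P.root_coroot_eq_pairing]
    exact h x hx
  | zero => simp
  | add x y _ _ hx hy => rw [map_add, LinearMap.add_apply, hx, hy, add_zero]
  | smul a x _ hx => rw [map_smul, LinearMap.smul_apply, hx, smul_zero]

omit [P.IsReduced] in
/-- the ranks of two orthogonal subsystems -/
lemma finrank_add_le {X X' : Set κ} (hun : ∀ z, z ∈ X ∨ z ∈ X')
    (h : ∀ x ∈ X, ∀ y ∈ X', P.pairing x y = 0) :
    finrank ℤ (Submodule.span ℤ (P.root '' X)) + finrank ℤ (Submodule.span ℤ (P.root '' X')) ≤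
      finrank ℤ M := by
  classical
  have : Module.IsReflexive ℤ M := .of_isPerfPair P.toLinearMap
  have h' : ∀ y ∈ X', ∀ x ∈ X, P.pairing y x = 0 := fun y hy x hx => by
    rw [P.pairing_eq_zero_iff]; exact h x hx y hy
  let V := Submodule.span ℤ (P.root '' X)
  let V' := Submodule.span ℤ (P.root '' X')
  let f : (V × V') →ₗ[ℤ] M := V.subtype.coprod V'.subtype
  have hf : Function.Injective f := by
    rw [injective_iff_map_eq_zero]
    rintro ⟨v, w⟩ hvw
    have h1 : (v : M) + w = 0 := hvw
    have h2 : ∀ z, P.toLinearMap (v : M) (P.coroot z) = 0 := by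
      intro z
      rcases hun z with hz | hz
      · have h3 := congrArg (fun m => P.toLinearMap m (P.coroot z)) h1
        simp only [map_add, LinearMap.add_apply, map_zero, LinearMap.zero_apply] at h3
        rwa [pairing_span_eq_zero (fun y hy => h' y hy z hz) w.2, add_zero] at h3
      · exact pairing_span_eq_zero (fun x hx => h x hx z hz) v.2
    have h3 : (v : M) = 0 := by
      have hv : (v : M) ∈ Submodule.span ℤ (Set.range P.root) :=
        Submodule.span_mono (Set.image_subset_range _ _) v.2
      by_contra hne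
      have h4 := P.rootForm_pos_of_ne_zero hv hne
      rw [RootPairing.rootForm_apply_apply] at h4
      have h5 : ∑ i, P.coroot' i (v : M) * P.coroot' i (v : M) = 0 := by
        apply Finset.sum_eq_zero
        intro i _
        have : P.coroot' i (v : M) = 0 := h2 i
        rw [this, mul_zero]
      exact h4.ne' h5
    have h4 : (w : M) = 0 := by rw [h3, zero_add] at h1; exact h1
    exact Prod.ext (Subtype.ext h3) (Subtype.ext h4)
  have := LinearMap.finrank_le_finrank_of_injective hf
  rwa [Module.finrank_prod] at this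

omit [Module.Finite ℤ M] [P.IsReduced] in
/-- half of the roots are positive -/
lemma card_pos (b : P.Base) [DecidablePred b.IsPos] :
    2 * (Finset.univ.filter b.IsPos).card = Fintype.card κ := by
  classical
  have h1 : (Finset.univ.filter b.IsPos).card = (Finset.univ.filter fun i => ¬ b.IsPos i).card := by
    apply Finset.card_bij (fun i _ => P.reflectionPerm i i)
    · intro i hi
      rw [Finset.mem_filter] at hi ⊢
      refine ⟨Finset.mem_univ _, fun h => ?_⟩
      exact ((Base.IsPos.neg_iff_not b i).mp h) hi.2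
    · intro i _ j _ hij
      apply P.root.injective
      have := congrArg P.root hij
      simpa using this
    · intro j hj
      rw [Finset.mem_filter] at hj
      refine ⟨P.reflectionPerm j j, ?_, ?_⟩
      · rw [Finset.mem_filter]
        exact ⟨Finset.mem_univ _, (Base.IsPos.neg_iff_not b j).mpr hj.2⟩
      · apply P.root.injective
        rw [root_neg, root_neg, neg_neg]
  have h2 := Finset.card_filter_add_card_filter_not (s := (Finset.univ : Finset κ)) b.IsPos
  rw [← h1, Finset.card_univ] at h2
  omega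

open scoped Classical in
/-- positive roots of a subsystem of rank `r` -/
lemma card_le' (b : P.Base) (X : Set κ) : (Finset.univ.filter fun i => i ∈ X ∧ b.IsPos i).card ≤
    finrank ℤ (Submodule.span ℤ (P.root '' X)) *
      (2 ^ finrank ℤ (Submodule.span ℤ (P.root '' X)) - 1) := by
  apply card_le b (Submodule.span_mono (Set.image_subset_range _ _))
  · intro x hx
    exact Submodule.subset_span ⟨x, (Finset.mem_filter.mp hx).2.1, rfl⟩
  · intro x hx
    exact (Finset.mem_filter.mp hx).2.2
  · intro Y hY h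
    apply card_le_of_orth (P := P)
    · intro x hx
      exact Submodule.subset_span ⟨x, (Finset.mem_filter.mp (hY hx)).2.1, rfl⟩
    · exact fun x hx y hy hxy => (h x hx y hy hxy).1

open scoped Classical in
/-- positive roots of a simply laced subsystem of rank `r` -/
lemma card_le_simply (b : P.Base) (X : Set κ)
    (hsym : ∀ x ∈ X, ∀ y ∈ X, P.pairing x y = P.pairing y x) :
    (Finset.univ.filter fun i => i ∈ X ∧ b.IsPos i).card ≤
      2 ^ finrank ℤ (Submodule.span ℤ (P.root '' X)) - 1 := by
  refine (card_le (P := P) b (m := 1) (V := Submodule.span ℤ (P.root '' X))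
    (Submodule.span_mono (Set.image_subset_range _ _)) ?_ ?_ ?_).trans (by rw [one_mul])
  · intro x hx
    exact Submodule.subset_span ⟨x, (Finset.mem_filter.mp hx).2.1, rfl⟩
  · intro x hx
    exact (Finset.mem_filter.mp hx).2.2
  · intro Y hY h
    rw [Finset.card_le_one]
    intro x hx y hy
    by_contra hxy
    obtain ⟨h1, v, hv, h2⟩ := h x hx y hy hxy
    exact not_congr hsym (Finset.mem_filter.mp (hY hx)).2.1 (Finset.mem_filter.mp (hY hy)).2.1 h1
      hv h2

omit [Module.Finite ℤ M] [P.IsReduced] in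
open scoped Classical in
lemma card_split (b : P.Base) {X X' : Set κ} (hun : ∀ z, z ∈ X ∨ z ∈ X') :
    Fintype.card κ ≤ 2 * ((Finset.univ.filter fun i => i ∈ X ∧ b.IsPos i).card +
      (Finset.univ.filter fun i => i ∈ X' ∧ b.IsPos i).card) := by
  rw [← card_pos b]
  apply Nat.mul_le_mul_left
  refine le_trans (Finset.card_le_card ?_) (Finset.card_union_le _ _)
  intro i hi
  rw [Finset.mem_filter] at hi
  rw [Finset.mem_union, Finset.mem_filter, Finset.mem_filter]
  rcases hun i with h | h
  · exact Or.inl ⟨Finset.mem_univ _, h, hi.2⟩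
  · exact Or.inr ⟨Finset.mem_univ _, h, hi.2⟩

/-- no triple edge when there are `48` roots in rank `4` -/
theorem no_triple (hr : finrank ℤ M = 4) (hc : Fintype.card κ = 48) (x y : κ) :
    P.pairing x y ≠ -3 := by
  classical
  intro hxy
  let _ : P.EmbeddedG2 :=
    { long := x
      short := y
      pairingIn_long_short := by rw [pairingIn_eq]; exact hxy }
  obtain ⟨b⟩ := Groth.Agent.Sga3B.BaseZ.nonempty_base P
  let X : Set κ := {e | P.root e ∈ EmbeddedG2.allRoots P}
  have hun : ∀ z, z ∈ X ∨ z ∈ Xᶜ := fun z => Classical.em _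
  have horth : ∀ z ∈ Xᶜ, P.pairing x z = 0 ∧ P.pairing y z = 0 := by
    intro z hz
    obtain ⟨h1, h2⟩ := EmbeddedG2.isOrthogonal_short_and_long P (i := z) hz
    have : Module.IsReflexive ℤ M := .of_isPerfPair P.toLinearMap
    rw [isOrthogonal_iff_pairing_eq_zero] at h1 h2
    exact ⟨P.pairing_eq_zero_iff.mp h2, P.pairing_eq_zero_iff.mp h1⟩
  have hspan : ∀ e ∈ X, P.root e ∈ Submodule.span ℤ (P.root '' {x, y}) := by
    intro e he
    have h1 := EmbeddedG2.mem_span_of_mem_allRoots P he
    have h2 : P.root '' {x, y} = {P.root x, P.root y} := by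
      rw [Set.image_insert_eq, Set.image_singleton]
    rw [h2]
    exact h1
  have h : ∀ e ∈ X, ∀ z ∈ Xᶜ, P.pairing e z = 0 := by
    intro e he z hz
    have h1 := pairing_span_eq_zero (P := P) (X := {x, y}) (z := z) (by
      rintro w (rfl | rfl)
      · exact (horth z hz).1
      · exact (horth z hz).2) (hspan e he)
    rwa [P.root_coroot_eq_pairing] at h1
  have hfr := finrank_add_le hun h
  rw [hr] at hfr
  have h1 := card_split b hun
  have h2 := card_le' b X
  have h3 := card_le' b Xᶜ
  rw [hc] at h1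
  have hli : LinearIndependent ℤ ![P.root y, P.root x] :=
    EmbeddedG2.linearIndependent_short_long P
  have h4 : finrank ℤ (Submodule.span ℤ (P.root '' X)) = 2 := by
    have e1 : Submodule.span ℤ (P.root '' X) = Submodule.span ℤ (Set.range ![P.root y, P.root x]) := by
      have e2 : Set.range ![P.root y, P.root x] = P.root '' {x, y} := by
        rw [Matrix.range_cons, Matrix.range_cons, Matrix.range_empty, Set.union_empty,
          Set.image_insert_eq, Set.image_singleton, Set.union_comm]
        rfl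
      rw [e2]
      apply le_antisymm
      · rw [Submodule.span_le]
        rintro _ ⟨e, he, rfl⟩
        exact hspan e he
      · apply Submodule.span_mono
        apply Set.image_mono
        rintro e (rfl | rfl)
        · change P.root (EmbeddedG2.long P) ∈ EmbeddedG2.allRoots P
          simp
        · change P.root (EmbeddedG2.short P) ∈ EmbeddedG2.allRoots P
          simp
    rw [e1, finrank_span_eq_card hli]
    rfl
  rw [h4] at h2 hfr
  have h5 : finrank ℤ (Submodule.span ℤ (P.root '' Xᶜ)) ≤ 2 := by omega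
  interval_cases hf : finrank ℤ (Submodule.span ℤ (P.root '' Xᶜ)) <;> omega

variable (P) in
/-- the long roots of double edges -/
def Long : Set κ := {a | ∃ b, P.pairing a b = -2 ∧ P.pairing b a = -1}

omit [Fintype κ] [Module.Finite ℤ M] [P.IsReduced] in
lemma long_reflect {a : κ} (ha : a ∈ Long P) (l : κ) : P.reflectionPerm l a ∈ Long P := by
  obtain ⟨b, h1, h2⟩ := ha
  refine ⟨P.reflectionPerm l b, ?_, ?_⟩
  · rw [pairing_reflectionPerm, reflectionPerm_self]; exact h1
  · rw [pairing_reflectionPerm, reflectionPerm_self]; exact h2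

omit [Fintype κ] [Module.Finite ℤ M] [P.IsReduced] in
lemma long_conj {a e : κ} (h : K221.Conn.Conj P a e) (ha : a ∈ Long P) : e ∈ Long P := by
  induction h with
  | refl => exact ha
  | tail _ hbc ih =>
    obtain ⟨l, rfl⟩ := hbc
    exact long_reflect ih l

omit [Fintype κ] [Module.Finite ℤ M] [P.IsReduced] in
lemma long_of_pairing {a b : κ} (h : (P.pairing a b = -2 ∧ P.pairing b a = -1) ∨
    (P.pairing a b = 2 ∧ P.pairing b a = 1)) : a ∈ Long P := by
  rcases h with h | ⟨h1, h2⟩
  · exact ⟨b, h⟩
  · refine ⟨P.reflectionPerm b b, ?_, ?_⟩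
    · rw [pairing_reflectionPerm_self_right, h1]
    · rw [pairing_reflectionPerm_self_left, h2]

variable (P) in
/-- the roots in the rational span of the long roots -/
def LSpan : Set κ := {e | ∃ n : ℤ, n ≠ 0 ∧ n • P.root e ∈ Submodule.span ℤ (P.root '' Long P)}

omit [Fintype κ] [Module.Finite ℤ M] [P.IsReduced] in
lemma long_le : Long P ⊆ LSpan P := fun e he =>
  ⟨1, one_ne_zero, by rw [one_smul]; exact Submodule.subset_span ⟨e, he, rfl⟩⟩

omit [Module.Finite ℤ M] in
/-- roots which are not orthogonal to a long root are in the span -/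
lemma mem_lspan (h3 : ∀ x y, P.pairing x y ≠ -3) {a e : κ} (ha : a ∈ Long P)
    (h : P.pairing a e ≠ 0) : e ∈ LSpan P := by
  have h3' : ∀ x y, P.pairing x y ≠ 3 := by
    intro x y hxy
    apply h3 (P.reflectionPerm x x) y
    rw [pairing_reflectionPerm_self_left, hxy]
  by_cases h1 : a = e
  · exact long_le (h1 ▸ ha)
  by_cases h2 : a = P.reflectionPerm e e
  · apply long_le
    have := long_reflect ha e
    rwa [h2, reflectionPerm_self] at this
  have key : ∀ m : ℤ, (m = 2 ∨ m = -2) → P.pairing a e = m → e ∈ LSpan P := by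
    intro m hm hae
    refine ⟨m, by omega, ?_⟩
    have e1 := root_reflectionPerm P e a
    rw [reflection_apply_root, hae] at e1
    have e2 : m • P.root e = P.root a - P.root (P.reflectionPerm e a) := by rw [e1]; abel
    rw [e2]
    exact sub_mem (Submodule.subset_span ⟨a, ha, rfl⟩)
      (Submodule.subset_span ⟨_, long_reflect ha e, rfl⟩)
  rcases pairs h1 h2 with ⟨e1, e2⟩ | ⟨e1, e2⟩ | ⟨e1, e2⟩ | ⟨e1, e2⟩ | ⟨e1, e2⟩ | ⟨e1, e2⟩ | ⟨e1, e2⟩ |
    ⟨e1, e2⟩ | ⟨e1, e2⟩ | ⟨e1, e2⟩ | ⟨e1, e2⟩
  · exact absurd e1 h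
  · exact long_le (long_conj (conj_of_pairing (Or.inl ⟨e1, e2⟩)) ha)
  · exact long_le (long_conj (conj_of_pairing (Or.inr ⟨e1, e2⟩)) ha)
  · exact long_le (long_of_pairing (Or.inr ⟨e2, e1⟩))
  · exact key 2 (Or.inl rfl) e1
  · exact long_le (long_of_pairing (Or.inl ⟨e2, e1⟩))
  · exact key (-2) (Or.inr rfl) e1
  · exact absurd e2 (h3' _ _)
  · exact absurd e1 (h3' _ _)
  · exact absurd e2 (h3 _ _)
  · exact absurd e1 (h3 _ _)

/-- **`F₄`**: the long roots span -/
theorem lspan_eq_univ (hr : finrank ℤ M = 4) (hc : Fintype.card κ = 48) (e : κ) :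
    e ∈ LSpan P := by
  classical
  have h3 := no_triple (P := P) hr hc
  obtain ⟨b⟩ := Groth.Agent.Sga3B.BaseZ.nonempty_base P
  have hun : ∀ z, z ∈ LSpan P ∨ z ∈ (LSpan P)ᶜ := fun z => Classical.em _
  have h0 : ∀ x ∈ LSpan P, ∀ z ∈ (LSpan P)ᶜ, P.pairing x z = 0 := by
    rintro x ⟨n, hn, hx⟩ z hz
    have h1 := pairing_span_eq_zero (P := P) (X := Long P) (z := z) (by
      intro a ha
      by_contra h
      exact hz (mem_lspan h3 ha h)) hx
    rw [map_smul, LinearMap.smul_apply, P.root_coroot_eq_pairing, smul_eq_mul] at h1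
    exact (mul_eq_zero.mp h1).resolve_left hn
  have hsym : ∀ x ∈ (LSpan P)ᶜ, ∀ y ∈ (LSpan P)ᶜ, P.pairing x y = P.pairing y x := by
    intro x hx y hy
    by_cases h1 : x = y
    · rw [h1]
    by_cases h2 : x = P.reflectionPerm y y
    · rw [h2, pairing_reflectionPerm_self_left, pairing_reflectionPerm_self_right]
    have h3' : ∀ x y, P.pairing x y ≠ 3 := by
      intro x y hxy
      apply h3 (P.reflectionPerm x x) y
      rw [pairing_reflectionPerm_self_left, hxy]
    rcases pairs h1 h2 with ⟨e1, e2⟩ | ⟨e1, e2⟩ | ⟨e1, e2⟩ | ⟨e1, e2⟩ | ⟨e1, e2⟩ | ⟨e1, e2⟩ |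
      ⟨e1, e2⟩ | ⟨e1, e2⟩ | ⟨e1, e2⟩ | ⟨e1, e2⟩ | ⟨e1, e2⟩
    · rw [e1, e2]
    · rw [e1, e2]
    · rw [e1, e2]
    · exact absurd (long_le (long_of_pairing (Or.inr ⟨e2, e1⟩))) hy
    · exact absurd (long_le (long_of_pairing (Or.inr ⟨e1, e2⟩))) hx
    · exact absurd (long_le (long_of_pairing (Or.inl ⟨e2, e1⟩))) hy
    · exact absurd (long_le (long_of_pairing (Or.inl ⟨e1, e2⟩))) hx
    · exact absurd e2 (h3' _ _)
    · exact absurd e1 (h3' _ _)
    · exact absurd e2 (h3 _ _)
    · exact absurd e1 (h3 _ _)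
  by_contra he
  have hfr := finrank_add_le hun h0
  rw [hr] at hfr
  have h1 := card_split b hun
  have h2 := card_le' b (LSpan P)
  have h4 := card_le_simply b (LSpan P)ᶜ hsym
  rw [hc] at h1
  have h5 : 0 < finrank ℤ (Submodule.span ℤ (P.root '' (LSpan P)ᶜ)) := by
    have h6 := card_le_of_orth (P := P) (V := Submodule.span ℤ (P.root '' (LSpan P)ᶜ)) (X := {e})
      (by
        intro x hx
        rw [Finset.mem_singleton] at hx
        rw [hx]
        exact Submodule.subset_span ⟨e, he, rfl⟩) (by
        intro x hx y hy hxy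
        rw [Finset.mem_singleton] at hx hy
        exact absurd (hx.trans hy.symm) hxy)
    rw [Finset.card_singleton] at h6
    exact h6
  generalize finrank ℤ (Submodule.span ℤ (P.root '' (LSpan P)ᶜ)) = f2 at *
  generalize finrank ℤ (Submodule.span ℤ (P.root '' (LSpan P))) = f1 at *
  have h6 : f1 ≤ 3 := by omega
  have h7 : f2 ≤ 4 := by omega
  interval_cases f1 <;> interval_cases f2 <;> omega

omit [Module.Finite ℤ M] in
/-- the long roots are closed -/
theorem long_closed (h3 : ∀ x y, P.pairing x y ≠ -3) (a b c : κ) (ha : a ∈ Long P)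
    (hb : b ∈ Long P) (hab : P.root a + P.root b = P.root c) : c ∈ Long P := by
  have h3' : ∀ x y, P.pairing x y ≠ 3 := by
    intro x y hxy
    apply h3 (P.reflectionPerm x x) y
    rw [pairing_reflectionPerm_self_left, hxy]
  have h0 : (1 : ℤ) • P.root a + (1 : ℤ) • P.root b = P.root c := by
    rw [one_smul, one_smul, hab]
  have hca := pairing_of_root_eq h0 a
  have hcb := pairing_of_root_eq h0 b
  rw [P.pairing_same] at hca hcb
  have h1 : a ≠ b := by
    rintro rfl
    have h5 : (2 : ℤ) • P.root a = P.root c := by rw [two_smul, hab]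
    exact absurd h5.symm (by
      have := Groth.Agent.Sga3B.RootChar876.eq_of_smul_root_eq P c a 1 2 one_ne_zero two_ne_zero
        (by rw [← h5]; simp)
      rw [this] at h5 ⊢
      intro h6
      rw [this] at hca
      rw [P.pairing_same] at hca
      omega)
  have h2 : a ≠ P.reflectionPerm b b := by
    rintro rfl
    rw [root_neg, neg_add_cancel] at hab
    exact P.ne_zero c hab.symm
  have hc : (P.pairing a b = -1 ∨ P.pairing b a = -1) → c ∈ Long P := by
    rintro (h | h)
    · have : c = P.reflectionPerm b a := by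
        apply P.root.injective
        rw [← root_reflect h, ← hab, add_comm]
      rw [this]
      exact long_reflect ha b
    · have : c = P.reflectionPerm a b := by
        apply P.root.injective
        rw [← root_reflect h, ← hab]
      rw [this]
      exact long_reflect hb a
  have hne : c ≠ a ∧ c ≠ P.reflectionPerm a a := by
    constructor
    · rintro rfl
      exact P.ne_zero b (by simpa using hab)
    · rintro rfl
      rw [P.pairing_reflectionPerm_self_left, P.pairing_same] at hca
      have h4 := pairs h1 h2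
      omega
  have h5 := pairs hne.1 hne.2
  have h7 := h3' c a
  rcases pairs h1 h2 with ⟨e1, e2⟩ | ⟨e1, e2⟩ | ⟨e1, e2⟩ | ⟨e1, e2⟩ | ⟨e1, e2⟩ | ⟨e1, e2⟩ |
      ⟨e1, e2⟩ | ⟨e1, e2⟩ | ⟨e1, e2⟩ | ⟨e1, e2⟩ | ⟨e1, e2⟩
  · -- orthogonal
    exfalso
    rw [e2] at hca
    have hac : P.pairing a c = 1 := by omega
    obtain ⟨x, hx1, hx2⟩ := ha
    have l1 := len_swap (P := P) a x
    have l2 := len_swap (P := P) c a
    rw [hx1, hx2] at l1
    rw [hca, hac] at l2
    have lx := len_pos (P := P) x
    -- a root of the length of `x` not orthogonal to `c`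
    obtain ⟨y, hy1, hy2⟩ : ∃ y, len P y = len P x ∧ P.pairing y c ≠ 0 := by
      by_cases hx : P.pairing x c = 0
      · refine ⟨P.reflectionPerm a x, len_refl x a, ?_⟩
        have h8 : (1 : ℤ) • P.root a + (1 : ℤ) • P.root x = P.root (P.reflectionPerm a x) := by
          rw [one_smul, one_smul]
          exact root_reflect hx2
        rw [pairing_of_root_eq h8 c, hac, hx]
        norm_num
      · exact ⟨x, rfl, hx⟩
    have l3 := len_swap (P := P) y c
    rw [hy1] at l3
    have h9 : y ≠ c := by
      rintro rfl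
      omega
    have h10 : y ≠ P.reflectionPerm c c := by
      rintro rfl
      rw [len_neg] at hy1
      omega
    rcases pairs h9 h10 with h | h | h | h | h | h | h | h | h | h | h <;>
      (obtain ⟨e1, e2⟩ := h; rw [e1, e2] at l3; first | exact absurd e1 hy2 | omega)
  all_goals first
    | exact hc (Or.inl e1)
    | exact hc (Or.inr e2)
    | omega

end K803.Count
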