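import Groth.Agent.ParSch.K803.SubPt

/-!
# Closed subgroup schemes from ideals of a chart
-/

set_option autoImplicit false
universe u

open CategoryTheory MonoidalCategory CartesianMonoidalCategory MonObj GrpObj AlgebraicGeometry Limits

namespace K803.OfIdeal

open Groth.Agent.Sga3B Groth.Agent.Sga3B.Cell Groth.Agent.Sga3B.PinMod
open K803.SubPt

variable {k : Type u} [CommRing k] {G H : Over (Spec (CommRingCat.of k))} [GrpObj G] [GrpObj H]
  (c : Chart G (𝟙 (Spec (CommRingCat.of k))))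

instance isIso_p : IsIso c.p := c.isPullback.isIso_fst_of_isIso

/-- the points killing an ideal -/
def Kills (I : Ideal c.A) {B : Type u} [CommRing B] [Algebra k B] (g : Pt k c.A B) : Prop :=
  ∀ f ∈ I, g.hom f = 0

/-- the inclusion of the closed subscheme of an ideal -/
noncomputable def clι (I : Ideal c.A) : tB (𝟙 (Spec (CommRingCat.of k))) (c.A ⧸ I) ⟶ G :=
  c.pts _ (Pt.mk (Ideal.Quotient.mkₐ k I))

lemma clι_left (I : Ideal c.A) :
    (clι c I).left = Spec.map (CommRingCat.ofHom (Ideal.Quotient.mk I)) ≫ c.p := c.pts_left _ _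

instance isClosedImmersion_clι (I : Ideal c.A) : IsClosedImmersion (clι c I).left := by
  have h : IsClosedImmersion (Spec.map (CommRingCat.ofHom (Ideal.Quotient.mk I))) :=
    IsClosedImmersion.spec_of_surjective _ Ideal.Quotient.mk_surjective
  rw [clι_left]
  infer_instance

instance mono_clι (I : Ideal c.A) : Mono (clι c I) := Over.mono_of_mono_left _

variable {c}

lemma kills_map {I : Ideal c.A} {B C : Type u} [CommRing B] [Algebra k B] [CommRing C] [Algebra k C]
    (φ : B →ₐ[k] C) {g : Pt k c.A B} (h : Kills c I g) : Kills c I (Pt.map φ g) := by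
  intro f hf
  rw [Pt.map_hom_apply, h f hf, map_zero]

/-- points of the closed subscheme of an ideal -/
lemma exists_pt_iff {I : Ideal c.A} {B : Type u} [CommRing B] [Algebra k B] (g : Pt k c.A B) :
    (∃ y : tB (𝟙 (Spec (CommRingCat.of k))) B ⟶ tB (𝟙 (Spec (CommRingCat.of k))) (c.A ⧸ I),
      y ≫ clι c I = c.pts B g) ↔ Kills c I g := by
  constructor
  · rintro ⟨y, hy⟩ f hf
    have h1 : y.left ≫ Spec.map (CommRingCat.ofHom (Ideal.Quotient.mk I)) =
        Spec.map (CommRingCat.ofHom (g.hom : c.A →+* B)) := by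
      rw [← cancel_mono c.p, Category.assoc, ← clι_left, ← c.pts_left, ← hy, Over.comp_left]
    obtain ⟨z, hz⟩ := Spec.map_surjective y.left
    rw [← hz, ← Spec.map_comp] at h1
    have h2 := Spec.map_injective h1
    have h3 : z.hom (Ideal.Quotient.mk I f) = g.hom f :=
      congrArg (fun k => CommRingCat.Hom.hom k f) h2
    rw [← h3, Ideal.Quotient.eq_zero_iff_mem.mpr hf, map_zero]
  · intro h
    refine ⟨tMap (𝟙 _) (Ideal.Quotient.liftₐ I g.hom h), ?_⟩
    rw [clι, c.pts_nat]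
    congr 1

/-- factorization through the closed subscheme of an ideal -/
theorem factor_iff {X : Over (Spec (CommRingCat.of k))} (f : X ⟶ G) (I : Ideal c.A) :
    (∃ f' : X ⟶ tB (𝟙 (Spec (CommRingCat.of k))) (c.A ⧸ I), f' ≫ clι c I = f) ↔
      ∀ (B : Type u) [CommRing B] [Algebra k B] (x : tB (𝟙 (Spec (CommRingCat.of k))) B ⟶ X),
        Kills c I ((c.pts B).symm (x ≫ f)) := by
  constructor
  · rintro ⟨f', rfl⟩ B _ _ x
    rw [← exists_pt_iff, MulEquiv.apply_symm_apply]
    exact ⟨x ≫ f', by rw [Category.assoc]⟩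
  · intro h
    have key : ∀ (B : CommRingCat.{u}) (s : Spec B ⟶ Spec (CommRingCat.of k))
        (x : Over.mk s ⟶ X), ∃ y : Over.mk s ⟶ tB (𝟙 (Spec (CommRingCat.of k))) (c.A ⧸ I),
          y ≫ clι c I = x ≫ f := by
      intro B s x
      obtain ⟨ρ, rfl⟩ := exists_algebra B s
      let _ : Algebra k B := ρ.hom.toAlgebra
      obtain ⟨y, hy⟩ := (exists_pt_iff _).mpr (h B x)
      exact ⟨y, hy.trans (MulEquiv.apply_symm_apply _ _)⟩
    choose F hF using key
    obtain ⟨f', hf, -⟩ := AffYoneda.existsUnique_hom F (by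
      intro B B' s s' h g
      rw [← cancel_mono (clι c I), Category.assoc, hF, hF, Category.assoc])
    refine ⟨f', AffYoneda.hom_ext fun B s g => ?_⟩
    rw [← Category.assoc, hf, hF]

/-- the group structure on the closed subscheme of an ideal -/
theorem exists_grpObj {I : Ideal c.A}
    (hone : ∀ f ∈ I, (1 : Pt k c.A k).hom f = 0)
    (hmul : ∀ (B : Type u) [CommRing B] [Algebra k B] (g g' : Pt k c.A B),
      Kills c I g → Kills c I g' → Kills c I (g * g'))
    (hinv : ∀ (B : Type u) [CommRing B] [Algebra k B] (g : Pt k c.A B),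
      Kills c I g → Kills c I g⁻¹) :
    ∃ _ : GrpObj (tB (𝟙 (Spec (CommRingCat.of k))) (c.A ⧸ I)), IsMonHom (clι c I) := by
  have h1 : ∀ (B : Type u) [CommRing B] [Algebra k B], Kills c I (1 : Pt k c.A B) := by
    intro B _ _
    rw [← Pt.map_one (Algebra.ofId k B)]
    exact kills_map _ hone
  have h2 : ∀ (B : Type u) [CommRing B] [Algebra k B]
      (x : tB (𝟙 (Spec (CommRingCat.of k))) B ⟶ tB (𝟙 (Spec (CommRingCat.of k))) (c.A ⧸ I)),
      Kills c I ((c.pts B).symm (x ≫ clι c I)) := by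
    intro B _ _ x
    rw [← exists_pt_iff, MulEquiv.apply_symm_apply]
    exact ⟨x, rfl⟩
  apply Groth.Agent.Sga3C.ClosedSub.exists_grpObj_of_mono
  · rw [factor_iff]
    intro B _ _ x
    have e : x ≫ η[G] = 1 := by
      rw [Hom.one_def]
      congr 1
      exact toUnit_unique _ _
    rw [e, map_one]
    exact h1 B
  · rw [factor_iff]
    intro B _ _ x
    have e : x ≫ (clι c I ⊗ₘ clι c I) ≫ μ[G] =
        ((x ≫ fst _ _) ≫ clι c I) * ((x ≫ snd _ _) ≫ clι c I) := by
      rw [Hom.mul_def, ← Category.assoc]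
      congr 1
      ext1 <;> simp
    rw [e, map_mul]
    exact hmul B _ _ (h2 B _) (h2 B _)
  · rw [factor_iff]
    intro B _ _ x
    have e : x ≫ clι c I ≫ ι[G] = (x ≫ clι c I)⁻¹ := by
      rw [Hom.inv_def, Category.assoc]
    rw [e, map_inv]
    exact hinv B _ (h2 B _)

/-- normality can be checked on affine points -/
theorem isNormalHom_of_conj (i : H ⟶ G) [IsMonHom i] [Mono i]
    (h : ∀ (B : Type u) [CommRing B] [Algebra k B] (g x : Pt k c.A B),
      x ∈ sub c i B → g * x * g⁻¹ ∈ sub c i B) : AlgGrp.IsNormalHom i := by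
  intro X g n
  have h1 := (exists_factor_iff c (g * (n ≫ i) * g⁻¹) i).mpr (by
    intro B _ _ x
    rw [MonObj.comp_mul, MonObj.comp_mul, GrpObj.comp_inv, map_mul, map_mul, map_inv]
    apply h
    rw [← Category.assoc]
    exact symm_mem_sub c i _)
  obtain ⟨n', hn'⟩ := h1
  exact ⟨n', hn'.symm⟩

lemma appTop_pts (B : Type u) [CommRing B] [Algebra k B] (g : Pt k c.A B) (F : Γ(G.left, ⊤)) :
    (c.pts B g).left.appTop F =
      (tMap (𝟙 (Spec (CommRingCat.of k))) g.hom).left.appTop (c.p.appTop F) := by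
  rw [c.pts_left]
  change (Spec.map (CommRingCat.ofHom (g.hom : c.A →+* B)) ≫ c.p).appTop F = _
  rw [Scheme.Hom.comp_appTop]
  rfl

/-- an element of the coordinate ring from a function on `G` -/
lemma exists_fn (c : Chart G (𝟙 (Spec (CommRingCat.of k)))) (F : Γ(G.left, ⊤)) :
    ∃ f : c.A, ∀ (B : Type u) [CommRing B] [Algebra k B]
    (g : Pt k c.A B), (c.pts B g).left.appTop F = fnOf (𝟙 (Spec (CommRingCat.of k))) (g.hom f) := by
  obtain ⟨f, hf⟩ := exists_fnOf (B := c.A) (𝟙 (Spec (CommRingCat.of k))) (c.p.appTop F)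
  refine ⟨f, fun B _ _ g => ?_⟩
  rw [← appTop_fnOf, appTop_pts, hf]

/-- a function on `G` from an element of the coordinate ring -/
lemma exists_fn' (c : Chart G (𝟙 (Spec (CommRingCat.of k)))) (f : c.A) :
    ∃ F : Γ(G.left, ⊤), ∀ (B : Type u) [CommRing B] [Algebra k B]
    (g : Pt k c.A B), (c.pts B g).left.appTop F = fnOf (𝟙 (Spec (CommRingCat.of k))) (g.hom f) := by
  refine ⟨(inv c.p).appTop (fnOf (B := c.A) (𝟙 (Spec (CommRingCat.of k))) f), fun B _ _ g => ?_⟩
  have h : c.p.appTop ((inv c.p).appTop (fnOf (B := c.A) (𝟙 (Spec (CommRingCat.of k))) f)) =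
      fnOf (B := c.A) (𝟙 (Spec (CommRingCat.of k))) f := by
    have h1 : (c.p ≫ inv c.p).appTop (fnOf (B := c.A) (𝟙 (Spec (CommRingCat.of k))) f) =
        fnOf (B := c.A) (𝟙 (Spec (CommRingCat.of k))) f := by
      rw [IsIso.hom_inv_id]
      rfl
    rw [Scheme.Hom.comp_appTop] at h1
    exact h1
  rw [← appTop_fnOf, appTop_pts, h]

lemma fnOf_pow {B : Type u} [CommRing B] [Algebra k B] (x : B) (n : ℕ) :
    fnOf (𝟙 (Spec (CommRingCat.of k))) (x ^ n) = fnOf (𝟙 (Spec (CommRingCat.of k))) x ^ n :=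
  map_pow (Scheme.ΓSpecIso (CommRingCat.of B)).inv.hom _ _

lemma fnOf_zero {B : Type u} [CommRing B] [Algebra k B] :
    fnOf (𝟙 (Spec (CommRingCat.of k))) (0 : B) = 0 :=
  map_zero (Scheme.ΓSpecIso (CommRingCat.of B)).inv.hom

/-- the value at the unit section -/
lemma eta_eq_zero_iff {f : c.A} {F : Γ(G.left, ⊤)} (h : ∀ (B : Type u) [CommRing B] [Algebra k B]
    (g : Pt k c.A B), (c.pts B g).left.appTop F = fnOf (𝟙 (Spec (CommRingCat.of k))) (g.hom f)) :
    (η[G]).left.appTop F = 0 ↔ (1 : Pt k c.A k).hom f = 0 := by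
  have h1 := h k 1
  rw [map_one, Hom.one_def, Over.comp_left] at h1
  have h3 : (toUnit (tB (𝟙 (Spec (CommRingCat.of k))) k)).left =
      𝟙 (Spec (CommRingCat.of k)) := by
    have h := Over.w (toUnit (tB (𝟙 (Spec (CommRingCat.of k))) k))
    have h' : (toUnit (tB (𝟙 (Spec (CommRingCat.of k))) k)).left =
        Spec.map (CommRingCat.ofHom (algebraMap k k)) ≫ 𝟙 _ := (Category.comp_id _).symm.trans h
    have h4 : CommRingCat.ofHom (algebraMap k k) = 𝟙 (CommRingCat.of k) := rfl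
    rw [h', h4, Spec.map_id, Category.comp_id]
  have h5 : (toUnit (tB (𝟙 (Spec (CommRingCat.of k))) k)).left.appTop ((η[G]).left.appTop F) =
      fnOf (𝟙 (Spec (CommRingCat.of k))) ((1 : Pt k c.A k).hom f) := by
    rw [← h1, Scheme.Hom.comp_appTop]
    rfl
  have h6 : Function.Injective
      (toUnit (tB (𝟙 (Spec (CommRingCat.of k))) k)).left.appTop.hom := by
    rw [h3]
    exact fun x y h => h
  constructor
  · intro h7
    rw [h7, map_zero] at h5
    apply fnOf_injective (𝟙 (Spec (CommRingCat.of k)))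
    rw [← h5, fnOf_zero]
  · intro h7
    rw [h7, fnOf_zero] at h5
    exact h6 (h5.trans (map_zero _).symm)

/-- the ideal of a subgroup of height at most one -/
theorem pow_mem_of_height {i : H ⟶ G} [IsMonHom i] {I : Ideal c.A}
    (hI : ∀ (B : Type u) [CommRing B] [Algebra k B] (g : Pt k c.A B), g ∈ sub c i B ↔ Kills c I g)
    {n : ℕ} (h : ∀ a : Γ(H.left, ⊤), (η[H]).left.appTop a = 0 → a ^ n = 0)
    {f : c.A} (hf : (1 : Pt k c.A k).hom f = 0) : f ^ n ∈ I := by
  obtain ⟨F, hF⟩ := exists_fn' c f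
  have h1 : (η[H]).left.appTop (i.left.appTop F) = 0 := by
    have h2 := (eta_eq_zero_iff hF).mpr hf
    rw [← IsMonHom.one_hom i, Over.comp_left, Scheme.Hom.comp_appTop] at h2
    exact h2
  have h3 := h _ h1
  have h4 : Pt.mk (Ideal.Quotient.mkₐ k I) ∈ sub c i (c.A ⧸ I) := by
    rw [hI]
    intro f hf
    exact Ideal.Quotient.eq_zero_iff_mem.mpr hf
  obtain ⟨u, hu⟩ := h4
  have h5 : (c.pts (c.A ⧸ I) (Pt.mk (Ideal.Quotient.mkₐ k I))).left.appTop (F ^ n) = 0 := by
    rw [← hu, Over.comp_left, Scheme.Hom.comp_appTop]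
    change u.left.appTop (i.left.appTop (F ^ n)) = 0
    rw [map_pow, h3, map_zero]
  rw [map_pow, hF, ← fnOf_pow, ← fnOf_zero] at h5
  have h6 := fnOf_injective _ h5
  rw [← map_pow] at h6
  exact Ideal.Quotient.eq_zero_iff_mem.mp h6

/-- the subgroup of an ideal which contains the `n`-th powers of all elements of the augmentation
ideal -/
theorem height_of_pow_mem {I : Ideal c.A} {n : ℕ}
    [GrpObj (tB (𝟙 (Spec (CommRingCat.of k))) (c.A ⧸ I))] [IsMonHom (clι c I)]
    (h : ∀ f : c.A, (1 : Pt k c.A k).hom f = 0 → f ^ n ∈ I)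
    (a : Γ((tB (𝟙 (Spec (CommRingCat.of k))) (c.A ⧸ I)).left, ⊤))
    (ha : (η[tB (𝟙 (Spec (CommRingCat.of k))) (c.A ⧸ I)]).left.appTop a = 0) : a ^ n = 0 := by
  obtain ⟨y, rfl⟩ := exists_fnOf (𝟙 (Spec (CommRingCat.of k))) a
  obtain ⟨f, rfl⟩ := Ideal.Quotient.mk_surjective y
  obtain ⟨F, hF⟩ := exists_fn' c f
  have h1 : (clι c I).left.appTop F =
      fnOf (𝟙 (Spec (CommRingCat.of k))) (Ideal.Quotient.mk I f) := hF _ _
  have h2 : (η[G]).left.appTop F = 0 := by
    rw [← IsMonHom.one_hom (clι c I), Over.comp_left, Scheme.Hom.comp_appTop]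
    change (η[tB (𝟙 (Spec (CommRingCat.of k))) (c.A ⧸ I)]).left.appTop
      ((clι c I).left.appTop F) = 0
    rw [h1, ha]
  rw [eta_eq_zero_iff hF] at h2
  rw [← fnOf_pow, ← map_pow, Ideal.Quotient.eq_zero_iff_mem.mpr (h f h2), fnOf_zero]

end K803.OfIdeal
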