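import Groth.Agent.ParSch.K803.Frob
import Groth.Agent.ParSch.K803.OfIdeal
import Groth.Agent.S5378
import Mathlib.RingTheory.RingHom.FaithfullyFlat

/-!
# Images of subgroups containing the kernel of an isogeny
-/

set_option autoImplicit false
universe u

open CategoryTheory MonoidalCategory CartesianMonoidalCategory MonObj GrpObj AlgebraicGeometry Limits

namespace K803.Desc

open Groth.Agent.Sga3B Groth.Agent.Sga3B.Cell Groth.Agent.Sga3B.PinMod
open Groth.Agent.Sga3B.PtDescent Groth.Agent.Agf.H613 Groth.Agent.Agf.H613.TwData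
open K803.SubPt K803.Frob

/-- lifting points along faithfully flat morphisms of affine schemes -/
lemma exists_lift {X C : Scheme.{u}} [IsAffine X] [IsAffine C] (p : X ⟶ C) [Flat p] [Surjective p]
    {B : Type u} [CommRing B] (h : Spec (CommRingCat.of B) ⟶ C) :
    ∃ (B' : Type u) (_ : CommRing B') (_ : Algebra B B') (_ : Module.FaithfullyFlat B B')
      (x : Spec (CommRingCat.of B') ⟶ X),
      x ≫ p = Spec.map (CommRingCat.ofHom (algebraMap B B')) ≫ h := by
  let Z := pullback h p
  let φ : CommRingCat.of B ⟶ Γ(Z, ⊤) := Spec.preimage (Z.isoSpec.inv ≫ pullback.fst h p)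
  have hφ : Spec.map φ = Z.isoSpec.inv ≫ pullback.fst h p := Spec.map_preimage _
  have hff : φ.hom.FaithfullyFlat := by
    rw [RingHom.FaithfullyFlat.iff_flat_and_comap_surjective]
    constructor
    · have h1 : Flat (Spec.map φ) := by rw [hφ]; infer_instance
      exact (HasRingHomProperty.Spec_iff (P := @Flat)).mp h1
    · have h1 : Surjective (Spec.map φ) := by rw [hφ]; infer_instance
      exact h1.surj
  refine ⟨Γ(Z, ⊤), inferInstance, φ.hom.toAlgebra, hff, Z.isoSpec.inv ≫ pullback.snd h p, ?_⟩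
  change _ = Spec.map φ ≫ h
  rw [hφ, Category.assoc, Category.assoc, pullback.condition]

variable {k : Type u} [Field k] {G G₁ P P₁ : Over (Spec (CommRingCat.of k))} [GrpObj G] [GrpObj G₁]
  [GrpObj P] [GrpObj P₁] {D : Red.SplitRed G} {b : D.P.Base}
  {c : Chart G (𝟙 (Spec (CommRingCat.of k)))}
  {D₁ : Red.SplitRed G₁} {b₁ : D₁.P.Base} {c₁ : Chart G₁ (𝟙 (Spec (CommRingCat.of k)))}
  {q : D.idx → ℕ} (h : Isog D b c D₁ b₁ c₁ q)

/-- the homomorphism of group schemes of an isogeny -/
noncomputable def hom : G ⟶ G₁ := TwGlue.homOf c c₁ h.φ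

instance isMonHom_hom : IsMonHom (hom h) := TwGlue.isMonHom_homOf c c₁ h.φ h.mul

lemma pts_hom (B : Type u) [CommRing B] [Algebra k B] (g : Pt k c.A B) :
    c.pts B g ≫ hom h = c₁.pts B (comap h.φ g) := TwGlue.pts_homOf c c₁ h.φ B g

include h in
lemma comap_one : ∀ (B : Type u) [CommRing B] [Algebra k B], comap h.φ (1 : Pt k c.A B) = 1 := by
  intro B _ _
  have h1 := h.mul B 1 1
  rw [_root_.mul_one] at h1
  exact (mul_eq_left.mp h1.symm)

include h in
lemma comap_inv (B : Type u) [CommRing B] [Algebra k B] (g : Pt k c.A B) :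
    comap h.φ g⁻¹ = (comap h.φ g)⁻¹ := by
  rw [eq_inv_iff_mul_eq_one, ← h.mul, inv_mul_cancel, comap_one h]

/-- **The image of a subgroup containing the kernel**: membership. -/
theorem mem_iff (iP : P ⟶ G) [IsMonHom iP] [IsClosedImmersion iP.left]
    (hker : ∀ (B : Type u) [CommRing B] [Algebra k B] (ν : Pt k c.A B), comap h.φ ν = 1 →
      ν ∈ sub c iP B) (p : P ⟶ P₁) (i₁ : P₁ ⟶ G₁) [IsMonHom p] [IsMonHom i₁]
    (hp : p ≫ i₁ = iP ≫ hom h) [Flat p.left] [Surjective p.left] [IsAffine P₁.left]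
    {B : Type u} [CommRing B] [Algebra k B] (g : Pt k c.A B) :
    g ∈ sub c iP B ↔ comap h.φ g ∈ sub c₁ i₁ B := by
  have : IsAffineHom G.hom := D.reductive.1
  have hGaff : IsAffine G.left := isAffine_of_isAffineHom G.hom
  have hPaff : IsAffine P.left := isAffine_of_isAffineHom iP.left
  constructor
  · rintro ⟨x, hx⟩
    refine ⟨x ≫ p, ?_⟩
    rw [Category.assoc, hp, ← Category.assoc, hx, pts_hom]
  · rintro ⟨y, hy⟩
    obtain ⟨B', _, _, _, x, hx⟩ := exists_lift p.left (B := B) y.left
    let _ : Algebra k B' := ((algebraMap B B').comp (algebraMap k B)).toAlgebra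
    have hst : IsScalarTower k B B' := IsScalarTower.of_algebraMap_eq fun z => rfl
    let κ : B →ₐ[k] B' := IsScalarTower.toAlgHom k B B'
    have hxw : x ≫ P.hom = (tB (𝟙 (Spec (CommRingCat.of k))) B').hom := by
      have h1 : p.left ≫ P₁.hom = P.hom := Over.w p
      have h2 : y.left ≫ P₁.hom = (tB (𝟙 (Spec (CommRingCat.of k))) B).hom := Over.w y
      have h3 := Over.w (tMap (𝟙 (Spec (CommRingCat.of k))) κ)
      rw [← h1, ← Category.assoc, hx, Category.assoc, h2]
      exact h3
    let x' : tB (𝟙 (Spec (CommRingCat.of k))) B' ⟶ P := Over.homMk x hxw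
    have hx' : x' ≫ p = tMap (𝟙 (Spec (CommRingCat.of k))) κ ≫ y := by
      ext1
      rw [Over.comp_left, Over.comp_left]
      exact hx
    have h1 : (c.pts B').symm (x' ≫ iP) ∈ sub c iP B' := symm_mem_sub c iP x'
    have h2 : comap h.φ (Pt.map κ g) = comap h.φ ((c.pts B').symm (x' ≫ iP)) := by
      apply (c₁.pts B').injective
      rw [← pts_hom, ← pts_hom, MulEquiv.apply_symm_apply, Category.assoc, ← hp,
        ← Category.assoc, hx', Category.assoc, hy, ← c.pts_nat, Category.assoc, pts_hom]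
    have h3 := hker B' (Pt.map κ g * ((c.pts B').symm (x' ≫ iP))⁻¹) (by
      rw [h.mul, comap_inv h, h2, mul_inv_cancel])
    have h4 := mul_mem h3 h1
    rw [inv_mul_cancel_right] at h4
    exact mem_of_map_mem c (FaithfulSMul.algebraMap_injective B B') h4

end K803.Desc
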