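import Groth.Agent.ParSch.K803.OfIdeal

/-!
# Preimages of closed subgroup schemes
-/

set_option autoImplicit false
universe u

open CategoryTheory MonoidalCategory CartesianMonoidalCategory MonObj GrpObj AlgebraicGeometry Limits

namespace K803.Preim

open Groth.Agent.Sga3B Groth.Agent.Sga3B.Cell Groth.Agent.Sga3B.PinMod
open K803.SubPt K803.OfIdeal

variable {k : Type u} [CommRing k] {G H R : Over (Spec (CommRingCat.of k))} [GrpObj G] [GrpObj H]
  [GrpObj R]

/-- the preimage of a closed subgroup scheme under a homomorphism is a closed subgroup scheme -/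
theorem exists_preimage (cG : Chart G (𝟙 (Spec (CommRingCat.of k))))
    (cH : Chart H (𝟙 (Spec (CommRingCat.of k)))) (f : H ⟶ G) [IsMonHom f] (r : R ⟶ G) [IsMonHom r]
    [IsClosedImmersion r.left] :
    ∃ (K : Over (Spec (CommRingCat.of k))) (_ : GrpObj K) (i : K ⟶ H) (_ : IsMonHom i),
      IsClosedImmersion i.left ∧ ∀ (X : Over (Spec (CommRingCat.of k))) (x : X ⟶ H),
        (∃ y : X ⟶ K, y ≫ i = x) ↔ ∃ z : X ⟶ R, z ≫ r = x ≫ f := by
  obtain ⟨I, hI⟩ := exists_ideal cG r
  have hmr : Mono r := Over.mono_of_mono_left _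
  let η' : Pt k cG.A cH.A := (cG.pts cH.A).symm (cH.pts cH.A (Pt.mk (AlgHom.id k cH.A)) ≫ f)
  let J : Ideal cH.A := I.map (η'.hom : cG.A →+* cH.A)
  have h1 : ∀ (B : Type u) [CommRing B] [Algebra k B] (g : Pt k cH.A B),
      Pt.map g.hom η' = (cG.pts B).symm (cH.pts B g ≫ f) := by
    intro B _ _ g
    rw [Chart.pts_symm_nat, ← Category.assoc, cH.pts_nat]
    rfl
  have h2 : ∀ (B : Type u) [CommRing B] [Algebra k B] (g : Pt k cH.A B), Kills cH J g ↔
      (cG.pts B).symm (cH.pts B g ≫ f) ∈ sub cG r B := by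
    intro B _ _ g
    rw [hI, ← h1]
    constructor
    · intro h a ha
      exact h _ (Ideal.mem_map_of_mem _ ha)
    · intro h
      have h3 : J ≤ RingHom.ker (g.hom : cH.A →+* B) := by
        rw [Ideal.map_le_iff_le_comap]
        exact fun a ha => h a ha
      exact fun a ha => h3 ha
  obtain ⟨_, _⟩ : ∃ _ : GrpObj (tB (𝟙 (Spec (CommRingCat.of k))) (cH.A ⧸ J)),
      IsMonHom (clι cH J) := by
    apply exists_grpObj
    · refine (h2 k 1).mpr ?_
      rw [map_one, MonObj.one_comp, map_one]
      exact one_mem _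
    · intro B _ _ g g' hg hg'
      rw [h2] at hg hg' ⊢
      rw [map_mul, MonObj.mul_comp, map_mul]
      exact mul_mem hg hg'
    · intro B _ _ g hg
      rw [h2] at hg ⊢
      rw [map_inv, GrpObj.inv_comp, map_inv]
      exact inv_mem hg
  refine ⟨_, _, clι cH J, inferInstance, inferInstance, fun X x => ?_⟩
  rw [factor_iff, exists_factor_iff cG]
  constructor
  · intro h B _ _ z
    have h3 := h B z
    rw [h2, MulEquiv.apply_symm_apply, Category.assoc] at h3
    exact h3
  · intro h B _ _ z
    rw [h2, MulEquiv.apply_symm_apply, Category.assoc]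
    exact h B z

end K803.Preim
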