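import Groth.Agent.ParSch.K803.Count
import Groth.Agent.ParSch.K803.Preim
import Groth.Agent.ParSch.K803.Irr
import Groth.Agent.S3953
import Groth.Agent.S5529
import Groth.Agent.S8071
import Groth.Agent.Sga7.H783.GmSub
import Groth.Agent.Sga3B.AlgBc2

/-!
# The subgroup of long roots
-/

set_option autoImplicit false
universe u

open CategoryTheory MonoidalCategory CartesianMonoidalCategory MonObj GrpObj AlgebraicGeometry

namespace K803.F4Main

open Groth.Agent.Sga3B K803.Count K803.Split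

/-- a sublattice containing a multiple of every element has full rank -/
lemma finrank_eq_of_forall {M : Type*} [AddCommGroup M] [Module.Finite ℤ M]
    (W : Submodule ℤ M) (h : ∀ m : M, ∃ n : ℤ, n ≠ 0 ∧ n • m ∈ W) :
    Module.finrank ℤ W = Module.finrank ℤ M := by
  have h1 := Submodule.finrank_quotient_add_finrank W
  have h2 : Module.finrank ℤ (M ⧸ W) = 0 := by
    rw [Module.finrank_eq_zero_iff_isTorsion]
    intro x
    obtain ⟨m, rfl⟩ := Submodule.Quotient.mk_surjective W x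
    obtain ⟨n, hn, hm⟩ := h m
    refine ⟨⟨n, mem_nonZeroDivisors_of_ne_zero hn⟩, ?_⟩
    change n • (Submodule.Quotient.mk m : M ⧸ W) = _
    rw [← Submodule.Quotient.mk_smul, Submodule.Quotient.mk_eq_zero]
    exact hm
  omega

/-- multiples in a submodule spanned by multiples -/
lemma exists_mul_mem {M : Type*} [AddCommGroup M] {W : Submodule ℤ M} {s : Set M}
    (hs : ∀ x ∈ s, ∃ n : ℤ, n ≠ 0 ∧ n • x ∈ W) {m : M} (hm : m ∈ Submodule.span ℤ s) :
    ∃ n : ℤ, n ≠ 0 ∧ n • m ∈ W := by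
  induction hm using Submodule.span_induction with
  | mem x hx => exact hs x hx
  | zero => exact ⟨1, one_ne_zero, by simp⟩
  | add x y _ _ hx hy =>
    obtain ⟨n, hn, h1⟩ := hx
    obtain ⟨n', hn', h2⟩ := hy
    refine ⟨n * n', mul_ne_zero hn hn', ?_⟩
    rw [smul_add]
    refine add_mem ?_ ?_
    · rw [mul_comm, mul_smul]; exact W.smul_mem _ h1
    · rw [mul_smul]; exact W.smul_mem _ h2
  | smul a x _ hx =>
    obtain ⟨n, hn, h1⟩ := hx
    exact ⟨n, hn, by rw [smul_comm]; exact W.smul_mem _ h1⟩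

variable {k : Type u} [Field k] [IsAlgClosed k] {G : Over (Spec (CommRingCat.of k))} [GrpObj G]

/-- the type (R) subgroup of the long roots is semisimple and generated by the root groups of the
long roots -/
theorem main (hG : Red.IsSemisimpleOver k G) (D : Red.SplitRed G)
    (hF4 : Module.finrank ℤ D.M = 4 ∧ Fintype.card D.idx = 48)
    (h5545 : ∀ (H : Over (Spec (CommRingCat.of k))) [GrpObj H] (h : H ⟶ G), RedSub.IsTypeR h →
      ∀ (t : D.T ⟶ H), t ≫ h = D.i → ∀ (R' : Set D.idx),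
      (∀ a : D.idx, (∃ v : Red.Ga (Spec (CommRingCat.of k)) ⟶ H, v ≫ h = D.u a) ↔ a ∈ R') →
      (∀ a ∈ R', D.P.reflectionPerm a a ∈ R') →
      ∃ (D' : Red.SplitRed H) (e : D'.T ≅ D.T) (eidx : D'.idx ≃ ↥R') (em : D'.M ≃+ D.M),
      D'.i = e.hom ≫ t ∧
      e.hom ≫ D.split.hom.hom.hom =
        D'.split.hom.hom.hom ≫ Red.DSmap (Spec (CommRingCat.of k)) em.symm.toAddMonoidHom ∧
      (∀ a' : D'.idx, em (D'.P.root a') = D.P.root (eidx a' : D.idx)) ∧
      (∀ a' : D'.idx, D'.u a' ≫ h = D.u (eidx a' : D.idx))) :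
    ∃ (H : Over (Spec (CommRingCat.of k))) (_ : GrpObj H) (iH : H ⟶ G) (_ : IsMonHom iH)
      (tH : D.T ⟶ H),
      IsClosedImmersion iH.left ∧ Smooth H.hom ∧ ConnectedSpace H.left ∧
      Red.IsSemisimpleOver k H ∧ tH ≫ iH = D.i ∧
      (∀ a : D.idx, (∃ v : Red.Ga (Spec (CommRingCat.of k)) ⟶ H, v ≫ iH = D.u a) ↔
        (∃ b : D.idx, D.P.pairing a b = -2 ∧ D.P.pairing b a = -1)) ∧
      ∀ (R : Over (Spec (CommRingCat.of k))) [GrpObj R] (r : R ⟶ G) [IsMonHom r],
        IsClosedImmersion r.left →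
        (∀ a : D.idx, (∃ b : D.idx, D.P.pairing a b = -2 ∧ D.P.pairing b a = -1) →
          ∃ v : Red.Ga (Spec (CommRingCat.of k)) ⟶ R, v ≫ r = D.u a) →
        ∃ f : H ⟶ R, f ≫ r = iH := by
  have hred := isReduced D
  have hne : Nonempty (Spec (CommRingCat.of k)) := inferInstance
  have hconn : ConnectedSpace (Spec (CommRingCat.of k)) := inferInstance
  have h3 := no_triple (P := D.P) hF4.1 hF4.2
  obtain ⟨⟨H, _, h, t, hR, ht, hroots⟩, -⟩ := Groth.Agent.S3953.result D (Long D.P)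
    (fun a b c ha hb hab => long_closed h3 a b c ha hb hab)
  have hsymm : ∀ a ∈ Long D.P, D.P.reflectionPerm a a ∈ Long D.P := fun a ha => long_reflect ha a
  have hHred : Red.IsReductive H :=
    (Groth.Agent.S5529.result D h hR t ht (Long D.P) hroots).2 hsymm
  have hHro := AlgBc.isReductive_iff.mp hHred
  have hmon : IsMonHom h := hR.1.1
  have himm : IsImmersion h.left := hR.1.2
  have hmono : Mono h := Over.mono_of_mono_left _
  have hGro := hG.1
  have hsG : Smooth G.hom := hGro.2.1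
  have hsH : Smooth H.hom := hHro.2.1
  have hqH : QuasiCompact H.hom := hR.2.2.1
  have hcl : IsClosedImmersion h.left := Groth.Agent.Sga7.H783.GmSub.isClosedImmersion_of_mono h
  obtain ⟨D', e, eidx, em, hi, hsp, hroot, hu⟩ := h5545 H h hR t ht (Long D.P) hroots hsymm
  have hss : Red.IsSemisimple H := by
    rw [Groth.Agent.S8071.result k H D']
    apply finrank_eq_of_forall
    intro m
    obtain ⟨d, hd, hspan⟩ := Groth.Agent.RedSub.H161.RootSpan.span_of_isSemisimple D
      (AlgBc.isSemisimple_iff.mpr hG)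
    have h4 : ∃ n : ℤ, n ≠ 0 ∧ n • em m ∈ Submodule.span ℤ (D.P.root '' Long D.P) := by
      obtain ⟨n, hn, hm⟩ := exists_mul_mem (W := Submodule.span ℤ (D.P.root '' Long D.P))
        (s := Set.range D.P.root) (by
          rintro _ ⟨a, rfl⟩
          exact lspan_eq_univ hF4.1 hF4.2 a) (hspan (em m))
      refine ⟨n * d, mul_ne_zero hn (by exact_mod_cast hd), ?_⟩
      rw [mul_smul, natCast_zsmul]
      exact hm
    obtain ⟨n, hn, hm⟩ := h4
    refine ⟨n, hn, ?_⟩
    have h5 : Submodule.span ℤ (D.P.root '' Long D.P) ≤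
        (Submodule.span ℤ (Set.range D'.P.root)).map (em : D'.M →+ D.M).toIntLinearMap := by
      rw [Submodule.span_le]
      rintro _ ⟨a, ha, rfl⟩
      refine ⟨D'.P.root (eidx.symm ⟨a, ha⟩), Submodule.subset_span ⟨_, rfl⟩, ?_⟩
      have := hroot (eidx.symm ⟨a, ha⟩)
      rw [Equiv.apply_symm_apply] at this
      exact this
    obtain ⟨x, hx, hxm⟩ := h5 hm
    have h6 : x = n • m := by
      apply em.injective
      rw [map_zsmul]
      exact hxm
    rw [← h6]
    exact hx
  refine ⟨H, _, h, hmon, t, hcl, hsH, hHro.2.2.1, AlgBc.isSemisimple_iff.mp hss, ht, hroots, ?_⟩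
  intro R _ r _ hr hRa
  have : IsAffineHom G.hom := D.reductive.1
  have : IsAffineHom H.hom := hHred.1
  obtain ⟨c⟩ := exists_chart G (𝟙 (Spec (CommRingCat.of k)))
  obtain ⟨cH⟩ := exists_chart H (𝟙 (Spec (CommRingCat.of k)))
  obtain ⟨K, _, i, _, hicl, hK⟩ := K803.Preim.exists_preimage c cH h r
  have hiso : IsIso i := by
    refine gen D' hss i hicl fun a' => ?_
    rw [hK]
    obtain ⟨v, hv⟩ := hRa (eidx a') (eidx a').2
    exact ⟨v, by rw [hv, hu]⟩
  obtain ⟨z, hz⟩ := (hK H (𝟙 H)).mp ⟨inv i, IsIso.inv_hom_id i⟩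
  exact ⟨z, by rw [hz, Category.id_comp]⟩

end K803.F4Main
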