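import Groth.Agent.ParSch.K803.Pair2
import Groth.Agent.Red.K214.ChainComb

/-!
# Combinatorics of root vectors of non-reduced maximal parabolic subgroups
-/

set_option autoImplicit false

open RootPairing

namespace K803.ParComb

open K803.RComb K803.Pair2 K221.Prop K221.Form K221.Conn K214.ChainComb

variable {κ M N : Type*} [Fintype κ] [AddCommGroup M] [AddCommGroup N] {P : RootPairing κ ℤ M N}

/-- closure under non-zero brackets in characteristic `p` -/
def BrClosed (P : RootPairing κ ℤ M N) (p : ℕ) (Ψ : Set κ) : Prop :=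
  ∀ (a b e : κ) (r : ℕ), LI P a b → P.root a + P.root b = P.root e →
    P.root b - (r : ℤ) • P.root a ∈ Set.range P.root →
    P.root b - ((r : ℤ) + 1) • P.root a ∉ Set.range P.root → ¬ p ∣ r + 1 → a ∈ Ψ → b ∈ Ψ → e ∈ Ψ

omit [Fintype κ] in
lemma root_n (a : κ) : P.root (P.reflectionPerm a a) = - P.root a := by
  rw [P.root_reflectionPerm, P.reflection_apply_self]

omit [Fintype κ] in
lemma n_n (a : κ) : P.reflectionPerm (P.reflectionPerm a a) (P.reflectionPerm a a) = a := by
  apply P.root.injective
  rw [root_n, root_n, neg_neg]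

omit [Fintype κ] in
lemma pairing_n (a c : κ) : P.pairing (P.reflectionPerm a a) c = - P.pairing a c := by
  have := pairing_of_root_eq (P := P) (a := a) (b := a) (e := P.reflectionPerm a a) (i := -1)
    (j := 0) (by rw [root_n]; simp) c
  rw [this]; ring

omit [Fintype κ] in
lemma pairing_root {a b e : κ} {i : ℤ} (h : P.root e = P.root b + i • P.root a) (c : κ) :
    P.pairing e c = P.pairing b c + i * P.pairing a c := by
  have := pairing_of_root_eq (P := P) (a := b) (b := a) (e := e) (i := 1) (j := i)
    (by rw [h]; simp) c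
  rw [this]; ring

omit [Fintype κ] in
lemma refl_n (a b : κ) : P.reflectionPerm b (P.reflectionPerm a a) =
    P.reflectionPerm (P.reflectionPerm b a) (P.reflectionPerm b a) := by
  apply P.root.injective
  rw [root_n, P.root_reflectionPerm, root_n, map_neg, P.root_reflectionPerm]

omit [Fintype κ] in
lemma li_of_ne [Finite κ] [P.IsReduced] {a b : κ} (h : a ≠ b) (h' : a ≠ P.reflectionPerm b b) :
    LI P a b := by
  have h1 : LinearIndependent ℤ ![P.root a, P.root b] := by
    refine RootPairing.IsReduced.linearIndependent P h (fun e => h' ?_)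
    apply P.root.injective
    rw [root_n, e]
  exact fun s t => LinearIndependent.pair_iff.mp h1 s t

omit [Fintype κ] in
lemma li_ne {a b : κ} (h : LI P a b) : a ≠ b := by
  rintro rfl
  have := (h 1 (-1) (by module)).1
  omega

omit [Fintype κ] in
lemma li_ne' {a b : κ} (h : LI P a b) : a ≠ P.reflectionPerm b b := by
  intro e
  have := (h 1 1 (by rw [e, root_n]; module)).1
  omega

omit [Fintype κ] in
lemma li_neg_left {a b : κ} (h : LI P a b) : LI P (P.reflectionPerm a a) b := fun s t hst => by
  have := h (-s) t (by rw [← hst, root_n]; module)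
  omega

omit [Fintype κ] in
lemma li_neg_right {a b : κ} (h : LI P a b) : LI P a (P.reflectionPerm b b) := fun s t hst => by
  have := h s (-t) (by rw [← hst, root_n]; module)
  omega

lemma pairing_bd [P.IsReduced] {a b : κ} (h : LI P a b) : -3 ≤ P.pairing a b ∧ P.pairing a b ≤ 3 :=
  (pair_cases h.symm).1

variable [P.IsReduced] {p : ℕ} {Ψ : Set κ}

omit [P.IsReduced] in
/-- a bracket with a root of the string of length less than `p` -/
lemma brk (hΨ : BrClosed P p Ψ) (hp : 1 ≤ p) {a b e : κ} (hli : LI P a b)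
    (he : P.root a + P.root b = P.root e)
    (hf : ∀ f, P.root f ≠ P.root b - ((p : ℤ) - 1) • P.root a) (ha : a ∈ Ψ) (hb : b ∈ Ψ) :
    e ∈ Ψ := by
  obtain ⟨r, q, hrq, hch⟩ := chain hli
  refine hΨ a b e r hli he ?_ ?_ ?_ ha hb
  · have := (hch (-(r : ℤ))).mpr ⟨le_refl _, by omega⟩
    rwa [neg_smul, ← sub_eq_add_neg] at this
  · intro h
    have := (hch (-((r : ℤ) + 1))).mp (by rwa [neg_smul, ← sub_eq_add_neg])
    omega
  · intro hd
    have h1 : p ≤ r + 1 := Nat.le_of_dvd (by omega) hd
    obtain ⟨f, hf'⟩ := (hch (-((p : ℤ) - 1))).mpr ⟨by omega, by omega⟩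
    exact hf f (by rw [hf', neg_smul, ← sub_eq_add_neg])

omit [P.IsReduced] in
lemma brk_neg (hΨ : BrClosed P p Ψ) (hp : 1 ≤ p) {y δ' δ : κ} (hli : LI P y δ')
    (he : P.root δ' = P.root δ - P.root y)
    (hf : ∀ f, P.root f ≠ P.root δ - (p : ℤ) • P.root y) (hy : P.reflectionPerm y y ∈ Ψ)
    (hδ' : P.reflectionPerm δ' δ' ∈ Ψ) : P.reflectionPerm δ δ ∈ Ψ := by
  refine brk hΨ hp (li_neg_right (li_neg_left hli)) ?_ ?_ hy hδ'
  · rw [root_n, root_n, root_n, he]; abel
  · intro f hf'
    apply hf (P.reflectionPerm f f)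
    rw [root_n, hf', root_n, root_n, he]
    module

omit [P.IsReduced] in
lemma brk_pos (hΨ : BrClosed P p Ψ) (hp : 1 ≤ p) {y γ' γ : κ} (hli : LI P y γ)
    (he : P.root γ' = P.root γ - P.root y)
    (hf : ∀ f, P.root f ≠ P.root γ + ((p : ℤ) - 1) • P.root y) (hy : y ∈ Ψ)
    (hδ' : P.reflectionPerm γ γ ∈ Ψ) : P.reflectionPerm γ' γ' ∈ Ψ := by
  refine brk hΨ hp (li_neg_right hli) ?_ ?_ hy hδ'
  · rw [root_n, root_n, he]; abel
  · intro f hf'
    apply hf (P.reflectionPerm f f)
    rw [root_n, hf', root_n]
    module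

section base

variable (b : P.Base) {α : κ} (hα : α ∈ b.support) (lam : M →+ ℤ)
  (hlam : ∀ β ∈ b.support, β ≠ α → lam (P.root β) = 0) (hlam0 : 0 < lam (P.root α))

include b in
omit [Fintype κ] [P.IsReduced] in
lemma exists_coeff {x : κ} (hx : b.IsPos x) : ∃ f : κ → ℤ, (∀ j, 0 ≤ f j) ∧
    P.root x = ∑ j ∈ b.support, f j • P.root j := by
  obtain ⟨f, hf₀, hf₁, hf₂⟩ := b.exists_root_eq_sum_int x
  refine ⟨f, ?_, hf₂⟩
  rcases hf₁ with h | h
  · exact fun j => h.le j
  · exfalso
    have h0 : b.height x = ∑ j ∈ b.support, f j := RootPairing.Base.height_eq_sum hf₂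
    have h1 : 0 < b.height x := hx
    have h2 : ∑ j ∈ b.support, f j ≤ 0 := Finset.sum_nonpos fun j _ => h.le j
    omega

include hα hlam in
omit [Fintype κ] [P.IsReduced] in
lemma lam_coeff {x : κ} {f : κ → ℤ} (hf : P.root x = ∑ j ∈ b.support, f j • P.root j) :
    lam (P.root x) = f α * lam (P.root α) := by
  rw [hf, map_sum, Finset.sum_eq_single_of_mem α hα]
  · rw [map_zsmul, smul_eq_mul]
  · intro j hj hne
    rw [map_zsmul, hlam j hj hne, smul_zero]

include hα hlam hlam0 in
omit [Fintype κ] [P.IsReduced] in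
lemma lam_nonneg {x : κ} (hx : b.IsPos x) : 0 ≤ lam (P.root x) := by
  obtain ⟨f, hf0, hf⟩ := exists_coeff b hx
  rw [lam_coeff b hα lam hlam hf]
  exact mul_nonneg (hf0 α) hlam0.le

include hα hlam hlam0 in
omit [Fintype κ] [P.IsReduced] in
lemma lam_ge {x : κ} (hx : 0 < lam (P.root x)) : lam (P.root α) ≤ lam (P.root x) := by
  obtain ⟨f, -, -, hf⟩ := b.exists_root_eq_sum_int x
  have h1 := lam_coeff b hα lam hlam hf
  rw [h1] at hx ⊢
  have h2 : 0 < f α := by
    by_contra h
    have : f α * lam (P.root α) ≤ 0 := mul_nonpos_of_nonpos_of_nonneg (by omega) hlam0.le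
    omega
  nlinarith

include hα hlam hlam0 in
omit [P.IsReduced] in
/-- antidominance -/
lemma form_nonpos {γ x : κ} (hx : b.IsPos x) (hx0 : lam (P.root x) = 0)
    (hγ : ∀ β ∈ b.support, β ≠ α → P.pairing γ β ≤ 0) : P.pairing γ x ≤ 0 := by
  obtain ⟨f, hf0, hf⟩ := exists_coeff b hx
  have h1 := lam_coeff b hα lam hlam hf
  rw [hx0] at h1
  have h2 : f α = 0 := by
    rcases mul_eq_zero.mp h1.symm with h | h
    · exact h
    · omega
  have h3 : P.RootForm (P.root γ) (P.root x) ≤ 0 := by
    rw [hf, map_sum]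
    refine Finset.sum_nonpos fun j hj => ?_
    rw [map_smul, smul_eq_mul]
    by_cases hjα : j = α
    · rw [hjα, h2, zero_mul]
    · have h4 := two_mul_rootForm P γ j
      have h5 := rootForm_pos P j
      have h6 := hγ j hj hjα
      have h7 : P.pairing γ j * P.RootForm (P.root j) (P.root j) ≤ 0 :=
        mul_nonpos_of_nonpos_of_nonneg h6 h5.le
      exact mul_nonpos_of_nonneg_of_nonpos (hf0 j) (by omega)
  have h4 := two_mul_rootForm P γ x
  have h5 := rootForm_pos P x
  by_contra h6
  have h7 : 0 < P.pairing γ x * P.RootForm (P.root x) (P.root x) := mul_pos (by omega) h5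
  omega

omit [P.IsReduced] in
lemma exists_pos_pairing {γ : κ} (hγ : b.IsPos γ) : ∃ β ∈ b.support, 0 < P.pairing γ β := by
  obtain ⟨β, hβ, h⟩ := hγ.exists_mem_support_pos_pairingIn
  refine ⟨β, hβ, ?_⟩
  rw [P.zero_lt_pairingIn_iff'] at h
  rwa [pairingIn_eq] at h

lemma isPos_refl {γ β : κ} (hγ : b.IsPos γ) (hβ : β ∈ b.support) (hne : γ ≠ β)
    (h : 0 < P.pairing γ β) : b.IsPos (P.reflectionPerm β γ) ∧
      b.height (P.reflectionPerm β γ) < b.height γ := by
  refine ⟨hγ.reflectionPerm hβ hne, ?_⟩
  have h1 : P.root (P.reflectionPerm β γ) = P.root γ + (-P.pairing γ β) • P.root β := by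
    rw [P.root_reflectionPerm, P.reflection_apply_root]; module
  rw [b.height_add_zsmul h1, RootPairing.Base.height_one_of_mem_support hβ]
  simp only [smul_eq_mul, mul_one]
  omega

omit [P.IsReduced] in
lemma exists_sub {γ β : κ} (hγ : b.IsPos γ) (hβ : β ∈ b.support) (hne : γ ≠ β)
    (h : 0 < P.pairing γ β) : ∃ γ', P.root γ' = P.root γ - P.root β ∧ b.IsPos γ' ∧
      b.height γ' < b.height γ := by
  obtain ⟨γ', hγ'⟩ := P.root_sub_root_mem_of_pairingIn_pos (i := γ) (j := β)
    (by rw [pairingIn_eq]; exact h) hne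
  have h1 := b.height_sub hγ'
  rw [RootPairing.Base.height_one_of_mem_support hβ] at h1
  exact ⟨γ', hγ', hγ.sub hβ hγ', by omega⟩

omit [Fintype κ] [P.IsReduced] in
lemma not_isPos_n {γ : κ} (hγ : b.IsPos γ) : ¬ b.IsPos (P.reflectionPerm γ γ) := by
  intro h
  have h1 := RootPairing.Base.height_reflectionPerm_self b γ
  have h2 : b.height (P.reflectionPerm γ γ) = - b.height γ := h1
  rw [RootPairing.Base.isPos_iff] at h hγ
  omega

lemma li_pos {γ δ : κ} (hγ : b.IsPos γ) (hδ : b.IsPos δ) (h : γ ≠ δ) : LI P γ δ :=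
  li_of_ne h fun e => not_isPos_n b hδ (e ▸ hγ)

/-- the configuration of the minimal root when it is not `α` -/
structure Conf (b : P.Base) (α : κ) (lam : M →+ ℤ) (Ψ : Set κ) (γ x : κ) : Prop where
  root : P.root γ = P.root α + P.root x
  posx : b.IsPos x
  pos : b.IsPos γ
  lamx : lam (P.root x) = 0
  mem : P.reflectionPerm γ γ ∈ Ψ
  anti : ∀ β ∈ b.support, β ≠ α → P.pairing γ β ≤ 0
  le : P.pairing α x ≤ -2
  eq : P.pairing x α = -1

variable (hF1 : ∀ a, 0 ≤ lam (P.root a) → a ∈ Ψ)
  (hF2 : ∀ a, ∀ β ∈ b.support, β ≠ α → a ∈ Ψ → P.reflectionPerm β a ∈ Ψ)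
  (hΨ : BrClosed P p Ψ) (hp : 2 ≤ p) (hex : p = 2 → ∀ c, P.pairing c α ≠ -3)

include hα hlam hlam0 hF1 hF2 hΨ hp hex

/-- **First step**: from a root vector outside the parabolic subalgebra to `-α` or `-(α + x)`. -/
theorem step1 (n : ℕ) : ∀ γ, b.IsPos γ → 0 < lam (P.root γ) → P.reflectionPerm γ γ ∈ Ψ →
    b.height γ ≤ n → P.reflectionPerm α α ∈ Ψ ∨ ∃ γ x, Conf b α lam Ψ γ x := by
  induction n with
  | zero =>
    intro γ h1 _ _ h4
    rw [RootPairing.Base.isPos_iff] at h1
    omega
  | succ n ih =>
    intro γ h1 h2 h3 h4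
    by_cases h5 : ∃ β ∈ b.support, β ≠ α ∧ 0 < P.pairing γ β
    · obtain ⟨β, hβ, hβα, hβ2⟩ := h5
      have hne : γ ≠ β := by
        rintro rfl
        rw [hlam γ hβ hβα] at h2
        omega
      obtain ⟨h6, h7⟩ := isPos_refl b h1 hβ hne hβ2
      apply ih (P.reflectionPerm β γ) h6 ?_ ?_ (by omega)
      · rw [P.root_reflectionPerm, P.reflection_apply_root, map_sub, map_zsmul,
          hlam β hβ hβα, smul_zero, sub_zero]
        exact h2
      · rw [← refl_n]
        exact hF2 _ β hβ hβα h3
    · push Not at h5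
      obtain ⟨β, hβ, hβ2⟩ := exists_pos_pairing b h1
      have hβα : β = α := by
        by_contra hne
        have := h5 β hβ hne
        omega
      subst hβα
      by_cases hγ : γ = β
      · left; rw [← hγ]; exact h3
      obtain ⟨γ', hγ', h6, h7⟩ := exists_sub b h1 hβ hγ hβ2
      have hli : LI P β γ := li_pos b (RootPairing.Base.isPos_of_mem_support hβ) h1 (Ne.symm hγ)
      have h8 : P.reflectionPerm γ' γ' ∈ Ψ := by
        refine brk_pos hΨ (by omega) hli hγ' (fun f hf => ?_) (hF1 β hlam0.le) h3
        have hf1 := pairing_root (P := P) hf β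
        rw [P.pairing_same] at hf1
        have hf2 : LI P β f := hli.of_root hf
        have hf3 := pairing_bd hf2.symm
        have hp2 : p = 2 := by
          by_contra hne
          have : (3 : ℤ) ≤ p := by exact_mod_cast (by omega : 3 ≤ p)
          omega
        subst hp2
        apply hex rfl (P.reflectionPerm f f)
        rw [pairing_n]
        push_cast at hf1
        omega
      have h9 : lam (P.root γ') = lam (P.root γ) - lam (P.root β) := by rw [hγ', map_sub]
      have h10 := lam_nonneg b hβ lam hlam hlam0 h6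
      rcases h10.lt_or_eq with h11 | h11
      · exact ih γ' h6 h11 h8 (by omega)
      · right
        have h12 : P.root γ = P.root β + P.root γ' := by rw [hγ']; abel
        have h13 : P.pairing γ γ' ≤ 0 := form_nonpos b hβ lam hlam hlam0 h6 h11.symm h5
        have h14 := pairing_root (P := P) (a := γ') (b := β) (e := γ) (i := 1)
          (by rw [h12, one_smul]) γ'
        rw [P.pairing_same] at h14
        have hne : β ≠ γ' := by
          rintro rfl
          omega
        have hli' := li_pos b (RootPairing.Base.isPos_of_mem_support hβ) h6 hne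
        have h15 := pairs (P := P) hne (li_ne' hli')
        refine ⟨γ, γ', ⟨h12, h6, h1, h11.symm, h3, h5, by omega, by omega⟩⟩

omit hex in
/-- **Second step**: from `-α` to all roots of a good set. -/
theorem step2 (hmem : P.reflectionPerm α α ∈ Ψ) (good : κ → Prop)
    (hg1 : ∀ δ, ∀ β ∈ b.support, good δ → good (P.reflectionPerm β δ))
    (hg2 : ∀ δ δ', good δ → b.IsPos δ → δ ≠ α → 0 < P.pairing δ α →
      P.root δ' = P.root δ - P.root α → good δ' ∧
        ∀ f, P.root f ≠ P.root δ - (p : ℤ) • P.root α) (n : ℕ) :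
    ∀ δ, b.IsPos δ → good δ → b.height δ ≤ n → P.reflectionPerm δ δ ∈ Ψ := by
  induction n with
  | zero =>
    intro γ h1 _ h4
    rw [RootPairing.Base.isPos_iff] at h1
    omega
  | succ n ih =>
    intro δ h1 h2 h4
    by_cases hδα : δ = α
    · rw [hδα]; exact hmem
    by_cases h5 : ∃ β ∈ b.support, β ≠ α ∧ 0 < P.pairing δ β
    · obtain ⟨β, hβ, hβα, hβ2⟩ := h5
      by_cases hne : δ = β
      · rw [hne]
        apply hF1
        rw [root_n, map_neg, hlam β hβ hβα, neg_zero]
      obtain ⟨h6, h7⟩ := isPos_refl b h1 hβ hne hβ2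
      have h8 := hF2 _ β hβ hβα (ih (P.reflectionPerm β δ) h6 (hg1 δ β hβ h2) (by omega))
      rwa [refl_n, P.reflectionPerm_self] at h8
    · push Not at h5
      obtain ⟨β, hβ, hβ2⟩ := exists_pos_pairing b h1
      have hβα : β = α := by
        by_contra hne
        have := h5 β hβ hne
        omega
      subst hβα
      obtain ⟨δ', hδ', h6, h7⟩ := exists_sub b h1 hβ hδα hβ2
      obtain ⟨h8, h9⟩ := hg2 δ δ' h2 h1 hδα hβ2 hδ'
      have hli : LI P β δ := li_pos b (RootPairing.Base.isPos_of_mem_support hβ) h1 (Ne.symm hδα)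
      refine brk_neg hΨ (by omega) (hli.of_root (i := -1) (by rw [hδ']; module)) hδ' h9 hmem
        (ih δ' h6 h8 (by omega))

omit hΨ hp hex hF2 [P.IsReduced] [Fintype κ] in
lemma mem_of_pos {Q : κ → Prop} (h : ∀ δ, b.IsPos δ → Q δ → P.reflectionPerm δ δ ∈ Ψ)
    (hQ : ∀ δ, Q δ → Q (P.reflectionPerm δ δ)) (e : κ) (he : Q e) : e ∈ Ψ := by
  by_cases h1 : 0 ≤ lam (P.root e)
  · exact hF1 e h1
  · have h2 : ¬ b.IsPos e := fun h2 => h1 (lam_nonneg b hα lam hlam hlam0 h2)
    have h3 : b.IsPos (P.reflectionPerm e e) := (RootPairing.Base.IsPos.or_neg b e).resolve_left h2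
    have h4 := h _ h3 (hQ e he)
    rwa [n_n] at h4

/-- **The case without an edge of multiplicity `p`** -/
theorem caseA (hprime : p.Prime)
    (hA : ∀ x y, ¬ (P.pairing x y = -(p : ℤ) ∧ P.pairing y x = -1))
    (h0 : ∃ γ, lam (P.root γ) < 0 ∧ γ ∈ Ψ) (e : κ) : e ∈ Ψ := by
  obtain ⟨γ, hγ, hγΨ⟩ := h0
  have h1 : ¬ b.IsPos γ := fun h => by
    have := lam_nonneg b hα lam hlam hlam0 h
    omega
  have h2 : b.IsPos (P.reflectionPerm γ γ) := (RootPairing.Base.IsPos.or_neg b γ).resolve_left h1
  have h3 : P.reflectionPerm α α ∈ Ψ := by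
    rcases step1 b hα lam hlam hlam0 hF1 hF2 hΨ hp hex _ _ h2
      (by rw [root_n, map_neg]; omega) (by rwa [n_n])
      (le_of_eq (Int.toNat_of_nonneg (le_of_lt h2)).symm) with h | ⟨γ, x, h⟩
    · exact h
    · have hαx : α ≠ x := by
        rintro rfl
        have := h.lamx
        omega
      have hli : LI P α x := li_pos b (RootPairing.Base.isPos_of_mem_support hα) h.posx hαx
      have hli' : LI P x γ := by
        apply hli.symm.of_root (i := 1)
        rw [h.root, one_smul]
      have hbd := pairing_bd hli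
      have hle := h.le
      obtain ⟨m, hm⟩ : ∃ m : ℕ, P.pairing α x = -((m : ℤ) + 1) :=
        ⟨(-(P.pairing α x) - 1).toNat, by omega⟩
      refine hΨ x (P.reflectionPerm γ γ) (P.reflectionPerm α α) m (li_neg_right hli') ?_ ?_ ?_ ?_
        (hF1 x h.lamx.ge) h.mem
      · rw [root_n, root_n, h.root]; abel
      · refine ⟨P.reflectionPerm x (P.reflectionPerm α α), ?_⟩
        rw [refl_n, root_n, P.root_reflectionPerm, P.reflection_apply_root, root_n, h.root, hm]
        module
      · rintro ⟨f, hf⟩
        have hf' : P.root f = P.root (P.reflectionPerm γ γ) + (-((m : ℤ) + 1)) • P.root x := by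
          rw [hf]; module
        have h4 := pairing_root hf' x
        have h5 := (li_neg_right hli').of_root hf'
        have h6 := pairing_bd h5.symm
        have h7 := pairing_root (P := P) (a := x) (b := α) (e := γ) (i := 1)
          (by rw [h.root, one_smul]) x
        rw [pairing_n, h7, P.pairing_same, hm] at h4
        omega
      · intro hd
        have h4 : m + 1 = 2 ∨ m + 1 = 3 := by omega
        have h5 : p = m + 1 := by
          rcases h4 with h4 | h4
          · rw [h4] at hd ⊢
            exact (Nat.prime_dvd_prime_iff_eq hprime Nat.prime_two).mp hd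
          · rw [h4] at hd ⊢
            exact (Nat.prime_dvd_prime_iff_eq hprime Nat.prime_three).mp hd
        exact hA α x ⟨by rw [hm, h5]; push_cast; ring, h.eq⟩
  refine mem_of_pos b hα lam hlam hlam0 hF1 (Q := fun _ => True) (fun δ hδ _ => ?_)
    (fun _ _ => trivial) e trivial
  refine step2 b hα lam hlam hlam0 hF1 hF2 hΨ hp h3 (fun _ => True) (fun _ _ _ _ => trivial) ?_
    _ δ hδ trivial (le_of_eq (Int.toNat_of_nonneg (le_of_lt hδ)).symm)
  intro δ δ' _ h4 h5 h6 h7
  refine ⟨trivial, fun f hf => ?_⟩
  have hli : LI P α δ := li_pos b (RootPairing.Base.isPos_of_mem_support hα) h4 (Ne.symm h5)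
  have hf' : P.root f = P.root δ + (-(p : ℤ)) • P.root α := by rw [hf]; module
  have h8 := pairing_root hf' α
  rw [P.pairing_same] at h8
  have h9 := hli.of_root hf'
  have h10 := pair_cases h9
  have h11 := pair_cases hli
  have h12 : p < 4 := by
    by_contra h
    have : (4 : ℤ) ≤ p := by exact_mod_cast (by omega : 4 ≤ p)
    omega
  obtain rfl | rfl : p = 2 ∨ p = 3 := by omega
  · have h13 : P.pairing δ α = 1 ∨ P.pairing δ α = 2 ∨ P.pairing δ α = 3 := by omega
    rcases h13 with h13 | h13 | h13
    · exact hex rfl f (by rw [h8, h13]; rfl)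
    · have h14 : P.pairing f α = -2 := by rw [h8, h13]; rfl
      exact hA f α ⟨h14, h10.2.2.1 h14⟩
    · exact hex rfl (P.reflectionPerm δ δ) (by rw [pairing_n, h13])
  · have h14 : P.pairing f α = -3 := by push_cast at h8; omega
    exact hA f α ⟨h14, h10.2.1 h14⟩

omit hex in
/-- **The case with an edge of multiplicity `p`** -/
theorem caseB (hirr : Irr P) (hp3 : p = 2 ∨ p = 3) {x₀ y₀ : κ}
    (hxy : P.pairing x₀ y₀ = -(p : ℤ)) (hyx : P.pairing y₀ x₀ = -1)
    (h0 : ∃ γ, lam (P.root γ) < 0 ∧ γ ∈ Ψ) (e : κ) (he : len P e = len P y₀) : e ∈ Ψ := by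
  have hs := len_pos (P := P) y₀
  have hx₀ : len P x₀ = p * len P y₀ := by
    have := len_swap (P := P) x₀ y₀
    rw [hxy, hyx] at this
    linarith
  have hlen : ∀ e, len P e = len P y₀ ∨ len P e = p * len P y₀ := by
    intro e
    rcases conj_or hirr (m := (p : ℤ)) (by rcases hp3 with rfl | rfl <;> simp) hxy hyx e with h | h
    · right; rw [← len_conj h, hx₀]
    · left; exact (len_conj h).symm
  have hexB : p = 2 → ∀ c y, P.pairing c y ≠ -3 := by
    rintro rfl c y h
    have hne : c ≠ y := by
      rintro rfl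
      rw [P.pairing_same] at h
      omega
    have hne' : c ≠ P.reflectionPerm y y := by
      rintro rfl
      rw [pairing_n, P.pairing_same] at h
      omega
    have h1 := (pair_cases (li_of_ne hne hne').symm).2.1 h
    have h2 := len_swap (P := P) c y
    rw [h, h1] at h2
    have h3 := hlen c
    have h4 := hlen y
    push_cast at h3 h4
    omega
  obtain ⟨γ, hγ, hγΨ⟩ := h0
  have h1 : ¬ b.IsPos γ := fun h => by
    have := lam_nonneg b hα lam hlam hlam0 h
    omega
  have h2 : b.IsPos (P.reflectionPerm γ γ) := (RootPairing.Base.IsPos.or_neg b γ).resolve_left h1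
  have hp' : (p : ℤ) = 2 ∨ (p : ℤ) = 3 := by rcases hp3 with rfl | rfl <;> simp
  have hαpos := RootPairing.Base.isPos_of_mem_support hα
  -- pairings of a short root with `α`
  have hpα : ∀ δ, b.IsPos δ → len P δ = len P y₀ → δ ≠ α → 0 < P.pairing δ α →
      P.pairing δ α = 1 := by
    intro δ h3 h4 h5 h6
    have hli : LI P α δ := li_pos b hαpos h3 (Ne.symm h5)
    have h7 := len_swap (P := P) δ α
    have h8 := pairs h5 (li_ne' hli.symm)
    have h9 := hlen α
    rw [h4] at h7
    rcases hp' with hp' | hp' <;> rw [hp'] at h9 <;>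
    rcases h8 with h | h | h | h | h | h | h | h | h | h | h <;>
      (obtain ⟨e1, e2⟩ := h; rw [e1, e2] at h7; omega)
  have hfα : ∀ δ y, b.IsPos δ → LI P y δ → P.pairing δ y = 1 → ∀ f, P.root f ≠
      P.root δ - (p : ℤ) • P.root y := by
    intro δ y h3 hli h6 f hf
    have hf' : P.root f = P.root δ + (-(p : ℤ)) • P.root y := by rw [hf]; module
    have h8 := pairing_root hf' y
    rw [P.pairing_same, h6] at h8
    have h9 := pairing_bd (hli.of_root hf').symm
    rcases hp3 with rfl | rfl
    · exact hexB rfl f y (by rw [h8]; rfl)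
    · push_cast at h8
      omega
  have hsame : ∀ x y, LI P x y → len P x = len P y → P.pairing x y = P.pairing y x ∧
      -1 ≤ P.pairing x y ∧ P.pairing x y ≤ 1 := by
    intro x y hli hl
    have h7 := len_swap (P := P) x y
    have h8 := pairs (li_ne hli) (li_ne' hli)
    have h9 := len_pos (P := P) y
    rw [hl] at h7
    have h10 : P.pairing x y = P.pairing y x := mul_right_cancel₀ h9.ne' h7
    omega
  refine mem_of_pos b hα lam hlam hlam0 hF1 (Q := fun δ => len P δ = len P y₀) (fun δ hδ hl => ?_)
    (fun δ hδ => by rw [len_neg]; exact hδ) e he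
  rcases step1 b hα lam hlam hlam0 hF1 hF2 hΨ hp (fun h c => hexB h c α) _ _ h2
      (by rw [root_n, map_neg]; omega) (by rwa [n_n])
      (le_of_eq (Int.toNat_of_nonneg (le_of_lt h2)).symm) with h | ⟨γ, x, h⟩
  · refine step2 b hα lam hlam hlam0 hF1 hF2 hΨ hp h (fun δ => len P δ = len P y₀)
      (fun δ β _ h => by rw [len_refl]; exact h) ?_
      _ δ hδ hl (le_of_eq (Int.toNat_of_nonneg (le_of_lt hδ)).symm)
    intro δ δ' h3 h4 h5 h6 h7
    have h8 := hpα δ h4 h3 h5 h6
    refine ⟨?_, hfα δ α h4 (li_pos b hαpos h4 (Ne.symm h5)) h8⟩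
    have h9 : δ' = P.reflectionPerm α δ := by
      apply P.root.injective
      rw [h7, P.root_reflectionPerm, P.reflection_apply_root, h8, one_smul]
    rw [h9, len_refl]
    exact h3
  · -- `γ = α + x` is short
    have hαx : α ≠ x := by
      rintro rfl
      have := h.lamx
      omega
    have hli : LI P α x := li_pos b hαpos h.posx hαx
    have hlx : len P x = len P y₀ ∧ len P α = p * len P y₀ := by
      have h3 := len_swap (P := P) α x
      have h4 := hlen α
      have h5 := hlen x
      have h6 := pairing_bd hli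
      have h7 := h.le
      rw [h.eq] at h3
      rcases (by omega : P.pairing α x = -2 ∨ P.pairing α x = -3) with h8 | h8 <;>
      rw [h8] at h3 <;> rcases hp' with hp' | hp' <;> rw [hp'] at h4 h5 ⊢ <;> omega
    have hpx : P.pairing α x = -(p : ℤ) := by
      have h3 := len_swap (P := P) α x
      rw [h.eq, hlx.1, hlx.2] at h3
      have h4 : (P.pairing α x + p) * len P y₀ = 0 := by linarith
      rcases mul_eq_zero.mp h4 with h5 | h5
      · omega
      · omega
    have hγx : γ = P.reflectionPerm α x := by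
      apply P.root.injective
      rw [h.root, P.root_reflectionPerm, P.reflection_apply_root, h.eq]
      module
    have hlγ : len P γ = len P y₀ := by rw [hγx, len_refl]; exact hlx.1
    have hlamγ : lam (P.root γ) = lam (P.root α) := by rw [h.root, map_add, h.lamx, add_zero]
    have main : ∀ n : ℕ, ∀ δ, b.IsPos δ → len P δ = len P y₀ → b.height δ ≤ n →
        P.reflectionPerm δ δ ∈ Ψ := by
      intro n
      induction n with
      | zero =>
        intro γ h1 _ h4
        rw [RootPairing.Base.isPos_iff] at h1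
        omega
      | succ n ih =>
        intro δ h3 h4 h5
        by_cases h6 : ∃ β ∈ b.support, β ≠ α ∧ 0 < P.pairing δ β
        · obtain ⟨β, hβ, hβα, hβ2⟩ := h6
          by_cases hne : δ = β
          · rw [hne]
            apply hF1
            rw [root_n, map_neg, hlam β hβ hβα, neg_zero]
          obtain ⟨h7, h8⟩ := isPos_refl b h3 hβ hne hβ2
          have h9 := hF2 _ β hβ hβα (ih (P.reflectionPerm β δ) h7 (by rw [len_refl]; exact h4)
            (by omega))
          rwa [refl_n, P.reflectionPerm_self] at h9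
        push Not at h6
        obtain ⟨β, hβ, hβ2⟩ := exists_pos_pairing b h3
        have hβα : β = α := by
          by_contra hne
          have := h6 β hβ hne
          omega
        subst hβα
        have hδβ : δ ≠ β := by
          rintro rfl
          rw [hlx.2] at h4
          rcases hp' with hp' | hp' <;> rw [hp'] at h4 <;> omega
        have h7 := hpα δ h3 h4 hδβ hβ2
        by_cases hδγ : δ = γ
        · rw [hδγ]; exact h.mem
        have h8 := lam_nonneg b hβ lam hlam hlam0 h3
        rcases h8.eq_or_lt with h9 | h9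
        · apply hF1
          rw [root_n, map_neg, ← h9, neg_zero]
        have h10 := lam_ge b hβ lam hlam hlam0 h9
        have h11 := form_nonpos b hβ lam hlam hlam0 h.posx h.lamx h6
        have h12 : P.pairing β δ = p := by
          have := len_swap (P := P) β δ
          rw [h7, h4, hlx.2, one_mul] at this
          exact mul_right_cancel₀ hs.ne' this
        have hxδ : x ≠ δ := by
          rintro rfl
          have := h.lamx
          omega
        have hlixδ : LI P x δ := li_pos b h.posx h3 hxδ
        obtain ⟨h13, h14, h15⟩ := hsame x δ hlixδ (by rw [hlx.1, h4])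
        have hliγδ : LI P γ δ := li_pos b h.pos h3 (Ne.symm hδγ)
        obtain ⟨h16, h17, h18⟩ := hsame γ δ hliγδ (by rw [hlγ, h4])
        have h19 := pairing_root (P := P) (a := x) (b := β) (e := γ) (i := 1)
          (by rw [h.root, one_smul]) δ
        have h20 : p = 2 := by
          by_contra hne
          have : (p : ℤ) = 3 := by omega
          omega
        have h21 : P.pairing δ γ = 1 := by
          have : (p : ℤ) = 2 := by exact_mod_cast h20
          omega
        have hδ₂ : P.root (P.reflectionPerm γ δ) = P.root δ - P.root γ := by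
          rw [P.root_reflectionPerm, P.reflection_apply_root, h21, one_smul]
        have hδ₂' : P.root (P.reflectionPerm γ δ) = P.root δ + (-1 : ℤ) • P.root γ := by
          rw [hδ₂]; module
        have hl₂ : len P (P.reflectionPerm γ δ) = len P y₀ := by rw [len_refl]; exact h4
        have hlam₂ : lam (P.root (P.reflectionPerm γ δ)) = lam (P.root δ) - lam (P.root β) := by
          rw [hδ₂, map_sub, hlamγ]
        have hp₂ := pairing_root (P := P) (a := γ) (b := δ) (i := -1) hδ₂'
        rcases (by omega : lam (P.root (P.reflectionPerm γ δ)) = 0 ∨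
          0 < lam (P.root (P.reflectionPerm γ δ))) with h22 | h22
        · exfalso
          by_cases h23 : b.IsPos (P.reflectionPerm γ δ)
          · have h24 := form_nonpos b hβ lam hlam hlam0 h23 h22 h6
            have h25 := hp₂ δ
            rw [P.pairing_same, h16, h21] at h25
            have hne : P.reflectionPerm γ δ ≠ δ := by
              intro e1
              rw [e1, P.pairing_same] at h25
              omega
            have h26 := hsame _ _ (li_pos b h23 h3 hne) (by rw [hl₂, h4])
            omega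
          · have h23' : b.IsPos (P.reflectionPerm (P.reflectionPerm γ δ)
              (P.reflectionPerm γ δ)) := (RootPairing.Base.IsPos.or_neg b _).resolve_left h23
            have h24 := form_nonpos b hβ lam hlam hlam0 h23' (by rw [root_n, map_neg, h22]; rfl)
              h.anti
            have h25 := hp₂ γ
            rw [P.pairing_same, h21] at h25
            have h26 : P.pairing (P.reflectionPerm (P.reflectionPerm γ δ)
              (P.reflectionPerm γ δ)) γ = 1 := by rw [pairing_n, h25]; rfl
            have hne : P.reflectionPerm (P.reflectionPerm γ δ) (P.reflectionPerm γ δ) ≠ γ := by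
              intro e1
              rw [e1, P.pairing_same] at h26
              omega
            have h27 := hsame _ _ (li_pos b h23' h.pos hne) (by rw [len_neg, hl₂, hlγ])
            omega
        · have h23 : b.IsPos (P.reflectionPerm γ δ) := by
            by_contra h23
            have h23' : b.IsPos (P.reflectionPerm (P.reflectionPerm γ δ)
              (P.reflectionPerm γ δ)) := (RootPairing.Base.IsPos.or_neg b _).resolve_left h23
            have h24 := lam_nonneg b hβ lam hlam hlam0 h23'
            rw [root_n, map_neg] at h24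
            omega
          have h24 : b.height (P.reflectionPerm γ δ) < b.height δ := by
            have h25 := b.height_sub hδ₂
            have h26 := h.pos
            rw [RootPairing.Base.isPos_iff] at h26
            omega
          exact brk_neg hΨ (by omega) (hliγδ.of_root hδ₂') hδ₂
            (hfα δ γ h3 hliγδ h21) h.mem (ih _ h23 hl₂ (by omega))
    exact main _ δ hδ hl (le_of_eq (Int.toNat_of_nonneg (le_of_lt hδ)).symm)

end base

end K803.ParComb
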