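import Groth.Agent.ParSch.K803.RComb
import Groth.Agent.ParSch.K803.ParComb
import Groth.Agent.Agf.H613.TwComb
import Mathlib.GroupTheory.FiniteAbelian.Basic

/-!
# Root data with scaled roots
-/

set_option autoImplicit false
set_option linter.unusedSectionVars false
set_option linter.unusedVariables false

open RootPairing

namespace K803.Scale

open K803.RComb K803.ParComb

variable {idx M : Type} [AddCommGroup M] [Module.Free ℤ M] [Module.Finite ℤ M]
  (P : RootPairing idx ℤ M (Module.Dual ℤ M)) (q : idx → ℕ)

/-- conditions on the scaling factors -/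
structure Good : Prop where
  pos : ∀ a, 0 < q a
  refl : ∀ a b, q (P.reflectionPerm a b) = q b
  dvd : ∀ a b, (q a : ℤ) ∣ q b * P.pairing b a

/-- the lattice -/
def L : Submodule ℤ M where
  carrier := {χ | ∀ a, (q a : ℤ) ∣ P.coroot a χ}
  add_mem' := by
    intro x y hx hy a
    rw [map_add]
    exact dvd_add (hx a) (hy a)
  zero_mem' := by
    intro a
    rw [map_zero]
    exact dvd_zero _
  smul_mem' := by
    intro n x hx a
    rw [map_smul, smul_eq_mul]
    exact Dvd.dvd.mul_left (hx a) n

variable {P q}

lemma coroot_root (hpe : P.toLinearMap = Module.Dual.eval ℤ M) (a b : idx) :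
    P.coroot a (P.root b) = P.pairing b a := by
  rw [← P.root_coroot_eq_pairing, hpe]
  rfl

/-- divided coroots -/
def cor (q : idx → ℕ) (hq : ∀ a, 0 < q a) (a : idx) : L P q →ₗ[ℤ] ℤ where
  toFun χ := P.coroot a χ.1 / q a
  map_add' x y := by
    change P.coroot a (x.1 + y.1) / (q a : ℤ) = _
    rw [map_add, Int.add_ediv_of_dvd_left (x.2 a)]
  map_smul' n x := by
    change P.coroot a (n • x.1) / (q a : ℤ) = n * _
    rw [map_smul, smul_eq_mul, Int.mul_ediv_assoc _ (x.2 a)]

lemma mul_cor (hq : ∀ a, 0 < q a) (a : idx) (χ : L P q) :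
    (q a : ℤ) * cor q hq a χ = P.coroot a χ.1 := Int.mul_ediv_cancel' (χ.2 a)

lemma smul_mem (hpe : P.toLinearMap = Module.Dual.eval ℤ M) (h : Good P q) (a : idx) :
    (q a : ℤ) • P.root a ∈ L P q := by
  intro b
  rw [map_smul, smul_eq_mul, coroot_root hpe]
  exact h.dvd b a

variable [Finite idx] [P.IsReduced]

lemma eq_of_smul (hq : ∀ a, 0 < q a) {a b : idx}
    (h : (q a : ℤ) • P.root a = (q b : ℤ) • P.root b) : a = b := by
  by_contra hne
  have ha := hq a
  have hb := hq b
  by_cases h' : a = P.reflectionPerm b b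
  · rw [h', root_n] at h
    have h1 : ((q (P.reflectionPerm b b) : ℤ) + q b) • P.root b = 0 := by
      rw [add_smul, ← h]; module
    rcases smul_eq_zero.mp h1 with h2 | h2
    · have := hq (P.reflectionPerm b b)
      omega
    · exact P.ne_zero b h2
  · have := (li_of_ne hne h' (q a) (-(q b)) (by rw [h]; module)).1
    omega

/-- the root datum with scaled roots -/
noncomputable def scaled (hpe : P.toLinearMap = Module.Dual.eval ℤ M) (h : Good P q) :
    RootPairing idx ℤ (L P q) (Module.Dual ℤ (L P q)) where
  toLinearMap := Module.Dual.eval ℤ (L P q)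
  root := ⟨fun a => ⟨(q a : ℤ) • P.root a, smul_mem hpe h a⟩, fun a b hab =>
    eq_of_smul h.pos (congrArg Subtype.val hab)⟩
  coroot := ⟨fun a => cor q h.pos a, by
    intro a b hab
    have e : ∀ c, (q b : ℤ) * (q c * P.pairing c a) = q a * (q c * P.pairing c b) := by
      intro c
      have h1 := congrArg (fun f => f ⟨(q c : ℤ) • P.root c, smul_mem hpe h c⟩) hab
      have h2 := mul_cor h.pos a ⟨(q c : ℤ) • P.root c, smul_mem hpe h c⟩
      have h3 := mul_cor h.pos b ⟨(q c : ℤ) • P.root c, smul_mem hpe h c⟩
      change cor q h.pos a _ = cor q h.pos b _ at h1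
      rw [map_smul, smul_eq_mul, coroot_root hpe] at h2 h3
      rw [h1] at h2
      rw [← h2, ← h3]
      ring
    have hqa := h.pos a
    have hqb := h.pos b
    by_contra hne
    have e1 := e a
    have e2 := e b
    rw [P.pairing_same] at e1 e2
    have e3 : (q b : ℤ) * 2 = q a * P.pairing a b := by
      have : (q a : ℤ) * ((q b : ℤ) * 2 - q a * P.pairing a b) = 0 := by linarith
      rcases mul_eq_zero.mp this with h4 | h4
      · omega
      · linarith
    have e4 : (q b : ℤ) * P.pairing b a = q a * 2 := by
      have : (q b : ℤ) * ((q b : ℤ) * P.pairing b a - q a * 2) = 0 := by linarith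
      rcases mul_eq_zero.mp this with h4 | h4
      · omega
      · linarith
    have e5 : P.pairing a b * P.pairing b a = 4 := by
      have : (q a : ℤ) * q b * (P.pairing a b * P.pairing b a - 4) = 0 := by
        linear_combination (-(q b : ℤ) * P.pairing b a) * e3 + 2 * (q b : ℤ) * e4
      rcases mul_eq_zero.mp this with h4 | h4
      · rcases mul_eq_zero.mp h4 with h5 | h5 <;> omega
      · linarith
    by_cases h' : a = P.reflectionPerm b b
    · have h5 : P.pairing a b = -2 := by rw [h', pairing_n, P.pairing_same]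
      rw [h5] at e3
      have : (q a : ℤ) * (-2) < 0 := by
        have : (0 : ℤ) < q a := by exact_mod_cast hqa
        linarith
      have : (0 : ℤ) < (q b : ℤ) * 2 := by
        have : (0 : ℤ) < q b := by exact_mod_cast hqb
        linarith
      linarith
    · rcases pairs hne h' with h | h | h | h | h | h | h | h | h | h | h <;>
      (rw [h.1, h.2] at e5; norm_num at e5)⟩
  root_coroot_two a := by
    change cor q h.pos a ⟨(q a : ℤ) • P.root a, smul_mem hpe h a⟩ = 2
    have h2 := mul_cor h.pos a ⟨(q a : ℤ) • P.root a, smul_mem hpe h a⟩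
    rw [map_smul, smul_eq_mul, coroot_root hpe, P.pairing_same] at h2
    have : (0 : ℤ) < q a := by exact_mod_cast h.pos a
    exact mul_left_cancel₀ this.ne' h2
  reflectionPerm := P.reflectionPerm
  reflectionPerm_root a b := by
    apply Subtype.ext
    change (q b : ℤ) • P.root b - (cor q h.pos a ⟨(q b : ℤ) • P.root b, smul_mem hpe h b⟩) •
      ((q a : ℤ) • P.root a) = (q (P.reflectionPerm a b) : ℤ) • P.root (P.reflectionPerm a b)
    have h2 := mul_cor h.pos a ⟨(q b : ℤ) • P.root b, smul_mem hpe h b⟩
    rw [map_smul, smul_eq_mul, coroot_root hpe] at h2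
    rw [h.refl, P.root_reflectionPerm, P.reflection_apply_root, smul_smul, smul_sub, smul_smul,
      mul_comm _ (q a : ℤ), h2]
  reflectionPerm_coroot a b := by
    change cor q h.pos b - (cor q h.pos b ⟨(q a : ℤ) • P.root a, smul_mem hpe h a⟩) •
      cor q h.pos a = cor q h.pos (P.reflectionPerm a b)
    apply LinearMap.ext
    intro χ
    have ha : (0 : ℤ) < q a := by exact_mod_cast h.pos a
    have hb : (0 : ℤ) < q b := by exact_mod_cast h.pos b
    apply mul_left_cancel₀ hb.ne'
    have h2 := mul_cor h.pos b ⟨(q a : ℤ) • P.root a, smul_mem hpe h a⟩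
    rw [map_smul, smul_eq_mul, coroot_root hpe] at h2
    have h3 := mul_cor h.pos (P.reflectionPerm a b) χ
    rw [h.refl] at h3
    have h4 := mul_cor h.pos b χ
    have h5 := mul_cor h.pos a χ
    rw [LinearMap.sub_apply, LinearMap.smul_apply, smul_eq_mul, h3, mul_sub, h4]
    have h6 : P.coroot (P.reflectionPerm a b) χ.1 = P.coroot b χ.1 -
        P.pairing a b * P.coroot a χ.1 := by
      have := P.reflectionPerm_coroot a b
      rw [P.root_coroot_eq_pairing] at this
      rw [← this, LinearMap.sub_apply, LinearMap.smul_apply, smul_eq_mul]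
    rw [h6, ← h5]
    linear_combination (-(cor q h.pos a χ)) * h2

variable (hpe : P.toLinearMap = Module.Dual.eval ℤ M) (h : Good P q)

lemma scaled_root (a : idx) : ((scaled hpe h).root a : M) = (q a : ℤ) • P.root a := rfl

lemma scaled_coroot (a : idx) (χ : L P q) :
    (q a : ℤ) * (scaled hpe h).coroot a χ = P.coroot a χ.1 := mul_cor h.pos a χ

lemma scaled_pairing (a b : idx) :
    (q b : ℤ) * (scaled hpe h).pairing a b = q a * P.pairing a b := by
  have h2 := mul_cor h.pos b ⟨(q a : ℤ) • P.root a, smul_mem hpe h a⟩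
  rw [map_smul, smul_eq_mul, coroot_root hpe] at h2
  exact h2

instance isReduced : (scaled hpe h).IsReduced := by
  constructor
  intro a b hab
  have h1 : ¬ LinearIndependent ℤ ![P.root a, P.root b] := by
    intro h2
    apply hab
    rw [LinearIndependent.pair_iff] at h2 ⊢
    intro s t hst
    have h3 := congrArg Subtype.val hst
    change s • ((q a : ℤ) • P.root a) + t • ((q b : ℤ) • P.root b) = 0 at h3
    rw [smul_smul, smul_smul] at h3
    obtain ⟨h4, h5⟩ := h2 _ _ h3
    have ha := h.pos a
    have hb := h.pos b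
    constructor
    · rcases mul_eq_zero.mp h4 with h6 | h6 <;> omega
    · rcases mul_eq_zero.mp h5 with h6 | h6 <;> omega
  rcases RootPairing.IsReduced.eq_or_eq_neg (P := P) a b h1 with h2 | h2
  · left
    rw [P.root.injective h2]
  · right
    have h3 : a = P.reflectionPerm b b := P.root.injective (by rw [root_n, h2])
    apply Subtype.ext
    change (q a : ℤ) • P.root a = -((q b : ℤ) • P.root b)
    rw [h3, h.refl, root_n, smul_neg]

omit [Finite idx] [P.IsReduced] [Module.Free ℤ M] in
lemma finite_quot [Fintype idx] (h : Good P q) :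
    Finite (M ⧸ LinearMap.range (L P q).subtype) := by
  classical
  rw [Submodule.range_subtype]
  apply Module.finite_of_fg_torsion
  intro x
  induction x using Submodule.Quotient.induction_on with
  | _ x =>
    have hQ : (0 : ℤ) < ∏ a : idx, (q a : ℤ) :=
      Finset.prod_pos fun a _ => by exact_mod_cast h.pos a
    refine ⟨⟨∏ a : idx, (q a : ℤ), mem_nonZeroDivisors_of_ne_zero hQ.ne'⟩, ?_⟩
    change (∏ a : idx, (q a : ℤ)) • (Submodule.Quotient.mk x : M ⧸ L P q) = 0
    rw [← Submodule.Quotient.mk_smul, Submodule.Quotient.mk_eq_zero]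
    intro a
    rw [map_smul, smul_eq_mul]
    exact Dvd.dvd.mul_right (Finset.dvd_prod_of_mem (fun a => (q a : ℤ)) (Finset.mem_univ a)) _

/-- equivalences of root pairings are compatible with the coroots -/
lemma coroot_weightMap {I J M N M₂ N₂ : Type} [AddCommGroup M] [AddCommGroup N]
    [AddCommGroup M₂] [AddCommGroup N₂] {P : RootPairing I ℤ M N} {Q : RootPairing J ℤ M₂ N₂}
    (h : RootPairing.Equiv P Q) (c : I) (m : M) :
    Q.toLinearMap (h.weightMap m) (Q.coroot (h.indexEquiv c)) = P.toLinearMap m (P.coroot c) := by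
  have h1 := RootPairing.Hom.weight_coweight_transpose_apply P Q (Q.coroot (h.indexEquiv c)) h.toHom
  have h2 := congrArg (fun z => z m) h1
  rw [RootPairing.Hom.coroot_coweightMap_apply, Equiv.symm_apply_apply] at h2
  exact h2

/-- **the isogeny of root data given by scaling factors** -/
noncomputable def rootIsog [Fintype idx] {p : ℕ} (hq : ∀ a, ∃ m : ℕ, q a = p ^ m)
    {J M₁ : Type} [AddCommGroup M₁]
    {P₁ : RootPairing J ℤ M₁ (Module.Dual ℤ M₁)} (hpe₁ : P₁.toLinearMap = Module.Dual.eval ℤ M₁)
    (e : RootPairing.Equiv P₁ (scaled hpe h)) : AGF.RootIsog P P₁ p where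
  f := (L P q).subtype ∘ₗ e.weightMap
  injective := (Subtype.val_injective).comp e.bijective_weightMap.1
  finite_coker := by
    have h1 : LinearMap.range ((L P q).subtype ∘ₗ e.weightMap) =
        LinearMap.range (L P q).subtype := by
      rw [LinearMap.range_comp, LinearMap.range_eq_top.mpr e.bijective_weightMap.2,
        Submodule.map_top]
    rw [h1]
    exact finite_quot h
  e := e.indexEquiv.symm
  q := q
  q_pow := hq
  root a := by
    have h1 := RootPairing.Hom.root_weightMap_apply P₁ (scaled hpe h) (e.indexEquiv.symm a) e.toHom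
    rw [Equiv.apply_symm_apply] at h1
    change ((e.weightMap (P₁.root (e.indexEquiv.symm a)) : L P q) : M) = _
    rw [h1]
    rfl
  coroot a := by
    apply LinearMap.ext
    intro m
    have h1 := coroot_weightMap e (e.indexEquiv.symm a) m
    rw [Equiv.apply_symm_apply, hpe₁] at h1
    change (scaled hpe h).coroot a (e.weightMap m) = P₁.coroot (e.indexEquiv.symm a) m at h1
    have h2 := scaled_coroot hpe h a (e.weightMap m)
    rw [h1] at h2
    exact h2.symm

end K803.Scale
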