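import Groth.Agent.Agf.H613.TwComb

/-!
# The combinatorial data of an isogeny of root data, for a given base
-/

set_option autoImplicit false
set_option linter.unusedSectionVars false
universe u

open Module Set Function

namespace K803.TwB

open Groth.Agent.Sga3B Groth.Agent.Sga3B.Cell Groth.Agent.Agf.H613.TwData
open Groth.Agent.Agf.H613.TwComb

variable {idx M idx' M' : Type} [Fintype idx] [AddCommGroup M] [Module.Free ℤ M]
    [Module.Finite ℤ M] [Fintype idx'] [AddCommGroup M'] [Module.Free ℤ M']
    [Module.Finite ℤ M'] {P : RootPairing idx ℤ M (Module.Dual ℤ M)}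
    {P' : RootPairing idx' ℤ M' (Module.Dual ℤ M')}

/-- **The combinatorial data of an isogeny of root data** -/
theorem exists_tw_base (k : Type u) [Field k] (hpe : P.toLinearMap = Module.Dual.eval ℤ M)
    (hpe' : P'.toLinearMap = Module.Dual.eval ℤ M') [P.IsReduced]
    (Φ : AGF.RootIsog P P' (ringExpChar k)) [(reindex P' Φ.e).IsReduced] (b : P.Base) :
    ∃ (b'' : (reindex P' Φ.e).Base) (τ : Tw P b (reindex P' Φ.e) b'' k),
      τ.f = Φ.f.toAddMonoidHom ∧ τ.e = Equiv.refl idx ∧ τ.q = Φ.q := by
  classical
  have : IsReflexive ℤ M := .of_isPerfPair P.toLinearMap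
  have htf : IsAddTorsionFree M := .of_isTorsionFree ℤ M
  have htf' : IsAddTorsionFree M' := .of_isTorsionFree ℤ M'
  set P'' := reindex P' Φ.e with hP''
  obtain ⟨lam, hlam0, hlam⟩ := exists_sign_functional b
  have hp : 0 < ringExpChar k := expChar_pos k (ringExpChar k)
  have hq : ∀ a, 0 < Φ.q a := by
    intro a
    obtain ⟨m, hm⟩ := Φ.q_pow a
    rw [hm]
    exact Nat.pow_pos hp
  have hroot : ∀ a, Φ.f (P''.root a) = (Φ.q a : ℤ) • P.root a := Φ.root
  have hmul : ∀ a, lam (Φ.f (P''.root a)) = Φ.q a * lam (P.root a) := by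
    intro a
    rw [hroot, map_zsmul, smul_eq_mul]
  obtain ⟨b'', hb''⟩ := BaseZ.exists_base_isPos P'' (lam.comp Φ.f.toAddMonoidHom) (fun a => by
    change lam (Φ.f (P''.root a)) ≠ 0
    rw [hmul]
    exact mul_ne_zero (by exact_mod_cast (hq a).ne') (hlam0 a))
  have hpos : ∀ a, b''.IsPos a ↔ b.IsPos a := by
    intro a
    rw [hb'', hlam]
    change 0 < lam (Φ.f (P''.root a)) ↔ _
    rw [hmul]
    exact mul_pos_iff_of_pos_left (by exact_mod_cast hq a)
  -- finite cokernel
  have hfin : ∃ n : ℕ, 0 < n ∧ ∀ m : M, ∃ m' : M', Φ.f m' = n • m := by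
    have := Φ.finite_coker
    refine ⟨Nat.card (M ⧸ LinearMap.range Φ.f), Nat.card_pos, fun m => ?_⟩
    have h1 : Nat.card (M ⧸ LinearMap.range Φ.f) •
        (Submodule.Quotient.mk m : M ⧸ LinearMap.range Φ.f) = 0 := card_nsmul_eq_zero'
    rw [← Submodule.Quotient.mk_smul, Submodule.Quotient.mk_eq_zero] at h1
    exact h1
  -- the pairings correspond
  have hco : ∀ a (m : M'), P.coroot a (Φ.f m) = (Φ.q a : ℤ) * P''.coroot a m := by
    intro a m
    exact congrArg (fun g : M' →ₗ[ℤ] ℤ => g m) (Φ.coroot a)
  -- reflections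
  have hsub : ∀ a c, P.root (P.reflectionPerm a c) = P.root c - (P.coroot a (P.root c)) • P.root a := by
    intro a c
    rw [← P.reflectionPerm_root, hpe]
    rfl
  have hsub'' : ∀ a c, P''.root (P''.reflectionPerm a c) =
      P''.root c - (P''.coroot a (P''.root c)) • P''.root a := by
    intro a c
    rw [← P''.reflectionPerm_root, hP'', reindex_toLinearMap, hpe']
    rfl
  have hrefl : ∀ a c, (Φ.q (P''.reflectionPerm a c) : ℤ) • P.root (P''.reflectionPerm a c) =
      (Φ.q c : ℤ) • P.root (P.reflectionPerm a c) := by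
    intro a c
    have h1 := hroot (P''.reflectionPerm a c)
    rw [hsub'', map_sub, map_zsmul, hroot, hroot] at h1
    rw [← h1, hsub, smul_sub]
    congr 1
    have h2 := hco a (P''.root c)
    rw [hroot, map_zsmul, smul_eq_mul] at h2
    rw [smul_smul, smul_smul]
    congr 1
    rw [h2]
    ring
  have hsmul_inj : ∀ (m n : ℤ) (x : M), x ≠ 0 → m • x = n • x → m = n := by
    intro m n x hx h
    have h2 : (m - n) • x = 0 := by rw [sub_smul, h, sub_self]
    rcases smul_eq_zero.mp h2 with h3 | h3
    · omega
    · exact absurd h3 hx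
  have he : ∀ a c, P''.reflectionPerm a c = P.reflectionPerm a c := by
    intro a c
    have h1 := hrefl a c
    have hli : ¬ LinearIndependent ℤ ![P.root (P''.reflectionPerm a c),
        P.root (P.reflectionPerm a c)] := by
      intro hli
      rw [LinearIndependent.pair_iff] at hli
      have := (hli (Φ.q (P''.reflectionPerm a c)) (-(Φ.q c : ℤ)) (by rw [h1]; module)).2
      have h3 := hq c
      omega
    rcases RootPairing.IsReduced.eq_or_eq_neg (P := P) _ _ hli with h2 | h2
    · exact P.root.injective h2
    · exfalso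
      rw [h2] at h1
      have h4 : (-(Φ.q (P''.reflectionPerm a c) : ℤ)) • P.root (P.reflectionPerm a c) =
          (Φ.q c : ℤ) • P.root (P.reflectionPerm a c) := by
        rw [neg_smul, ← smul_neg]
        exact h1
      have h5 := hsmul_inj _ _ _ (P.ne_zero _) h4
      have h6 := hq c
      omega
  have hqr : ∀ a c, Φ.q (P.reflectionPerm a c) = Φ.q c := by
    intro a c
    have h1 := hrefl a c
    rw [he] at h1
    have := hsmul_inj _ _ _ (P.ne_zero _) h1
    exact_mod_cast this
  -- supports
  have hs1 : ∀ a ∈ b.support, a ∈ b''.support := fun a ha =>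
    support_sub b b'' Φ.f.toAddMonoidHom (fun a => (Φ.q a : ℤ)) (fun a => by exact_mod_cast hq a)
      hroot hpos ha
  have hs2 : ∀ a ∈ b''.support, a ∈ b.support := by
    obtain ⟨n, hn, hnf⟩ := hfin
    choose g hg using hnf
    let Q : ℕ := ∏ a : idx, Φ.q a
    have hQ : 0 < Q := Finset.prod_pos fun a _ => hq a
    have hQa : ∀ a, ∃ s : ℕ, 0 < s ∧ Q = Φ.q a * s := by
      intro a
      obtain ⟨s, hs⟩ := Finset.dvd_prod_of_mem (fun a => Φ.q a) (Finset.mem_univ a)
      refine ⟨s, ?_, hs⟩
      rcases Nat.eq_zero_or_pos s with h0 | h0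
      · rw [h0, mul_zero] at hs
        exact absurd hs hQ.ne'
      · exact h0
    choose s hs0 hs using hQa
    let g' : M →+ M' :=
      { toFun := fun m => Q • g m
        map_zero' := Φ.injective (by rw [map_nsmul, hg, smul_zero, smul_zero, map_zero])
        map_add' := fun m m' => Φ.injective (by
          rw [map_nsmul, hg, map_add, map_nsmul, map_nsmul, hg, hg, smul_add, smul_add]) }
    intro a ha
    refine support_sub b'' b g' (fun a => ((n * s a : ℕ) : ℤ))
      (fun a => by exact_mod_cast Nat.mul_pos hn (hs0 a)) (fun a => ?_)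
      (fun a => (hpos a).symm) ha
    apply Φ.injective
    change Φ.f (Q • g (P.root a)) = Φ.f (((n * s a : ℕ) : ℤ) • P''.root a)
    rw [map_nsmul, hg, map_zsmul, hroot, smul_smul, smul_smul, ← natCast_zsmul, hs a]
    congr 1
    push_cast
    ring
  have hlist : allList b = allList b'' := by
    have h1 : negList b = negList b'' := by
      unfold negList
      congr 1
      ext a
      simp only [Finset.mem_filter, Finset.mem_univ, true_and]
      rw [hpos]
    have h2 : posList b = posList b'' := by
      unfold posList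
      congr 1
      ext a
      simp only [Finset.mem_filter, Finset.mem_univ, true_and]
      rw [hpos]
    rw [allList, allList, h1, h2]
  exact ⟨b'', {
      f := Φ.f.toAddMonoidHom
      f_inj := Φ.injective
      fin := hfin
      e := Equiv.refl idx
      q := Φ.q
      q_pos := hq
      root := fun a => (hroot a).trans (natCast_zsmul _ _)
      coroot := hco
      e_refl := fun a c => (he a c).symm
      q_refl := hqr
      mem_support := fun a => ⟨hs2 a, hs1 a⟩
      list_eq := by
        rw [← hlist]
        exact List.map_id _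
      add_pow := fun a B _ _ x y => by
        obtain ⟨m, hm⟩ := Φ.q_pow a
        rw [hm]
        exact add_pow_of_pow k m B x y }, rfl, rfl, rfl⟩

end K803.TwB
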