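import Groth.Agent.ParSch.K803.HtOne
import Groth.Agent.ParSch.K803.Scale
import Groth.Agent.ParSch.K803.TwB
import Groth.Agent.Agf.H613.TwGlue
import Groth.Agent.Redsub.H632.Reduce
import Groth.Agent.S3948

/-!
# Isogenies with prescribed exponents
-/

set_option autoImplicit false
universe u

open CategoryTheory AlgebraicGeometry

namespace K803.Frob

open Groth.Agent.Sga3B Groth.Agent.Sga3B.Cell Groth.Agent.Sga3B.PinMod
open Groth.Agent.Sga3B.PtDescent Groth.Agent.Agf.H613 Groth.Agent.Agf.H613.TwData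
open K803.SubPt K803.Gen K803.Split K803.Lie K803.HtOne

variable {k : Type u} [Field k]

/-- an isogeny of split groups, on points -/
structure Isog {G G₁ : Over (Spec (CommRingCat.of k))} [GrpObj G] [GrpObj G₁]
    (D : Red.SplitRed G) (b : D.P.Base) (c : Chart G (𝟙 (Spec (CommRingCat.of k))))
    (D₁ : Red.SplitRed G₁) (b₁ : D₁.P.Base) (c₁ : Chart G₁ (𝟙 (Spec (CommRingCat.of k))))
    (q : D.idx → ℕ) where
  /-- the homomorphism of coordinate rings -/
  φ : c₁.A →ₐ[k] c.A
  /-- the bijection of the roots -/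
  e : D.idx ≃ D₁.idx
  /-- the map of the character lattices -/
  f : D₁.M →+ D.M
  /-- scaling factors -/
  r : D.idx → kˣ
  mul : ∀ (B : Type u) [CommRing B] [Algebra k B] (g h : Pt k c.A B),
    comap φ (g * h) = comap φ g * comap φ h
  torus : ∀ (B : Type u) [CommRing B] [Algebra k B] (t : TPt D.M B),
    comap φ ((c.datum D).i B t) = (c₁.datum D₁).i B (co f t)
  root : ∀ (a : D.idx) (B : Type u) [CommRing B] [Algebra k B] (x : B),
    comap φ ((c.datum D).uu a B x) = (c₁.datum D₁).uu (e a) B (algebraMap k B (r a) * x ^ q a)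
  ker : ∀ (B : Type u) [CommRing B] [Algebra k B] (ν : Pt k c.A B), comap φ ν = 1 →
    ∀ H : Subgroup (Pt k c.A B), (∀ a (x : B), x ^ q a = 0 → (c.datum D).uu a B x ∈ H) →
      (∀ t, (c.datum D).i B t ∈ H) → ν ∈ H
  cover : ∃ (T : Type u) (_ : CommRing T) (_ : Algebra k T) (_ : Algebra c₁.A T)
      (_ : IsScalarTower k c₁.A T) (_ : Module.FaithfullyFlat c₁.A T) (g : Pt k c.A T),
      comap φ g = Pt.mk (IsScalarTower.toAlgHom k c₁.A T)
  lift : ∀ (B : Type u) [CommRing B] [Algebra k B] (t₁ : TPt D₁.M B),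
    ∃ (B' : Type u) (_ : CommRing B') (_ : Algebra k B') (_ : Algebra B B')
      (_ : IsScalarTower k B B') (_ : Module.FaithfullyFlat B B') (t : TPt D.M B'),
      co f t = TPt.map (IsScalarTower.toAlgHom k B B') t₁
  froot : ∀ a, f (D₁.P.root (e a)) = q a • D.P.root a
  pairing : ∀ a b, (q b : ℤ) * D₁.P.pairing (e a) (e b) = q a * D.P.pairing a b
  refl : ∀ a b, e (D.P.reflectionPerm a b) = D₁.P.reflectionPerm (e a) (e b)
  support : ∀ a, e a ∈ b₁.support ↔ a ∈ b.support
  surj : Function.Surjective (PrimeSpectrum.comap (φ : c₁.A →+* c.A))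
  fin : (φ : c₁.A →+* c.A).Finite

variable {G : Over (Spec (CommRingCat.of k))} [GrpObj G]

omit [GrpObj G] in
lemma pairing_tw {I J M M' : Type} [Fintype I] [Fintype J] [AddCommGroup M] [AddCommGroup M']
    {P : RootPairing I ℤ M (Module.Dual ℤ M)} {P' : RootPairing J ℤ M' (Module.Dual ℤ M')}
    (hpe : P.toLinearMap = Module.Dual.eval ℤ M) (hpe' : P'.toLinearMap = Module.Dual.eval ℤ M')
    {b : P.Base} {b' : P'.Base} (τ : Tw P b P' b' k) (a c : I) :
    (τ.q c : ℤ) * P'.pairing (τ.e a) (τ.e c) = τ.q a * P.pairing a c := by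
  have h1 := τ.coroot c (P'.root (τ.e a))
  have h2 : P.coroot c (P.root a) = P.pairing a c := by
    rw [← P.root_coroot_eq_pairing, hpe]
    rfl
  have h3 : P'.coroot (τ.e c) (P'.root (τ.e a)) = P'.pairing (τ.e a) (τ.e c) := by
    rw [← P'.root_coroot_eq_pairing, hpe']
    rfl
  rw [τ.root, map_nsmul, h2, h3, nsmul_eq_mul] at h1
  exact h1.symm

/-- the isogeny attached to an isogeny of root data -/
theorem exists_of_rootIsog (D : Red.SplitRed G) (b : D.P.Base)
    (c : Chart G (𝟙 (Spec (CommRingCat.of k)))) {G' : Over (Spec (CommRingCat.of k))} [GrpObj G']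
    (D' : Red.SplitRed G') (Φ : AGF.RootIsog D.P D'.P (ringExpChar k)) :
    ∃ (D₁ : Red.SplitRed G') (b₁ : D₁.P.Base) (c₁ : Chart G' (𝟙 (Spec (CommRingCat.of k)))),
      Nonempty (Isog D b c D₁ b₁ c₁ Φ.q) := by
  let D'' : Red.SplitRed G' := TwGlue.reindexSplit D' Φ.e
  have hred : D.P.IsReduced := isReduced D
  have hred'' : (TwComb.reindex D'.P Φ.e).IsReduced := isReduced D''
  have : IsAffineHom G'.hom := D'.reductive.1
  have : Nonempty (Spec (CommRingCat.of k)) := inferInstance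
  obtain ⟨c''⟩ := exists_chart G' (𝟙 (Spec (CommRingCat.of k)))
  obtain ⟨b'', τ, hτf, hτe, hτq⟩ := TwB.exists_tw_base k D.pairing_eq D'.pairing_eq Φ b
  obtain ⟨E, hE⟩ := TwGlue.exists_pinCell D b c
  obtain ⟨E', hE'⟩ := TwGlue.exists_pinCell D'' b'' c''
  obtain ⟨φ, r, hφ⟩ := TwHom.exists_isTw τ E E'
  choose s hs using fun a => exists_scale E hE a
  choose s' hs' using fun a => exists_scale E' hE' a
  have hqpos := τ.q_pos
  refine ⟨D'', b'', c'', ⟨{
    φ := φ
    e := τ.e
    f := τ.f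
    r := fun a => s' (τ.e a) * r a * ((s a)⁻¹) ^ τ.q a
    mul := hφ.mul
    torus := fun B _ _ t => by
      rw [← hE, ← hE']
      exact hφ.torus B t
    root := fun a B _ _ x => by
      have h1 : (c.datum D).uu a B x = E.uu a B (algebraMap k B ((s a)⁻¹ : kˣ) * x) := by
        rw [hs, Nn.unit_cancel]
      rw [h1, hφ.root, hs', ← hτq]
      congr 1
      rw [Units.val_mul, Units.val_mul, map_mul, map_mul, mul_pow, Units.val_pow_eq_pow_val,
        map_pow]
      ring
    ker := fun B _ _ ν hν H h1 h2 => by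
      obtain ⟨x, t, rfl⟩ := (Word.inCell_iff E).mp (TwFin.inCell_ker hφ ν hν)
      obtain ⟨x', hx', h3⟩ := hφ.exists_cell x t
      rw [hν, ← Word.cell_zero E'] at h3
      obtain ⟨h4, h5⟩ := E'.cell_injective h3
      refine mul_mem (list_prod_mem fun g hg => ?_) (by rw [hE]; exact h2 t)
      obtain ⟨a, -, rfl⟩ := List.mem_map.mp hg
      have h6 : x a ^ τ.q a = 0 := by
        have h7 : x' (τ.e a) = 0 := (congrFun h4 (τ.e a)).symm
        rw [hx'] at h7
        have := congrArg (fun w => algebraMap k B ((r a)⁻¹ : kˣ) * w) h7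
        simpa only [← mul_assoc, ← map_mul, Units.inv_mul, map_one, one_mul, mul_zero] using this
      rw [hs]
      apply h1
      rw [← hτq, mul_pow, h6, mul_zero]
    cover := TwFin.exists_cover hφ
    lift := fun B _ _ t₁ => by
      obtain ⟨B', i1, i2, i3, i4, i5, x, t, -, ht⟩ := TwRoots.exists_lift τ r B (fun _ => 0) t₁
      exact ⟨B', i1, i2, i3, i4, i5, t, ht⟩
    froot := fun a => by rw [← hτq]; exact τ.root a
    pairing := fun a c => by
      have h1 := pairing_tw (P' := TwComb.reindex D'.P Φ.e) D.pairing_eq D'.pairing_eq τ a c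
      rw [hτq] at h1
      exact h1
    refl := τ.e_refl
    support := τ.mem_support
    surj := TwFin.comap_surjective hφ
    fin := TwFin.finite hφ }⟩⟩

/-- **Existence of isogenies with prescribed exponents** -/
theorem exists_isog (D : Red.SplitRed G) (b : D.P.Base)
    (c : Chart G (𝟙 (Spec (CommRingCat.of k)))) {q : D.idx → ℕ} (hq : Scale.Good D.P q)
    (hq' : ∀ a, ∃ m : ℕ, q a = ringExpChar k ^ m) :
    ∃ (G₁ : Over (Spec (CommRingCat.of k))) (_ : GrpObj G₁) (D₁ : Red.SplitRed G₁)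
      (b₁ : D₁.P.Base) (c₁ : Chart G₁ (𝟙 (Spec (CommRingCat.of k)))),
      Nonempty (Isog D b c D₁ b₁ c₁ q) := by
  have := isReduced D
  have hfree : Module.Free ℤ (Scale.L D.P q) := inferInstance
  obtain ⟨G₀, i₀, -, hG₀⟩ := Groth.Agent.S3948.result (Scale.scaled D.pairing_eq hq)
  obtain ⟨Δ⟩ := BaseZ.nonempty_base (Scale.scaled D.pairing_eq hq)
  obtain ⟨G₁, i₁, D', e, -⟩ := Groth.Agent.Redsub.H632.Reduce.exists_pinned
    (Spec (CommRingCat.of k)) (Scale.scaled D.pairing_eq hq) Δ ⟨G₀, i₀, hG₀⟩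
  obtain ⟨D₁, b₁, c₁, h⟩ := exists_of_rootIsog D b c D'.toSplitRed
    (Scale.rootIsog D.pairing_eq hq hq' D'.pairing_eq e)
  exact ⟨G₁, i₁, D₁, b₁, c₁, h⟩

end K803.Frob
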