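import Groth.Agent.ParSch.K803.OfIdeal
import Groth.Prelude.Def_Frob

/-!
# The Frobenius kernel of an affine group scheme in a chart
-/

set_option autoImplicit false
universe u

open CategoryTheory AlgebraicGeometry

namespace K803.FrobKer

open Groth.Agent.Sga3B Groth.Agent.Sga3B.Cell Groth.Agent.Sga3B.PinMod
open K803.SubPt K803.OfIdeal

section

set_option linter.unusedVariables false in
/-- a copy of the ring `B`, an algebra through the Frobenius -/
@[nolint unusedArguments]
def Tgt (p : ℕ) (k B : Type u) : Type u := B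

variable (p : ℕ) [Fact p.Prime] (k B : Type u) [CommRing k] [CharP k p] [CommRing B] [Algebra k B]

instance : CommRing (Tgt p k B) := inferInstanceAs (CommRing B)

omit [Fact p.Prime] in
include k in
lemma cast_eq_zero : (p : B) = 0 := by
  have h : ((p : k) : k) = 0 := CharP.cast_eq_zero k p
  have := congrArg (algebraMap k B) h
  rwa [map_natCast, map_zero] at this

/-- the ring homomorphism `x ↦ x ^ p` -/
noncomputable def fr : B →+* Tgt p k B := FrobSch.powHom p B (cast_eq_zero p k B)

noncomputable instance : Algebra k (Tgt p k B) := ((fr p k B).comp (algebraMap k B)).toAlgebra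

/-- the Frobenius as a homomorphism of algebras -/
noncomputable def frA : B →ₐ[k] Tgt p k B := { fr p k B with commutes' := fun _ => rfl }

lemma frA_eq_zero_iff (x : B) : frA p k B x = 0 ↔ x ^ p = 0 := Iff.rfl

end

variable {k : Type u} [CommRing k] {G : Over (Spec (CommRingCat.of k))} [GrpObj G]
  (c : Chart G (𝟙 (Spec (CommRingCat.of k)))) (p : ℕ) [Fact p.Prime] [CharP k p]

/-- the ideal of the Frobenius kernel -/
def frobIdeal : Ideal c.A := Ideal.span {x | ∃ f : c.A, (1 : Pt k c.A k).hom f = 0 ∧ x = f ^ p}

variable {c p}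

lemma kills_frobIdeal_iff {B : Type u} [CommRing B] [Algebra k B] (g : Pt k c.A B) :
    Kills c (frobIdeal c p) g ↔ Pt.map (frA p k B) g = 1 := by
  have h1 : Kills c (frobIdeal c p) g ↔
      ∀ f : c.A, (1 : Pt k c.A k).hom f = 0 → (g.hom f) ^ p = 0 := by
    constructor
    · intro h f hf
      rw [← map_pow]
      exact h _ (Ideal.subset_span ⟨f, hf, rfl⟩)
    · intro h
      have h2 : frobIdeal c p ≤ RingHom.ker (g.hom : c.A →+* B) := by
        rw [frobIdeal, Ideal.span_le]
        rintro _ ⟨f, hf, rfl⟩
        change g.hom (f ^ p) = 0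
        rw [map_pow, h f hf]
      exact fun f hf => h2 hf
  rw [h1]
  constructor
  · intro h
    apply Pt.ext
    intro f
    have h2 := h (f - algebraMap k c.A ((1 : Pt k c.A k).hom f)) (by
      rw [map_sub, AlgHom.commutes]
      exact sub_self _)
    rw [← frA_eq_zero_iff p k B, map_sub, map_sub, sub_eq_zero, AlgHom.commutes,
      AlgHom.commutes] at h2
    rw [Pt.map_hom_apply, h2]
    have h3 := Pt.map_one (A := c.A) (Algebra.ofId k (Tgt p k B))
    exact congrArg (fun g : Pt k c.A (Tgt p k B) => g.hom f) h3
  · intro h f hf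
    rw [← frA_eq_zero_iff p k B, ← Pt.map_hom_apply, h, ← Pt.map_one (Algebra.ofId k (Tgt p k B)),
      Pt.map_hom_apply, hf, map_zero]

end K803.FrobKer
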