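import Groth.Agent.ParSch.K803.Count
import Groth.Agent.ParSch.K803.Pair2

/-!
# Irreducible root systems with a triple edge
-/

set_option autoImplicit false
set_option linter.unusedSectionVars false

open RootPairing Module

namespace K803.G2

open K803.RComb K803.Count K221.Conn K221.Prop

variable {κ M : Type} [Fintype κ] [AddCommGroup M] [Module.Free ℤ M] [Module.Finite ℤ M]
  {P : RootPairing κ ℤ M (Module.Dual ℤ M)} [P.IsReduced]

/-- **Irreducible root systems with a triple edge** have rank `2` and `12` roots. -/
theorem of_pairing (hirr : Irr P) {x y : κ} (hxy : P.pairing x y = -3) :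
    Fintype.card κ = 12 ∧ finrank ℤ (Submodule.span ℤ (Set.range P.root)) = 2 := by
  classical
  let _ : P.EmbeddedG2 :=
    { long := x
      short := y
      pairingIn_long_short := by rw [pairingIn_eq]; exact hxy }
  let X : Set κ := {e | P.root e ∈ EmbeddedG2.allRoots P}
  have horth : ∀ z ∈ Xᶜ, P.pairing x z = 0 ∧ P.pairing y z = 0 := by
    intro z hz
    obtain ⟨h1, h2⟩ := EmbeddedG2.isOrthogonal_short_and_long P (i := z) hz
    have : Module.IsReflexive ℤ M := .of_isPerfPair P.toLinearMap
    rw [isOrthogonal_iff_pairing_eq_zero] at h1 h2
    exact ⟨P.pairing_eq_zero_iff.mp h2, P.pairing_eq_zero_iff.mp h1⟩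
  have hspan : ∀ e ∈ X, P.root e ∈ Submodule.span ℤ (P.root '' {x, y}) := by
    intro e he
    have h1 := EmbeddedG2.mem_span_of_mem_allRoots P he
    have h2 : P.root '' {x, y} = {P.root x, P.root y} := by
      rw [Set.image_insert_eq, Set.image_singleton]
    rw [h2]
    exact h1
  have h : ∀ e ∈ X, ∀ z ∉ X, P.pairing e z = 0 := by
    intro e he z hz
    have h1 := pairing_span_eq_zero (P := P) (X := {x, y}) (z := z) (by
      rintro w (rfl | rfl)
      · exact (horth z hz).1
      · exact (horth z hz).2) (hspan e he)
    rwa [P.root_coroot_eq_pairing] at h1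
  have hX : X = Set.univ := by
    rcases hirr.eq_of_orthogonal h with h1 | h1
    · exfalso
      have h2 : x ∈ X := by
        change P.root (EmbeddedG2.long P) ∈ EmbeddedG2.allRoots P
        simp
      rw [h1] at h2
      exact h2
    · exact h1
  have hmem : ∀ e, P.root e ∈ EmbeddedG2.allRoots P := fun e => by
    have : e ∈ X := by rw [hX]; exact Set.mem_univ _
    exact this
  constructor
  · have h1 : (Finset.univ.map P.root) = (EmbeddedG2.allRoots P).toFinset := by
      ext z
      rw [Finset.mem_map, List.mem_toFinset]
      constructor
      · rintro ⟨e, -, rfl⟩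
        exact hmem e
      · intro hz
        obtain ⟨e, he⟩ := EmbeddedG2.allRoots_subset_range_root P (List.mem_toFinset.mpr hz)
        exact ⟨e, Finset.mem_univ _, he⟩
    have h2 := congrArg Finset.card h1
    rw [Finset.card_map, List.toFinset_card_of_nodup (EmbeddedG2.allRoots_nodup P)] at h2
    rw [← Finset.card_univ, h2]
    simp
  · have hli : LinearIndependent ℤ ![P.root y, P.root x] :=
      EmbeddedG2.linearIndependent_short_long P
    have e1 : Submodule.span ℤ (Set.range P.root) =
        Submodule.span ℤ (Set.range ![P.root y, P.root x]) := by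
      have e2 : Set.range ![P.root y, P.root x] = P.root '' {x, y} := by
        rw [Matrix.range_cons, Matrix.range_cons, Matrix.range_empty, Set.union_empty,
          Set.image_insert_eq, Set.image_singleton, Set.union_comm]
        rfl
      rw [e2]
      apply le_antisymm
      · rw [Submodule.span_le]
        rintro _ ⟨e, rfl⟩
        exact hspan e (hmem e)
      · exact Submodule.span_mono (Set.image_subset_range _ _)
    rw [e1, finrank_span_eq_card hli]
    rfl

end K803.G2
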