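import Groth.Agent.ParSch.K803.Desc

/-!
# The induction hypothesis for subgroup schemes containing a maximal parabolic subgroup
-/

set_option autoImplicit false
universe u

open CategoryTheory AlgebraicGeometry

namespace K803.Hyp

open Groth.Agent.Sga3B Groth.Agent.Sga3B.Cell Groth.Agent.Sga3B.PinMod
open Groth.Agent.Sga3B.PtDescent Groth.Agent.Agf.H613 Groth.Agent.Agf.H613.TwData
open K803.SubPt K803.Frob K803.Desc

variable {k : Type u} [Field k]

/-- The subgroup functor `S` contains the torus and the root groups of the roots `a` with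
`0 ≤ lam a`; it meets the others in infinitesimal subgroups. -/
structure HypP {G : Over (Spec (CommRingCat.of k))} [GrpObj G] (D : Red.SplitRed G)
    (c : Chart G (𝟙 (Spec (CommRingCat.of k)))) (lam : D.M →+ ℤ) (p : ℕ) (m : D.idx → ℕ)
    (S : ∀ (B : Type u) [CommRing B] [Algebra k B], Subgroup (Pt k c.A B)) : Prop where
  torus : ∀ (B : Type u) [CommRing B] [Algebra k B] (t : TPt D.M B), (c.datum D).i B t ∈ S B
  pos : ∀ a, 0 ≤ lam (D.P.root a) → ∀ (B : Type u) [CommRing B] [Algebra k B] (x : B),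
    (c.datum D).uu a B x ∈ S B
  neg : ∀ a, lam (D.P.root a) < 0 → ∀ (B : Type u) [CommRing B] [Algebra k B] (x : B),
    (c.datum D).uu a B x ∈ S B → x ^ p ^ m a = 0

variable {G G₁ P P₁ : Over (Spec (CommRingCat.of k))} [GrpObj G] [GrpObj G₁]
  [GrpObj P] [GrpObj P₁] {D : Red.SplitRed G} {b : D.P.Base}
  {c : Chart G (𝟙 (Spec (CommRingCat.of k)))}
  {D₁ : Red.SplitRed G₁} {b₁ : D₁.P.Base} {c₁ : Chart G₁ (𝟙 (Spec (CommRingCat.of k)))}
  {q : D.idx → ℕ} (h : Isog D b c D₁ b₁ c₁ q)

lemma lam_root (lam : D.M →+ ℤ) (a : D.idx) :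
    (lam.comp h.f) (D₁.P.root (h.e a)) = q a * lam (D.P.root a) := by
  rw [AddMonoidHom.comp_apply, h.froot, map_nsmul, nsmul_eq_mul]

/-- lifting the coordinate of a root group -/
lemma exists_uu (hq : ∀ a, 0 < q a) (a : D.idx) {B : Type u} [CommRing B] [Algebra k B] (y : B) :
    ∃ (B' : Type u) (_ : CommRing B') (_ : Algebra k B') (_ : Algebra B B')
      (_ : IsScalarTower k B B') (_ : Module.FaithfullyFlat B B') (z : B'),
      algebraMap k B' (h.r a) * z ^ q a = algebraMap B B' y ∧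
      comap h.φ ((c.datum D).uu a B' z) = Pt.map (IsScalarTower.toAlgHom k B B')
        ((c₁.datum D₁).uu (h.e a) B y) := by
  obtain ⟨B', _, _, _, z, hz⟩ := TwRoots.exists_root B (algebraMap k B ((h.r a)⁻¹ : kˣ) * y)
    (q a) (hq a)
  let _ : Algebra k B' := ((algebraMap B B').comp (algebraMap k B)).toAlgebra
  have hst : IsScalarTower k B B' := IsScalarTower.of_algebraMap_eq fun z => rfl
  have h1 : algebraMap k B' (h.r a) * z ^ q a = algebraMap B B' y := by
    rw [hz, IsScalarTower.algebraMap_apply k B B', ← map_mul, Nn.unit_cancel]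
  refine ⟨B', inferInstance, inferInstance, inferInstance, hst, inferInstance, z, h1, ?_⟩
  rw [h.root, (c₁.datum D₁).uu_nat, h1]
  rfl

/-- **The induction step** -/
theorem step (hq : ∀ a, 0 < q a) {p : ℕ} {j m : D.idx → ℕ} (hqj : ∀ a, q a = p ^ j a)
    {lam : D.M →+ ℤ} (hjm : ∀ a, lam (D.P.root a) < 0 → j a ≤ m a)
    (iP : P ⟶ G) [IsMonHom iP] [IsClosedImmersion iP.left] (i₁ : P₁ ⟶ G₁) [IsMonHom i₁]
    [IsClosedImmersion i₁.left]
    (hmem : ∀ (B : Type u) [CommRing B] [Algebra k B] (g : Pt k c.A B),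
      g ∈ sub c iP B ↔ comap h.φ g ∈ sub c₁ i₁ B)
    (H : HypP D c lam p m (fun B _ _ => sub c iP B)) :
    HypP D₁ c₁ (lam.comp h.f) p (fun a => m (h.e.symm a) - j (h.e.symm a))
      (fun B _ _ => sub c₁ i₁ B) where
  torus B _ _ t₁ := by
    obtain ⟨B', _, _, _, _, _, t, ht⟩ := h.lift B t₁
    have h1 := (hmem B' _).mp (H.torus B' t)
    rw [h.torus, ht] at h1
    have h2 : Pt.map (IsScalarTower.toAlgHom k B B') ((c₁.datum D₁).i B t₁) ∈ sub c₁ i₁ B' := by
      rw [(c₁.datum D₁).i_nat (IsScalarTower.toAlgHom k B B') t₁]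
      exact h1
    exact mem_of_map_mem c₁ (FaithfulSMul.algebraMap_injective B B') h2
  pos a ha B _ _ y := by
    obtain ⟨a, rfl⟩ := h.e.surjective a
    obtain ⟨B', _, _, _, _, _, z, hz, hz'⟩ := exists_uu h hq a y
    rw [lam_root] at ha
    have h0 : 0 ≤ lam (D.P.root a) := by
      have := hq a
      by_contra hneg
      have : (q a : ℤ) * lam (D.P.root a) < 0 :=
        mul_neg_of_pos_of_neg (by exact_mod_cast this) (by omega)
      omega
    have h1 := (hmem B' _).mp (H.pos a h0 B' z)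
    rw [hz'] at h1
    exact mem_of_map_mem c₁ (FaithfulSMul.algebraMap_injective B B') h1
  neg a ha B _ _ y hy := by
    obtain ⟨a, rfl⟩ := h.e.surjective a
    obtain ⟨B', _, _, _, _, _, z, hz, hz'⟩ := exists_uu h hq a y
    rw [lam_root] at ha
    have h0 : lam (D.P.root a) < 0 := by
      by_contra hneg
      have : 0 ≤ (q a : ℤ) * lam (D.P.root a) := mul_nonneg (by positivity) (by omega)
      omega
    have h1 : comap h.φ ((c.datum D).uu a B' z) ∈ sub c₁ i₁ B' := by
      rw [hz']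
      exact map_mem c₁ _ hy
    have h2 := H.neg a h0 B' z ((hmem B' _).mpr h1)
    apply FaithfulSMul.algebraMap_injective B B'
    simp only [Equiv.symm_apply_apply]
    rw [map_pow, ← hz, map_zero, mul_pow, ← pow_mul, hqj a, ← pow_add,
      Nat.add_sub_cancel' (hjm a h0), h2, mul_zero]

end K803.Hyp
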