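import Groth.Agent.ParSch.K803.Scale

/-!
# The exponents of the isogeny attached to a non-reduced maximal parabolic subgroup
-/

set_option autoImplicit false
set_option linter.unusedSectionVars false

open RootPairing

namespace K803.ParJ

open K803.RComb K803.Pair2 K803.ParComb K221.Prop K221.Form K221.Conn K214.ChainComb

variable {κ M : Type} [Fintype κ] [AddCommGroup M] [Module.Free ℤ M] [Module.Finite ℤ M]
  {P : RootPairing κ ℤ M (Module.Dual ℤ M)} [P.IsReduced] {p : ℕ} {Ψ : Set κ}

/-- a root of a given length on which `lam` is negative -/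
lemma exists_neg {α : κ} {lam : M →+ ℤ} (hlam0 : 0 < lam (P.root α)) (hirr : Irr P) (y : κ) :
    ∃ a, lam (P.root a) < 0 ∧ len P a = len P y := by
  obtain ⟨e, h1, h2⟩ := hirr.exists_conj y α
  have h3 := len_conj h1
  have key : ∀ e, len P e = len P y → lam (P.root e) ≠ 0 →
      ∃ a, lam (P.root a) < 0 ∧ len P a = len P y := by
    intro e h4 h5
    rcases lt_or_gt_of_ne h5 with h6 | h6
    · exact ⟨e, h6, h4⟩
    · refine ⟨P.reflectionPerm e e, ?_, by rw [len_neg, h4]⟩
      rw [root_n, map_neg]; omega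
  by_cases h4 : lam (P.root e) = 0
  · refine key (P.reflectionPerm α e) (by rw [len_refl, h3]) ?_
    rw [P.root_reflectionPerm, P.reflection_apply_root, map_sub, h4, map_zsmul, smul_eq_mul,
      zero_sub, neg_ne_zero]
    exact mul_ne_zero h2 hlam0.ne'
  · exact key e h3 h4

/-- an edge of multiplicity `p` -/
lemma two_or_three (hprime : p.Prime) {x y : κ} (hxy : P.pairing x y = -(p : ℤ))
    (hyx : P.pairing y x = -1) : p = 2 ∨ p = 3 := by
  have h2 := hprime.two_le
  have hne : x ≠ y := by
    rintro rfl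
    rw [pairing_same] at hyx
    omega
  by_cases hne' : x = P.reflectionPerm y y
  · rw [hne', pairing_n, pairing_same] at hxy
    omega
  · rcases pairs hne hne' with h | h | h | h | h | h | h | h | h | h | h <;> omega

/-- **The exponents** -/
theorem exists_j (b : P.Base) {α : κ} (hα : α ∈ b.support) (lam : M →+ ℤ)
    (hlam : ∀ β ∈ b.support, β ≠ α → lam (P.root β) = 0) (hlam0 : 0 < lam (P.root α))
    (hF1 : ∀ a, 0 ≤ lam (P.root a) → a ∈ Ψ)
    (hF2 : ∀ a, ∀ β ∈ b.support, β ≠ α → a ∈ Ψ → P.reflectionPerm β a ∈ Ψ)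
    (hΨ : BrClosed P p Ψ) (hprime : p.Prime) (hex : p = 2 → ∀ c, P.pairing c α ≠ -3)
    (hirr : Irr P) (h0 : ∃ γ, lam (P.root γ) < 0 ∧ γ ∈ Ψ) :
    ∃ j : κ → ℕ, (∀ a, j a ≤ 1) ∧ (∀ a, 0 < j a → a ∈ Ψ) ∧ Scale.Good P (fun a => p ^ j a) ∧
      ∃ a, lam (P.root a) < 0 ∧ 0 < j a := by
  classical
  by_cases hA : ∀ x y, ¬ (P.pairing x y = -(p : ℤ) ∧ P.pairing y x = -1)
  · have h1 := caseA b hα lam hlam hlam0 hF1 hF2 hΨ hprime.two_le hex hprime hA h0
    obtain ⟨γ, hγ, -⟩ := h0
    refine ⟨fun _ => 1, fun _ => le_refl _, fun a _ => h1 a, ⟨fun a => ?_, fun a b => rfl,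
      fun a b => ?_⟩, γ, hγ, Nat.one_pos⟩
    · rw [pow_one]; exact hprime.pos
    · rw [pow_one]; exact dvd_mul_right _ _
  · push Not at hA
    obtain ⟨x₀, y₀, hxy, hyx⟩ := hA
    have hp3 := two_or_three hprime hxy hyx
    have h1 := caseB b hα lam hlam hlam0 hF1 hF2 hΨ hprime.two_le hirr hp3 hxy hyx h0
    have hs := len_pos (P := P) y₀
    have hx₀ : len P x₀ = p * len P y₀ := by
      have := len_swap (P := P) x₀ y₀
      rw [hxy, hyx] at this
      linarith
    have hlen : ∀ e, len P e = len P y₀ ∨ len P e = p * len P y₀ := by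
      intro e
      rcases conj_or hirr (m := (p : ℤ)) (by rcases hp3 with rfl | rfl <;> simp) hxy hyx e
        with h | h
      · right; rw [← len_conj h, hx₀]
      · left; exact (len_conj h).symm
    obtain ⟨a, ha, ha'⟩ := exists_neg (P := P) hlam0 hirr y₀
    refine ⟨fun a => if len P a = len P y₀ then 1 else 0, fun a => ?_, fun a h => ?_,
      ⟨fun a => pow_pos hprime.pos _, fun a b => ?_, fun a b => ?_⟩, a, ha, ?_⟩
    · dsimp only; split_ifs <;> omega
    · refine h1 a ?_
      by_contra hne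
      simp only [if_neg hne, lt_irrefl] at h
    · simp only [len_refl]
    · by_cases h2 : len P a = len P y₀
      · by_cases h3 : len P b = len P y₀
        · simp only [if_pos h2, if_pos h3]
          exact dvd_mul_right _ _
        · simp only [if_pos h2, if_neg h3, pow_zero, pow_one, Nat.cast_one, one_mul]
          have h4 := len_swap (P := P) b a
          rw [(hlen b).resolve_left h3, h2] at h4
          refine ⟨P.pairing a b, ?_⟩
          apply mul_right_cancel₀ hs.ne'
          linarith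
      · simp only [if_neg h2, pow_zero, Nat.cast_one]
        exact one_dvd _
    · simp only [if_pos ha', Nat.one_pos]

/-- irreducibility is invariant under isogenies -/
lemma irr_of_isog {κ' M' : Type} [AddCommGroup M'] {P' : RootPairing κ' ℤ M' (Module.Dual ℤ M')}
    (hirr : Irr P) {q : κ → ℕ} (hq : ∀ a, 0 < q a) (e : κ ≃ κ')
    (h : ∀ a b, (q b : ℤ) * P'.pairing (e a) (e b) = q a * P.pairing a b) [Finite κ'] :
    Irr P' := by
  intro R' hc hs hc' hs'
  have h1 : ∀ i ∈ e ⁻¹' R', ∀ j ∉ e ⁻¹' R', P.pairing i j = 0 := by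
    intro i hi j hj
    have h2 := partition_pairing hc hs hc' hs' hi hj
    have h3 := h i j
    rw [h2, mul_zero] at h3
    have h4 : (q i : ℤ) ≠ 0 := by exact_mod_cast (hq i).ne'
    exact (mul_eq_zero.mp h3.symm).resolve_left h4
  rcases hirr.eq_of_orthogonal h1 with h2 | h2
  · left
    rw [Set.eq_empty_iff_forall_notMem] at h2 ⊢
    intro x hx
    exact h2 (e.symm x) (by rw [Set.mem_preimage, Equiv.apply_symm_apply]; exact hx)
  · right
    rw [Set.eq_univ_iff_forall] at h2 ⊢
    intro x
    have := h2 (e.symm x)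
    rwa [Set.mem_preimage, Equiv.apply_symm_apply] at this

end K803.ParJ
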