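import Groth.Agent.ParSch.K803.HtOne
import Mathlib.RingTheory.AdjoinRoot

/-!
# Intersections of a closed subgroup containing the torus with the root groups
-/

set_option autoImplicit false
universe u

open CategoryTheory AlgebraicGeometry Polynomial

namespace K803.PinPt

open Groth.Agent.Sga3B Groth.Agent.Sga3B.Cell Groth.Agent.Sga3B.PinMod
open K803.SubPt K803.Gen K803.Split K803.Lie K803.HtOne

variable {k : Type u} [Field k] {G : Over (Spec (CommRingCat.of k))} [GrpObj G]
  {D : Red.SplitRed G} {c : Chart G (𝟙 (Spec (CommRingCat.of k)))}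

variable (D) in
/-- the restriction of a function to a root group -/
noncomputable def fn (a : D.idx) (f : c.A) : k[X] := ((c.datum D).uu a k[X] X).hom f

lemma hom_uu (a : D.idx) (f : c.A) {B : Type u} [CommRing B] [Algebra k B] (x : B) :
    ((c.datum D).uu a B x).hom f = aeval x (fn D a f) := by
  have h := (c.datum D).uu_nat a (Polynomial.aeval x : k[X] →ₐ[k] B) X
  rw [Polynomial.aeval_X] at h
  rw [← h, Pt.map_hom_apply]
  rfl

variable {I : Ideal c.A} {S : ∀ (B : Type u) [CommRing B] [Algebra k B], Subgroup (Pt k c.A B)}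

lemma root_smul_inj (a : D.idx) {i j : ℕ} (h : i • D.P.root a = j • D.P.root a) : i = j := by
  have h1 : ((i : ℤ) - j) • D.P.root a = 0 := by
    rw [sub_smul, natCast_zsmul, natCast_zsmul, h, sub_self]
  rcases smul_eq_zero.mp h1 with h2 | h2
  · omega
  · exact absurd h2 (D.P.ne_zero a)

/-- the points of a root group in a closed subgroup containing the torus -/
theorem uu_mem_iff (hS : Cut I S)
    (hT : ∀ (B : Type u) [CommRing B] [Algebra k B] (t : TPt D.M B), (c.datum D).i B t ∈ S B)
    (a : D.idx) {B : Type u} [CommRing B] [Algebra k B] (x : B) :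
    (c.datum D).uu a B x ∈ S B ↔ ∀ f ∈ I, ∀ i, algebraMap k B ((fn D a f).coeff i) * x ^ i = 0 := by
  constructor
  · intro h f hf i
    let B' := MonoidAlgebra B (Multiplicative D.M)
    let ι : B →ₐ[k] B' := IsScalarTower.toAlgHom k B B'
    let s : TPt D.M B' := tM D.M B
    have h1 : (c.datum D).uu a B' (ι x) ∈ S B' := by
      rw [← (c.datum D).uu_nat]
      exact hS.map ι h
    have h2 := mul_mem (mul_mem (hT B' s) h1) (inv_mem (hT B' s))
    rw [(c.datum D).rel] at h2
    have h3 := (hS B' _).mp h2 f hf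
    rw [hom_uu, aeval_eq_sum_range] at h3
    have h4 : ∀ j, (fn D a f).coeff j • (TPt.ch ((c.datum D).root a) s * ι x) ^ j =
        MonoidAlgebra.single (Multiplicative.ofAdd (j • D.P.root a))
          (algebraMap k B ((fn D a f).coeff j) * x ^ j) := by
      intro j
      have e1 : TPt.ch ((c.datum D).root a) s * ι x =
          MonoidAlgebra.single (Multiplicative.ofAdd (D.P.root a)) x := by
        change MonoidAlgebra.single (Multiplicative.ofAdd (D.P.root a)) 1 *
          MonoidAlgebra.single 1 x = _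
        rw [MonoidAlgebra.single_mul_single, one_mul, mul_one]
      rw [e1, MonoidAlgebra.single_pow, ofAdd_nsmul, Algebra.smul_def]
      change MonoidAlgebra.single 1 (algebraMap k B ((fn D a f).coeff j)) * _ = _
      rw [MonoidAlgebra.single_mul_single, one_mul]
    have h3 := (Finset.sum_congr rfl fun j _ => (h4 j).symm).trans h3
    by_cases hi : i ∈ Finset.range ((fn D a f).natDegree + 1)
    · let κ : B' →+ B := (Finsupp.applyAddHom (Multiplicative.ofAdd (i • D.P.root a))).comp
        (MonoidAlgebra.coeffAddEquiv (R := B) (M := Multiplicative D.M)).toAddMonoidHom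
      have hκ : ∀ (m : Multiplicative D.M) (r : B), κ (MonoidAlgebra.single m r) =
          Finsupp.single m r (Multiplicative.ofAdd (i • D.P.root a)) := fun m r => rfl
      have h8 := congrArg κ h3
      rw [map_sum, map_zero] at h8
      simp only [hκ] at h8
      rw [Finset.sum_eq_single_of_mem i hi, Finsupp.single_eq_same] at h8
      · exact h8
      · intro j _ hji
        rw [Finsupp.single_eq_of_ne]
        intro h9
        exact hji (root_smul_inj a (congrArg Multiplicative.toAdd h9)).symm
    · rw [coeff_eq_zero_of_natDegree_lt (by simpa using hi), map_zero, zero_mul]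
  · intro h
    rw [hS]
    intro f hf
    rw [hom_uu, aeval_eq_sum_range]
    refine Finset.sum_eq_zero fun i _ => ?_
    rw [Algebra.smul_def]
    exact h f hf i

lemma fn_coeff_zero (hS : Cut I S) (a : D.idx) {f : c.A} (hf : f ∈ I) :
    (fn D a f).coeff 0 = 0 := by
  have h1 := coeff_zero (c.datum D) a f
  rw [hS.one hf] at h1
  exact (map_eq_zero_iff _ (algebraMap k k[X]).injective).mp h1

lemma add_eps_pow {C : Type u} [CommRing C] {z ε : C} (hε : ε ^ 2 = 0) (m : ℕ) (hm : 1 ≤ m) :
    (z + ε) ^ m = z ^ m + m * (z ^ (m - 1) * ε) := by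
  obtain ⟨d, rfl⟩ : ∃ d, m = d + 1 := ⟨m - 1, by omega⟩
  rw [Nat.add_sub_cancel]
  induction d with
  | zero => simp
  | succ d ih =>
    rw [pow_succ, ih (by omega)]
    push_cast
    linear_combination ((d + 1 : C) * z ^ d) * hε

variable (k) in
omit [GrpObj G] in
lemma exists_z (m : ℕ) (hm : 1 ≤ m) : ∃ (C : Type u) (_ : CommRing C) (_ : Algebra k C) (z ε : C),
    z ^ m = 0 ∧ ε ^ 2 = 0 ∧ ∀ r : k, algebraMap k C r * (z ^ (m - 1) * ε) = 0 → r = 0 := by
  refine ⟨DualNumber (AdjoinRoot (X ^ m : k[X])), inferInstance, inferInstance,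
    algebraMap (AdjoinRoot (X ^ m : k[X])) _ (AdjoinRoot.root (X ^ m : k[X])), DualNumber.eps,
    ?_, ?_, fun r hr => ?_⟩
  · rw [← map_pow]
    have : (AdjoinRoot.root (X ^ m : k[X])) ^ m = 0 := by
      rw [← AdjoinRoot.mk_X, ← map_pow, AdjoinRoot.mk_self]
    rw [this, map_zero]
  · rw [pow_two]; exact DualNumber.eps_mul_eps
  · by_contra hr0
    have h0 : algebraMap k (DualNumber (AdjoinRoot (X ^ m : k[X]))) r =
        algebraMap (AdjoinRoot (X ^ m : k[X])) _ (algebraMap k (AdjoinRoot (X ^ m : k[X])) r) := rfl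
    rw [h0, ← map_pow, ← mul_assoc, ← map_mul, TrivSqZeroExt.algebraMap_eq_inl] at hr
    have h6 := congrArg TrivSqZeroExt.snd hr
    have h7 : algebraMap k (AdjoinRoot (X ^ m : k[X])) r *
        (AdjoinRoot.root (X ^ m : k[X])) ^ (m - 1) = 0 := by simpa using h6
    have h8 : IsUnit (algebraMap k (AdjoinRoot (X ^ m : k[X])) r) :=
      (isUnit_iff_ne_zero.mpr hr0).map _
    have h9 := (h8.mul_right_eq_zero).mp h7
    rw [← AdjoinRoot.mk_X, ← map_pow, AdjoinRoot.mk_eq_zero] at h9
    have h10 := natDegree_le_of_dvd h9 (pow_ne_zero _ X_ne_zero)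
    rw [natDegree_X_pow, natDegree_X_pow] at h10
    omega

/-- **A root vector gives the Frobenius kernel of the root group.** -/
theorem mem_of_tan_pow (p : ℕ) [Fact p.Prime] [CharP k p] (hS : Cut I S)
    (hT : ∀ (B : Type u) [CommRing B] [Algebra k B] (t : TPt D.M B), (c.datum D).i B t ∈ S B)
    {a : D.idx} (h : Tan D I a) {B : Type u} [CommRing B] [Algebra k B] {x : B}
    (hx : x ^ p = 0) : (c.datum D).uu a B x ∈ S B := by
  classical
  have key : ∀ i, i < p → ∀ f ∈ I, (fn D a f).coeff i = 0 := by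
    intro i
    induction i using Nat.strong_induction_on with
    | _ m ih =>
      intro hm f hf
      rcases Nat.eq_zero_or_pos m with rfl | hm0
      · exact fn_coeff_zero hS a hf
      by_cases hm1 : m = 1
      · rw [hm1]; exact h f hf
      -- all points `x` with `x ^ m = 0`
      have h1 : ∀ (C : Type u) [CommRing C] [Algebra k C] (y : C), y ^ m = 0 →
          (c.datum D).uu a C y ∈ S C := by
        intro C _ _ y hy
        rw [uu_mem_iff hS hT]
        intro g hg i
        rcases Nat.lt_or_ge i m with hi | hi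
        · rw [ih i hi (by omega) g hg, map_zero, zero_mul]
        · obtain ⟨d, rfl⟩ := Nat.exists_eq_add_of_le hi
          rw [pow_add, hy, zero_mul, mul_zero]
      obtain ⟨C, _, _, z, ε, hz, hε, hC⟩ := exists_z k m (by omega)
      have hε' : ε ^ m = 0 := by
        obtain ⟨d, hd⟩ : ∃ d, m = 2 + d := ⟨m - 2, by omega⟩
        rw [hd, pow_add, hε, zero_mul]
      have h2 := mul_mem (h1 C z hz) (h1 C ε hε')
      rw [← (c.datum D).uu_add] at h2
      have h3 := (uu_mem_iff hS hT a (z + ε)).mp h2 f hf m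
      rw [add_eps_pow hε m (by omega), hz, zero_add, ← map_natCast (algebraMap k C) m,
        ← mul_assoc, ← map_mul] at h3
      have h4 := hC _ h3
      have hm2 : ((m : ℕ) : k) ≠ 0 := by
        intro h5
        have h6 := (CharP.cast_eq_zero_iff k p m).mp h5
        exact absurd (Nat.le_of_dvd hm0 h6) (by omega)
      exact (mul_eq_zero.mp h4).resolve_right hm2
  rw [uu_mem_iff hS hT]
  intro f hf i
  rcases Nat.lt_or_ge i p with hi | hi
  · rw [key i hi f hf, map_zero, zero_mul]
  · obtain ⟨d, rfl⟩ := Nat.exists_eq_add_of_le hi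
    rw [pow_add, hx, zero_mul, mul_zero]

/-- a root group not contained in the subgroup meets it in an infinitesimal group -/
theorem exists_pow (p : ℕ) (hp : 2 ≤ p) (hS : Cut I S)
    (hT : ∀ (B : Type u) [CommRing B] [Algebra k B] (t : TPt D.M B), (c.datum D).i B t ∈ S B)
    {a : D.idx} (h : ¬ ∀ (B : Type u) [CommRing B] [Algebra k B] (x : B),
      (c.datum D).uu a B x ∈ S B) :
    ∃ n : ℕ, ∀ (B : Type u) [CommRing B] [Algebra k B] (x : B), (c.datum D).uu a B x ∈ S B →
      x ^ p ^ n = 0 := by
  push Not at h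
  obtain ⟨C, _, _, y, hy⟩ := h
  rw [uu_mem_iff hS hT] at hy
  push Not at hy
  obtain ⟨f, hf, n, hn⟩ := hy
  have hc : (fn D a f).coeff n ≠ 0 := by
    intro h0
    rw [h0, map_zero, zero_mul] at hn
    exact hn rfl
  refine ⟨n, fun B _ _ x hx => ?_⟩
  have h1 := (uu_mem_iff hS hT a x).mp hx f hf n
  have h2 : IsUnit (algebraMap k B ((fn D a f).coeff n)) := (isUnit_iff_ne_zero.mpr hc).map _
  have h3 := (h2.mul_right_eq_zero).mp h1
  obtain ⟨d, hd⟩ := Nat.exists_eq_add_of_le (Nat.lt_pow_self (n := n) hp).le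
  rw [hd, pow_add, h3, zero_mul]

end K803.PinPt
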