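import Groth.Agent.ParSch.K803.Sm2
import Groth.Agent.ParSch.K803.Hyp
import Groth.Agent.ParSch.K803.Brk
import Groth.Agent.ParSch.K803.PinPt
import Groth.Agent.ParSch.K803.ParJ

/-!
# Subgroup schemes containing a maximal parabolic subgroup: the induction
-/

set_option autoImplicit false
universe u

open CategoryTheory AlgebraicGeometry

namespace K803.Ind

open Groth.Agent.Sga3B Groth.Agent.Sga3B.Cell Groth.Agent.Sga3B.PinMod
open Groth.Agent.Sga3B.PtDescent Groth.Agent.Agf.H613 Groth.Agent.Agf.H613.TwData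
open K803.SubPt K803.Frob K803.Desc K803.Lie K803.Nn K803.HtOne K803.Hyp K803.ParComb K221.Conn

variable {k : Type u} [Field k]

section tan

variable {G : Over (Spec (CommRingCat.of k))} [GrpObj G] {D : Red.SplitRed G}
  {c : Chart G (𝟙 (Spec (CommRingCat.of k)))} {I : Ideal c.A}
  {S : ∀ (B : Type u) [CommRing B] [Algebra k B], Subgroup (Pt k c.A B)}

lemma tan_of_uu (hS : Cut I S) {a : D.idx}
    (h : (c.datum D).uu a (DualNumber k) DualNumber.eps ∈ S (DualNumber k)) : Tan D I a := by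
  intro f hf
  have hε : (DualNumber.eps : DualNumber k) * DualNumber.eps = 0 := DualNumber.eps_mul_eps
  have h2 := tan_of_mem hS hε h hf
  apply eq_zero_of_mul_eps (one_ne_zero (α := k))
  rw [map_one, one_mul]
  exact h2

lemma tan_reflect' (hS : Cut I S) (a : D.idx)
    (ha : ∀ (B : Type u) [CommRing B] [Algebra k B] (x : B), (c.datum D).uu a B x ∈ S B)
    (ha' : ∀ (B : Type u) [CommRing B] [Algebra k B] (x : B),
      (c.datum D).uu (D.P.reflectionPerm a a) B x ∈ S B) {e : D.idx} (h : Tan D I e) :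
    Tan D I (D.P.reflectionPerm a e) := by
  obtain ⟨r, r', hnn⟩ := exists_nn D c a
  obtain ⟨s, hs⟩ := hnn e
  intro f hf
  have hε : (DualNumber.eps : DualNumber k) * DualNumber.eps = 0 := DualNumber.eps_mul_eps
  have h0 : nn D c a r r' (DualNumber k) ∈ S (DualNumber k) :=
    mul_mem (mul_mem (ha _ _) (ha' _ _)) (ha _ _)
  have h1 := mul_mem (mul_mem h0 (mem_of_tan hS h hε)) (inv_mem h0)
  rw [hs] at h1
  have h2 := tan_of_mem hS (by
    rw [mul_mul_mul_comm, hε, mul_zero]) h1 hf
  exact eq_zero_of_mul_eps s.ne_zero h2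

lemma brClosed (hS : Cut I S) (p : ℕ) [CharP k p] : BrClosed D.P p {a | Tan D I a} := by
  intro a b e r hli he h1 h2 h3 ha hb
  refine Brk.tan_br hS (Brk.br c hli he h1 h2 ?_) ha hb
  rw [Ne, CharP.cast_eq_zero_iff k p]
  exact h3

end tan

/-- **The isogeny and the parabolic subgroup** -/
theorem main [IsAlgClosed k] (p : ℕ) [hp : Fact p.Prime] [CharP k p] (n : ℕ) :
    ∀ {G : Over (Spec (CommRingCat.of k))} [GrpObj G] (D : Red.SplitRed G) (b : D.P.Base)
      (c : Chart G (𝟙 (Spec (CommRingCat.of k)))) (lam : D.M →+ ℤ) (m : D.idx → ℕ)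
      {P : Over (Spec (CommRingCat.of k))} [GrpObj P] (iP : P ⟶ G) [IsMonHom iP]
      [IsClosedImmersion iP.left] (_ : Irr D.P) {α : D.idx} (_ : α ∈ b.support)
      (_ : ∀ β ∈ b.support, β ≠ α → lam (D.P.root β) = 0) (_ : 0 < lam (D.P.root α))
      (_ : p = 2 → ∀ c, D.P.pairing c α ≠ -3) (_ : HypP D c lam p m (fun B _ _ => sub c iP B))
      (_ : ∑ a, m a = n),
    ∃ (G' : Over (Spec (CommRingCat.of k))) (_ : GrpObj G')
      (c' : Chart G' (𝟙 (Spec (CommRingCat.of k)))) (φ : c'.A →ₐ[k] c.A)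
      (P' : Over (Spec (CommRingCat.of k))) (_ : GrpObj P') (i' : P' ⟶ G') (_ : IsMonHom i'),
      IsAffineHom G'.hom ∧ Smooth G'.hom ∧
      (∀ (B : Type u) [CommRing B] [Algebra k B] (g h : Pt k c.A B),
        comap φ (g * h) = comap φ g * comap φ h) ∧
      Function.Surjective (PrimeSpectrum.comap (φ : c'.A →+* c.A)) ∧
      (φ : c'.A →+* c.A).Finite ∧ IsClosedImmersion i'.left ∧ Smooth P'.hom ∧
      ∀ (B : Type u) [CommRing B] [Algebra k B] (g : Pt k c.A B),
        g ∈ sub c iP B ↔ comap φ g ∈ sub c' i' B := by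
  induction n using Nat.strong_induction_on with
  | _ n ih =>
  intro G _ D b c lam m P _ iP _ _ hirr α hα hlam hlam0 hex H hn
  have hred := Split.isReduced D
  have hpe := D.pairing_eq
  obtain ⟨I, hI⟩ := exists_ideal c iP
  have hI' : Cut I (fun B _ _ => sub c iP B) := fun B _ _ g => hI B g
  have hF1 : ∀ a, 0 ≤ lam (D.P.root a) → Tan D I a := fun a ha =>
    tan_of_uu hI' (H.pos a ha _ _)
  by_cases h0 : ∃ γ, lam (D.P.root γ) < 0 ∧ Tan D I γ
  swap
  · push Not at h0
    have hsm : Smooth P.hom := Sm.smooth iP hI' H.torus (fun a ha => H.pos a (by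
      by_contra hneg
      exact h0 a (by omega) ha))
    refine ⟨G, inferInstance, c, AlgHom.id k c.A, P, inferInstance, iP, inferInstance,
      D.reductive.1, D.reductive.2.1, fun B _ _ g h => rfl, ?_, ?_, inferInstance, hsm,
      fun B _ _ g => Iff.rfl⟩
    · intro x
      refine ⟨x, ?_⟩
      ext
      rfl
    · exact RingHom.Finite.id c.A
  -- the exponents
  have hF2 : ∀ a, ∀ β ∈ b.support, β ≠ α → Tan D I a → Tan D I (D.P.reflectionPerm β a) := by
    intro a β hβ hne ha
    refine tan_reflect' hI' β (H.pos β (hlam β hβ hne).ge) (H.pos _ ?_) ha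
    rw [root_n, map_neg, hlam β hβ hne, neg_zero]
  obtain ⟨j, hj1, hjΨ, hgood, a₁, ha₁, hja₁⟩ := ParJ.exists_j (Ψ := {a | Tan D I a}) b hα lam hlam
    hlam0 hF1 hF2 (brClosed hI' p) hp.out hex hirr h0
  have hexp : ringExpChar k = p := ringExpChar.eq k p
  obtain ⟨G₁, _, D₁, b₁, c₁, ⟨h⟩⟩ := exists_isog D b c hgood (fun a => ⟨j a, by rw [hexp]⟩)
  -- the kernel
  have hker : ∀ (B : Type u) [CommRing B] [Algebra k B] (ν : Pt k c.A B), comap h.φ ν = 1 →
      ν ∈ sub c iP B := by
    intro B _ _ ν hν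
    refine h.ker B ν hν (sub c iP B) (fun a x hx => ?_) (fun t => H.torus B t)
    rcases Nat.eq_zero_or_pos (j a) with h1 | h1
    · simp only [h1, pow_zero, pow_one] at hx
      rw [hx, Datum.uu_zero]
      exact one_mem _
    · have h2 : j a = 1 := le_antisymm (hj1 a) h1
      simp only [h2, pow_one] at hx
      exact PinPt.mem_of_tan_pow p hI' H.torus (hjΨ a h1) hx
  have hjm : ∀ a, lam (D.P.root a) < 0 → j a ≤ m a := by
    intro a ha
    rcases Nat.eq_zero_or_pos (j a) with h1 | h1
    · omega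
    · have h2 : 0 < m a := by
        rw [Nat.pos_iff_ne_zero]
        intro h2
        have hε : (DualNumber.eps : DualNumber k) * DualNumber.eps = 0 := DualNumber.eps_mul_eps
        have h3 := H.neg a ha (DualNumber k) DualNumber.eps (mem_of_tan hI' (hjΨ a h1) hε)
        rw [h2, pow_zero, pow_one] at h3
        have h4 := congrArg TrivSqZeroExt.snd h3
        simp at h4
      have := hj1 a
      omega
  -- the image of `P`
  have hGs : Smooth G.hom := D.reductive.2.1
  have hGa : IsAffineHom G.hom := D.reductive.1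
  have hGa₁ : IsAffineHom G₁.hom := D₁.reductive.1
  have hlf : LocallyOfFiniteType P.hom := by
    rw [← Over.w iP]; infer_instance
  have hqc : QuasiCompact P.hom := by
    rw [← Over.w iP]; infer_instance
  have haff : IsAffine G₁.left := isAffine_of_isAffineHom G₁.hom
  obtain ⟨P₁, _, pr, i₁, hm1, hm2, hpi, hsurj, hflat, hcl, haffP, -⟩ :=
    Groth.Agent.S5378.result k P G₁ (iP ≫ hom h)
  have hmem : ∀ (B : Type u) [CommRing B] [Algebra k B] (g : Pt k c.A B),
      g ∈ sub c iP B ↔ comap h.φ g ∈ sub c₁ i₁ B :=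
    fun B _ _ g => mem_iff h iP hker pr i₁ hpi g
  have hq : ∀ a, 0 < p ^ j a := fun a => pow_pos hp.out.pos _
  have H₁ := step h hq (fun a => rfl) hjm iP i₁ hmem H
  have hsum : ∑ a, (m (h.e.symm a) - j (h.e.symm a)) < n := by
    rw [← hn, ← Equiv.sum_comp h.e]
    simp only [Equiv.symm_apply_apply]
    refine Finset.sum_lt_sum (fun a _ => Nat.sub_le _ _) ⟨a₁, Finset.mem_univ _, ?_⟩
    have := hjm a₁ ha₁
    omega
  have hα₁ : h.e α ∈ b₁.support := (h.support α).mpr hα
  have hlam₁ : ∀ β ∈ b₁.support, β ≠ h.e α → (lam.comp h.f) (D₁.P.root β) = 0 := by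
    intro β hβ hne
    obtain ⟨β, rfl⟩ := h.e.surjective β
    rw [lam_root, hlam β ((h.support β).mp hβ) (fun e => hne (by rw [e])), mul_zero]
  have hlam0₁ : 0 < (lam.comp h.f) (D₁.P.root (h.e α)) := by
    rw [lam_root]
    exact mul_pos (by exact_mod_cast hq α) hlam0
  have hex₁ : p = 2 → ∀ c, D₁.P.pairing c (h.e α) ≠ -3 := by
    intro hp2 c hc
    obtain ⟨c, rfl⟩ := h.e.surjective c
    have h1 := h.pairing c α
    rw [hc] at h1
    have h2 := hex hp2 c
    have h3 := hj1 c
    have h4 := hj1 α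
    subst hp2
    rcases Nat.eq_zero_or_pos (j c) with h5 | h5 <;> rcases Nat.eq_zero_or_pos (j α) with h6 | h6
    · simp only [h5, h6] at h1
      norm_num at h1
      exact h2 h1.symm
    · have h6 : j α = 1 := by omega
      simp only [h5, h6] at h1
      norm_num at h1
      by_cases h7 : c = α
      · rw [h7, RootPairing.pairing_same] at h1
        omega
      · by_cases h8 : c = D.P.reflectionPerm α α
        · rw [h8, pairing_n, RootPairing.pairing_same] at h1
          omega
        · rcases RComb.pairs h7 h8 with h | h | h | h | h | h | h | h | h | h | h <;> omega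
    · have h5 : j c = 1 := by omega
      simp only [h5, h6] at h1
      norm_num at h1
      omega
    · have h5 : j c = 1 := by omega
      have h6 : j α = 1 := by omega
      simp only [h5, h6] at h1
      norm_num at h1
      omega
  have hirr₁ : Irr D₁.P := ParJ.irr_of_isog hirr hq h.e h.pairing
  obtain ⟨G', i1, c', φ, P', i2, i', i3, h1, h2, h3, h4, h5, h6, h7, h8⟩ :=
    ih _ hsum D₁ b₁ c₁ (lam.comp h.f) (fun a => m (h.e.symm a) - j (h.e.symm a)) i₁ hirr₁ hα₁
      hlam₁ hlam0₁ hex₁ H₁ rfl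
  refine ⟨G', i1, c', h.φ.comp φ, P', i2, i', i3, h1, h2, fun B _ _ g g' => ?_, ?_, ?_, h6, h7,
    fun B _ _ g => ?_⟩
  · have h9 := h.mul B g g'
    have h10 := h3 B (comap h.φ g) (comap h.φ g')
    rw [← h9] at h10
    exact h10
  · have h9 := h4.comp h.surj
    exact h9
  · exact RingHom.Finite.comp h.fin h5
  · rw [hmem, h8]
    rfl

end K803.Ind
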