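import Groth.Agent.RootD.K221.Conn
import Groth.Agent.RootD.K221.Form
import Groth.Agent.Sga3B.RootChar876

/-!
# Combinatorics of finite reduced root pairings over `ℤ`
-/

set_option autoImplicit false

open RootPairing

namespace K803.RComb

open K221.Prop K221.Form K221.Conn

variable {ι M N : Type*} [AddCommGroup M] [AddCommGroup N] {P : RootPairing ι ℤ M N}

/-- the square length of a root -/
noncomputable def len [Fintype ι] (P : RootPairing ι ℤ M N) (a : ι) : ℤ :=
  P.RootForm (P.root a) (P.root a)

section

variable [Fintype ι]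

lemma len_pos (a : ι) : 0 < len P a := rootForm_pos P a

lemma len_swap (a b : ι) : P.pairing a b * len P b = P.pairing b a * len P a :=
  pairing_mul_swap P a b

lemma len_conj {a b : ι} (h : Conj P a b) : len P b = len P a := h.rootForm_eq

lemma len_refl (a b : ι) : len P (P.reflectionPerm b a) = len P a :=
  len_conj (Relation.ReflTransGen.single ⟨b, rfl⟩)

lemma len_neg (a : ι) : len P (P.reflectionPerm a a) = len P a := len_refl a a

end

/-- the possible pairings of two non-proportional roots -/
lemma pairs [Finite ι] [P.IsReduced] {a b : ι} (h : a ≠ b) (h' : a ≠ P.reflectionPerm b b) :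
    (P.pairing a b = 0 ∧ P.pairing b a = 0) ∨ (P.pairing a b = 1 ∧ P.pairing b a = 1) ∨
    (P.pairing a b = -1 ∧ P.pairing b a = -1) ∨ (P.pairing a b = 1 ∧ P.pairing b a = 2) ∨
    (P.pairing a b = 2 ∧ P.pairing b a = 1) ∨ (P.pairing a b = -1 ∧ P.pairing b a = -2) ∨
    (P.pairing a b = -2 ∧ P.pairing b a = -1) ∨ (P.pairing a b = 1 ∧ P.pairing b a = 3) ∨
    (P.pairing a b = 3 ∧ P.pairing b a = 1) ∨ (P.pairing a b = -1 ∧ P.pairing b a = -3) ∨
    (P.pairing a b = -3 ∧ P.pairing b a = -1) := by
  have hm := P.pairingIn_pairingIn_mem_set_of_isCrystal_of_isRed' a b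
    (fun e => h (P.root.injective e)) (fun e => h' (P.root.injective (by rw [e, root_neg])))
  rw [pairingIn_eq, pairingIn_eq] at hm
  simpa only [Set.mem_insert_iff, Set.mem_singleton_iff, Prod.mk.injEq] using hm

/-- if `‖a‖ = m ‖b‖` with `m ≥ 4` then no root is in a chain ... : lengths of roots of an irreducible
system differ by a factor at most `3` -/
lemma len_le_three [Fintype ι] [P.IsReduced] (hirr : Irr P) (a b : ι) : len P a ≤ 3 * len P b := by
  obtain ⟨b', hb, hb'⟩ := hirr.exists_conj b a
  rw [← len_conj hb]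
  have h0 := len_swap (P := P) b' a
  have ha := len_pos (P := P) a
  have hb'' := len_pos (P := P) b'
  by_cases h1 : b' = a
  · rw [h1]; omega
  by_cases h2 : b' = P.reflectionPerm a a
  · rw [h2, len_neg]; omega
  rcases pairs h1 h2 with h | h | h | h | h | h | h | h | h | h | h <;>
    (obtain ⟨e1, e2⟩ := h; rw [e1, e2] at h0; first | exact absurd e1 hb' | omega)

end K803.RComb
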