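import Groth.Prelude.Def_AGF
import Groth.Agent.RootD.K221.Conn
import Groth.Agent.RootD.K221.Form
import Groth.Agent.Sga3B.RootChar876
import Groth.Agent.ParSch.K803.RComb

/-!
# Exponents of isogenies of root data
-/

set_option autoImplicit false

open RootPairing

namespace K803.IsogComb

open K221.Prop K221.Form K221.Conn K803.RComb

variable {idx M idx' M' : Type} [Fintype idx] [AddCommGroup M] [AddCommGroup M']
  {P : RootPairing idx ℤ M (Module.Dual ℤ M)} {P' : RootPairing idx' ℤ M' (Module.Dual ℤ M')}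
  {p : ℕ} (ρ : AGF.RootIsog P P' p)

omit [Fintype idx] in
lemma pairing_eq_apply (hP : P.toLinearMap = Module.Dual.eval ℤ M) (a b : idx) :
    P.pairing a b = P.coroot b (P.root a) := by
  rw [← RootPairing.root_coroot_eq_pairing, hP]
  rfl

omit [Fintype idx] in
/-- `q(b) ⟨e a, e b^∨⟩ = q(a) ⟨a, b^∨⟩` -/
lemma q_mul (hP : P.toLinearMap = Module.Dual.eval ℤ M)
    (hP' : P'.toLinearMap = Module.Dual.eval ℤ M') (a b : idx) :
    (ρ.q b : ℤ) * P'.pairing (ρ.e a) (ρ.e b) = ρ.q a * P.pairing a b := by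
  have h1 := congrArg (fun f : M' →ₗ[ℤ] ℤ => f (P'.root (ρ.e a))) (ρ.coroot b)
  have h2 : P.coroot b (ρ.f (P'.root (ρ.e a))) = (ρ.q b : ℤ) * P'.coroot (ρ.e b) (P'.root (ρ.e a)) :=
    h1
  rw [ρ.root, map_smul, smul_eq_mul, ← pairing_eq_apply hP, ← pairing_eq_apply hP'] at h2
  exact h2.symm

omit [Fintype idx] in
/-- the exponents are constant on Weyl group orbits -/
lemma q_reflectionPerm [Finite idx] [P.IsReduced] (hp : p ≠ 0) (hP : P.toLinearMap = Module.Dual.eval ℤ M)
    (hP' : P'.toLinearMap = Module.Dual.eval ℤ M') (a b : idx) :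
    ρ.q (P.reflectionPerm b a) = ρ.q a := by
  have hq : ∀ c, ρ.q c ≠ 0 := by
    intro c
    obtain ⟨m, hm⟩ := ρ.q_pow c
    rw [hm]
    exact pow_ne_zero m hp
  set x : idx := ρ.e.symm (P'.reflectionPerm (ρ.e b) (ρ.e a)) with hx
  have hex : ρ.e x = P'.reflectionPerm (ρ.e b) (ρ.e a) := by rw [hx, Equiv.apply_symm_apply]
  have h1 : ρ.f (P'.root (ρ.e x)) = (ρ.q a : ℤ) • P.root (P.reflectionPerm b a) := by
    rw [hex, RootPairing.root_reflectionPerm, RootPairing.reflection_apply_root, map_sub, map_smul,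
      ρ.root, ρ.root, RootPairing.root_reflectionPerm, RootPairing.reflection_apply_root, smul_sub,
      smul_smul, smul_smul, ← q_mul ρ hP hP', mul_comm (P'.pairing _ _)]
  rw [ρ.root] at h1
  have h2 : x = P.reflectionPerm b a :=
    Groth.Agent.Sga3B.RootChar876.eq_of_smul_root_eq P _ _ _ _ (hq _) (hq _) h1
  rw [← h2]
  rw [← h2] at h1
  have h3 : ((ρ.q x : ℤ) - ρ.q a) • P.root x = 0 := by rw [sub_smul, h1, sub_self]
  have := torsionFree_left P
  rcases smul_eq_zero.mp h3 with h4 | h4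
  · omega
  · exact absurd h4 (P.ne_zero x)

/-- the exponent of a long root is `1` as soon as some exponent is `1` -/
theorem q_eq_one [P.IsReduced] [hp : Fact p.Prime] (hirr : Irr P)
    (hP : P.toLinearMap = Module.Dual.eval ℤ M)
    (hP' : P'.toLinearMap = Module.Dual.eval ℤ M') (h1 : ∃ c : idx, ρ.q c = 1) (a : idx)
    (hlong : ∃ b : idx, P.pairing a b = -(p : ℤ) ∧ P.pairing b a = -1) : ρ.q a = 1 := by
  obtain ⟨c, hc⟩ := h1
  obtain ⟨b, hab, hba⟩ := hlong
  -- conjugate `c` so that it is not orthogonal to `a`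
  obtain ⟨c', hcc', hc'a⟩ := hirr.exists_conj c a
  have hq : ∀ {x y : idx}, Conj P x y → ρ.q y = ρ.q x := by
    intro x y h
    induction h with
    | refl => rfl
    | tail _ hbc ih =>
      obtain ⟨l, rfl⟩ := hbc
      rw [q_reflectionPerm ρ hp.out.ne_zero hP hP', ih]
  have hc' : ρ.q c' = 1 := (hq hcc').trans hc
  obtain ⟨m, hm⟩ := ρ.q_pow a
  by_contra hne
  have hpq : (p : ℤ) ∣ ρ.q a := by
    rcases Nat.eq_zero_or_pos m with h0 | h0
    · rw [h0, pow_zero] at hm
      exact absurd hm hne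
    · rw [hm]
      exact_mod_cast dvd_pow_self p h0.ne'
  have hdvd : (p : ℤ) ∣ P.pairing c' a := by
    have h2 := q_mul ρ hP hP' c' a
    rw [hc', Nat.cast_one, one_mul] at h2
    exact hpq.trans ⟨_, h2.symm⟩
  have hp2 : (2 : ℤ) ≤ p := by exact_mod_cast hp.out.two_le
  -- `c'` is not `± a`
  have hca : c' ≠ a := by
    rintro rfl
    exact hne hc'
  have hca' : c' ≠ P.reflectionPerm a a := by
    rintro rfl
    rw [q_reflectionPerm ρ hp.out.ne_zero hP hP'] at hc'
    exact hne hc'
  have hne : P.pairing c' a ≠ 0 := hc'a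
  have h3 := len_le_three hirr c' b
  have h4 := len_swap (P := P) a b
  rw [hab, hba] at h4
  have h5 := len_swap (P := P) c' a
  have hb0 := len_pos (P := P) b
  have ha0 := len_pos (P := P) a
  have hc0 := len_pos (P := P) c'
  obtain ⟨t, ht⟩ := hdvd
  have key : len P c' = p * len P a := by
    rcases pairs hca hca' with h | h | h | h | h | h | h | h | h | h | h <;>
      (obtain ⟨e1, e2⟩ := h; rw [e1, e2] at h5) <;> rw [e1] at ht hne
    · exact absurd rfl hne
    · exfalso
      have : (p : ℤ) ∣ 1 := ⟨t, ht⟩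
      have := Int.le_of_dvd one_pos this
      omega
    · exfalso
      have : (p : ℤ) ∣ 1 := (dvd_neg).mp ⟨t, ht⟩
      have := Int.le_of_dvd one_pos this
      omega
    · exfalso
      have : (p : ℤ) ∣ 1 := ⟨t, ht⟩
      have := Int.le_of_dvd one_pos this
      omega
    · have h7 : (p : ℤ) ∣ 2 := ⟨t, ht⟩
      have h8 := Int.le_of_dvd two_pos h7
      have h9 : (p : ℤ) = 2 := by omega
      rw [h9]; omega
    · exfalso
      have : (p : ℤ) ∣ 1 := (dvd_neg).mp ⟨t, ht⟩
      have := Int.le_of_dvd one_pos this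
      omega
    · have h7 : (p : ℤ) ∣ 2 := (dvd_neg).mp ⟨t, ht⟩
      have h8 := Int.le_of_dvd two_pos h7
      have h9 : (p : ℤ) = 2 := by omega
      rw [h9]; omega
    · exfalso
      have : (p : ℤ) ∣ 1 := ⟨t, ht⟩
      have := Int.le_of_dvd one_pos this
      omega
    · have h7 : (p : ℤ) ∣ 3 := ⟨t, ht⟩
      have h8 := Int.le_of_dvd three_pos h7
      have h9 : (p : ℤ) = 3 := by
        rcases Int.emod_emod_of_dvd 3 h7 with -
        have : (p : ℤ) ≠ 2 := by
          intro h; rw [h] at h7; norm_num at h7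
        omega
      rw [h9]; omega
    · exfalso
      have : (p : ℤ) ∣ 1 := (dvd_neg).mp ⟨t, ht⟩
      have := Int.le_of_dvd one_pos this
      omega
    · have h7 : (p : ℤ) ∣ 3 := (dvd_neg).mp ⟨t, ht⟩
      have h8 := Int.le_of_dvd three_pos h7
      have h9 : (p : ℤ) = 3 := by
        have : (p : ℤ) ≠ 2 := by
          intro h; rw [h] at h7; norm_num at h7
        omega
      rw [h9]; omega
  have h6 : len P a = p * len P b := by linarith
  rw [h6] at key
  nlinarith

end K803.IsogComb
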