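import Groth.Agent.ParSch.K803.Gen
import Mathlib.RingTheory.TensorProduct.Maps

/-!
# Points near the unit of an affine group functor
-/

set_option autoImplicit false
universe u

open Polynomial TensorProduct

namespace K803.Lie

open Groth.Agent.Sga3B.Cell K803.Gen

variable {k A : Type u} [CommRing k] [CommRing A] [Algebra k A] [PtGrp k A]
  {R C : Type u} [CommRing R] [Algebra k R] [CommRing C] [Algebra k C]

/-- the difference of a point and the unit -/
def dd (g : Pt k A R) (f : A) : R := g.hom f - (1 : Pt k A R).hom f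

@[simp] lemma dd_one (f : A) : dd (1 : Pt k A R) f = 0 := sub_self _

lemma dd_map (φ : R →ₐ[k] C) (g : Pt k A R) (f : A) : dd (Pt.map φ g) f = φ (dd g f) := by
  rw [dd, dd, ← Pt.map_one φ, Pt.map_hom_apply, Pt.map_hom_apply, map_sub]

/-- two points whose differences with the unit multiply to zero -/
theorem dd_mul {g g' : Pt k A R} (h : ∀ x y, dd g x * dd g' y = 0) (f : A) :
    dd (g * g') f = dd g f + dd g' f := by
  let i₁ : Pt k A (A ⊗[k] A) := Pt.mk Algebra.TensorProduct.includeLeft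
  let i₂ : Pt k A (A ⊗[k] A) := Pt.mk Algebra.TensorProduct.includeRight
  let Φ : Pt k A R → Pt k A R → (A ⊗[k] A →ₐ[k] R) := fun a b =>
    Algebra.TensorProduct.lift a.hom b.hom (fun _ _ => Commute.all _ _)
  have h1 : ∀ a b : Pt k A R, a * b = Pt.map (Φ a b) (i₁ * i₂) := by
    intro a b
    rw [Pt.map_mul]
    congr 1
    · ext f; simp [Φ, i₁]
    · ext f; simp [Φ, i₂]
  have h2 : ∀ z : A ⊗[k] A, Φ g g' z - Φ g 1 z - Φ 1 g' z + Φ 1 1 z = 0 := by
    intro z
    induction z using TensorProduct.induction_on with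
    | zero => simp
    | tmul x y =>
      have := h x y
      simp only [dd] at this
      simp only [Φ, Algebra.TensorProduct.lift_tmul]
      linear_combination this
    | add x y hx hy =>
      rw [map_add, map_add, map_add, map_add]
      linear_combination hx + hy
  have h3 := h2 ((i₁ * i₂).hom f)
  rw [← Pt.map_hom_apply, ← Pt.map_hom_apply, ← Pt.map_hom_apply, ← Pt.map_hom_apply, ← h1, ← h1,
    ← h1, ← h1, mul_one, one_mul, mul_one] at h3
  rw [dd, dd, dd]
  linear_combination h3

lemma pt_ext {g g' : Pt k A R} (h : ∀ f, dd g f = dd g' f) : g = g' := by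
  apply Pt.ext
  intro f
  exact sub_left_injective (h f)

/-- two points whose differences with the unit multiply to zero commute -/
theorem comm {g g' : Pt k A R} (h : ∀ x y, dd g x * dd g' y = 0) : g * g' = g' * g := by
  apply pt_ext
  intro f
  rw [dd_mul h, dd_mul (fun x y => by rw [mul_comm]; exact h y x), add_comm]

/-- the points congruent to the unit modulo an ideal -/
def nr (K : Ideal R) : Subgroup (Pt k A R) := (Pt.mapHom (Ideal.Quotient.mkₐ k K)).ker

lemma mem_nr {K : Ideal R} {g : Pt k A R} : g ∈ nr K ↔ ∀ f, dd g f ∈ K := by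
  rw [nr, MonoidHom.mem_ker, Pt.mapHom_apply]
  constructor
  · intro h f
    rw [← Ideal.Quotient.eq_zero_iff_mem]
    have := dd_map (Ideal.Quotient.mkₐ k K) g f
    rw [h, dd_one] at this
    exact this.symm
  · intro h
    apply pt_ext
    intro f
    rw [dd_map, dd_one]
    exact Ideal.Quotient.eq_zero_iff_mem.mpr (h f)

lemma map_mem_nr {K : Ideal R} {g : Pt k A R} (hg : g ∈ nr K) {φ : R →ₐ[k] C} {L : Ideal C}
    (h : ∀ x ∈ K, φ x ∈ L) : Pt.map φ g ∈ nr L := by
  rw [mem_nr] at hg ⊢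
  intro f
  rw [dd_map]
  exact h _ (hg f)

lemma nr_mono {K L : Ideal R} (h : K ≤ L) : nr (k := k) (A := A) K ≤ nr L := by
  intro g hg
  rw [mem_nr] at hg ⊢
  exact fun f => h (hg f)

lemma dd_mul_of_mem {K L : Ideal R} (h : K * L = ⊥) {g g' : Pt k A R} (hg : g ∈ nr K)
    (hg' : g' ∈ nr L) (f : A) : dd (g * g') f = dd g f + dd g' f := by
  rw [mem_nr] at hg hg'
  apply dd_mul
  intro x y
  have := Ideal.mul_mem_mul (hg x) (hg' y)
  rw [h] at this
  exact this

lemma comm_of_mem {K L : Ideal R} (h : K * L = ⊥) {g g' : Pt k A R} (hg : g ∈ nr K)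
    (hg' : g' ∈ nr L) : g * g' = g' * g := by
  rw [mem_nr] at hg hg'
  apply comm
  intro x y
  have := Ideal.mul_mem_mul (hg x) (hg' y)
  rw [h] at this
  exact this

lemma dd_inv_of_mem {K : Ideal R} (h : K * K = ⊥) {g : Pt k A R} (hg : g ∈ nr K) (f : A) :
    dd g⁻¹ f = - dd g f := by
  have h1 := dd_mul_of_mem h hg (inv_mem hg) f
  rw [mul_inv_cancel, dd_one] at h1
  linear_combination -h1

lemma dd_list_prod {K : Ideal R} (h : K * K = ⊥) {ι : Type*} (L : List ι) (g : ι → Pt k A R)
    (hg : ∀ i, g i ∈ nr K) (f : A) : dd (L.map g).prod f = (L.map fun i => dd (g i) f).sum := by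
  induction L with
  | nil => simp
  | cons a L ih =>
    rw [List.map_cons, List.prod_cons, List.map_cons, List.sum_cons, ← ih]
    apply dd_mul_of_mem h (hg a)
    apply list_prod_mem
    intro x hx
    obtain ⟨i, -, rfl⟩ := List.mem_map.mp hx
    exact hg i

variable (D : Datum k A)

/-- the tangent vector of a root homomorphism -/
noncomputable def tan (a : D.idx) (f : A) : k := ((D.uu a k[X] X).hom f).coeff 1

lemma uu_mem_nr {K : Ideal R} (a : D.idx) {x : R} (hx : x ∈ K) : D.uu a R x ∈ nr K := by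
  rw [nr, MonoidHom.mem_ker, Pt.mapHom_apply, D.uu_nat]
  have : (Ideal.Quotient.mkₐ k K) x = 0 := Ideal.Quotient.eq_zero_iff_mem.mpr hx
  rw [this, D.uu_zero]

lemma i_mem_nr {K : Ideal R} {t : TPt D.M R} (ht : TPt.map (Ideal.Quotient.mkₐ k K) t = 1) :
    D.i R t ∈ nr K := by
  rw [nr, MonoidHom.mem_ker, Pt.mapHom_apply, D.i_nat, ht, map_one]

lemma coeff_zero (a : D.idx) (f : A) :
    algebraMap k k[X] (((D.uu a k[X] X).hom f).coeff 0) = (1 : Pt k A k[X]).hom f := by
  have h := D.uu_nat a (Polynomial.aeval (0 : k[X]) : k[X] →ₐ[k] k[X]) X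
  rw [Polynomial.aeval_X, D.uu_zero] at h
  rw [← h, Pt.map_hom_apply, Polynomial.aeval_def, Polynomial.eval₂_at_zero]

lemma dd_uu (a : D.idx) {x : R} (hx : x * x = 0) (f : A) :
    dd (D.uu a R x) f = algebraMap k R (tan D a f) * x := by
  have h := D.uu_nat a (Polynomial.aeval x : k[X] →ₐ[k] R) X
  rw [Polynomial.aeval_X] at h
  rw [← h, dd, Pt.map_hom_apply]
  have h1 : (1 : Pt k A R).hom f = algebraMap k R (((D.uu a k[X] X).hom f).coeff 0) := by
    rw [← Pt.map_one (Polynomial.aeval x : k[X] →ₐ[k] R), Pt.map_hom_apply, ← coeff_zero D a f]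
    simp
  rw [h1, tan]
  generalize (D.uu a k[X] X).hom f = p
  have h2 : aeval x p = algebraMap k R (p.coeff 0) + algebraMap k R (p.coeff 1) * x +
      x * x * aeval x p.divX.divX := by
    have e1 := congrArg (aeval x) (Polynomial.divX_mul_X_add p)
    have e2 := congrArg (aeval x) (Polynomial.divX_mul_X_add p.divX)
    rw [Polynomial.coeff_divX, zero_add] at e2
    simp only [map_add, map_mul, Polynomial.aeval_X, Polynomial.aeval_C] at e1 e2
    linear_combination -e1 - x * e2
  rw [h2]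
  linear_combination (aeval x p.divX.divX) * hx

variable {D}

lemma prod_mem_nr {K : Ideal R} (L : List D.idx) {y : D.idx → R} (hy : ∀ b, y b ∈ K) :
    (L.map fun b => D.uu b R (y b)).prod ∈ nr (k := k) (A := A) K := by
  apply list_prod_mem
  intro x hx
  obtain ⟨i, -, rfl⟩ := List.mem_map.mp hx
  exact uu_mem_nr D i (hy i)

lemma dd_prod {K : Ideal R} (hK : K * K = ⊥) {L : List D.idx} (hL : L.Nodup) (hL' : ∀ b, b ∈ L)
    {y : D.idx → R} (hy : ∀ b, y b ∈ K) (f : A) :
    dd (L.map fun b => D.uu b R (y b)).prod f = ∑ b, algebraMap k R (tan D b f) * y b := by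
  classical
  rw [dd_list_prod hK L _ (fun i => uu_mem_nr D i (hy i))]
  have h1 : ∀ b, dd (D.uu b R (y b)) f = algebraMap k R (tan D b f) * y b := by
    intro b
    apply dd_uu
    have := Ideal.mul_mem_mul (hy b) (hy b)
    rw [hK] at this
    exact this
  simp only [h1]
  rw [← List.sum_toFinset _ hL]
  congr 1
  ext b
  simp [hL']

lemma map_mul_map_eq_bot {K : Ideal R} (hK : K * K = ⊥) (φ : R →+* C) :
    K.map φ * K.map φ = ⊥ := by
  rw [← Ideal.map_mul, hK, Ideal.map_bot]

/-- **Weights.** A point of a closed subgroup functor normalised by the torus whose root coordinates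
are in an ideal of square zero: its root coordinates are in the subgroup infinitesimally. -/
theorem weights {I : Ideal A} (S : ∀ (B : Type u) [CommRing B] [Algebra k B], Subgroup (Pt k A B))
    (hS : ∀ (B : Type u) [CommRing B] [Algebra k B] (g : Pt k A B),
      g ∈ S B ↔ ∀ f ∈ I, g.hom f = 0)
    (hT : ∀ (B : Type u) [CommRing B] [Algebra k B] (t : TPt D.M B) (g : Pt k A B),
      g ∈ S B → D.i B t * g * (D.i B t)⁻¹ ∈ S B)
    {K : Ideal R} (hK : K * K = ⊥) {L : List D.idx} (hL : L.Nodup) (hL' : ∀ b, b ∈ L)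
    {y : D.idx → R} (hy : ∀ b, y b ∈ K) {t : TPt D.M R} (h : D.cell L y t ∈ S R)
    (c : D.idx) {f : A} (hf : f ∈ I) : algebraMap k R (tan D c f) * y c = 0 := by
  classical
  let R' := MonoidAlgebra R (Multiplicative D.M)
  let ι : R →ₐ[k] R' := IsScalarTower.toAlgHom k R R'
  let s : TPt D.M R' := tM D.M R
  have hmap : ∀ {B C : Type u} [CommRing B] [Algebra k B] [CommRing C] [Algebra k C]
      (φ : B →ₐ[k] C) {g : Pt k A B}, g ∈ S B → Pt.map φ g ∈ S C := by
    intro B C _ _ _ _ φ g hg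
    rw [hS] at hg ⊢
    intro f hf
    rw [Pt.map_hom_apply, hg f hf, map_zero]
  have h1 := hmap ι h
  have h2 := hT _ s _ h1
  have h3 := mul_mem h2 (inv_mem h1)
  rw [D.cell_nat, D.conj_cell] at h3
  have h4 : D.cell L (fun a => TPt.ch (D.root a) s * ι (y a)) (TPt.map ι t) *
      (D.cell L (fun a => ι (y a)) (TPt.map ι t))⁻¹ =
      (L.map fun a => D.uu a R' (TPt.ch (D.root a) s * ι (y a))).prod *
      ((L.map fun a => D.uu a R' (ι (y a))).prod)⁻¹ := by
    unfold Datum.cell
    group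
  rw [h4] at h3
  have hK' := map_mul_map_eq_bot hK (ι : R →+* R')
  have hy1 : ∀ a, ι (y a) ∈ K.map (ι : R →+* R') := fun a => Ideal.mem_map_of_mem _ (hy a)
  have hy2 : ∀ a, TPt.ch (D.root a) s * ι (y a) ∈ K.map (ι : R →+* R') := fun a =>
    Ideal.mul_mem_left _ _ (hy1 a)
  have h5 := (hS _ _).mp h3 f hf
  have h6 := (hS R' 1).mp (one_mem _) f hf
  have h7 : dd ((L.map fun a => D.uu a R' (TPt.ch (D.root a) s * ι (y a))).prod *
      ((L.map fun a => D.uu a R' (ι (y a))).prod)⁻¹) f = 0 := by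
    rw [dd, h5, h6, sub_zero]
  rw [dd_mul_of_mem hK' (prod_mem_nr L hy2) (inv_mem (prod_mem_nr L hy1)),
    dd_inv_of_mem hK' (prod_mem_nr L hy1), dd_prod hK' hL hL' hy2, dd_prod hK' hL hL' hy1] at h7
  have e1 : ∀ b, algebraMap k R' (tan D b f) * (TPt.ch (D.root b) s * ι (y b)) =
      MonoidAlgebra.single (Multiplicative.ofAdd (D.root b)) (algebraMap k R (tan D b f) * y b) := by
    intro b
    change MonoidAlgebra.single 1 (algebraMap k R (tan D b f)) *
      (MonoidAlgebra.single (Multiplicative.ofAdd (D.root b)) 1 * MonoidAlgebra.single 1 (y b)) = _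
    rw [MonoidAlgebra.single_mul_single, MonoidAlgebra.single_mul_single]
    simp
  have e2 : ∀ b, algebraMap k R' (tan D b f) * ι (y b) =
      MonoidAlgebra.single 1 (algebraMap k R (tan D b f) * y b) := by
    intro b
    change MonoidAlgebra.single 1 (algebraMap k R (tan D b f)) * MonoidAlgebra.single 1 (y b) = _
    rw [MonoidAlgebra.single_mul_single]
    simp
  simp only [e1, e2] at h7
  let κ : R' →+ R := (Finsupp.applyAddHom (Multiplicative.ofAdd (D.root c))).comp
    (MonoidAlgebra.coeffAddEquiv (R := R) (M := Multiplicative D.M)).toAddMonoidHom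
  have hκ : ∀ (m : Multiplicative D.M) (r : R), κ (MonoidAlgebra.single m r) =
      Finsupp.single m r (Multiplicative.ofAdd (D.root c)) := fun m r => rfl
  have h8 := congrArg κ h7
  rw [map_add, map_neg, map_sum, map_sum, map_zero] at h8
  simp only [hκ] at h8
  rw [Finset.sum_eq_single c, Finset.sum_eq_zero, neg_zero, add_zero, Finsupp.single_eq_same] at h8
  · exact h8
  · intro b _
    rw [Finsupp.single_eq_of_ne]
    intro h9
    exact D.root_ne c (congrArg Multiplicative.toAdd h9)
  · intro b _ hb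
    rw [Finsupp.single_eq_of_ne]
    intro h9
    exact hb (D.root_inj (congrArg Multiplicative.toAdd h9)).symm
  · intro h; exact absurd (Finset.mem_univ _) h

section pin

variable {k A : Type u} [Field k] [CommRing A] [Algebra k A] [PtGrp k A]
  {R : Type u} [CommRing R] [Algebra k R]
  {idx M : Type} [Fintype idx] [AddCommGroup M] [Module.Free ℤ M] [Module.Finite ℤ M]
  {P : RootPairing idx ℤ M (Module.Dual ℤ M)} {b : P.Base} (E : PinCell P b k A)

lemma one_hom (f : A) : (1 : Pt k A R).hom f = algebraMap k R ((1 : Pt k A k).hom f) := by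
  rw [← Pt.map_one (Algebra.ofId k R), Pt.map_hom_apply]
  rfl

lemma cell_zero (t : TPt M R) : E.cell (fun _ => (0 : R)) t = E.i R t :=
  Datum.cell_zero (D := E.toDatum) (allList b) t

/-- points near the unit are in the big cell -/
lemma exists_cell_of_nr {K : Ideal R} (hK : IsNilpotent K) {g : Pt k A R} (hg : g ∈ nr K) :
    ∃ (x : idx → R) (t : TPt M R), g = E.cell x t ∧ (∀ a, x a ∈ K) ∧
      TPt.map (Ideal.Quotient.mkₐ k K) t = 1 := by
  have h1 : Pt.map (Ideal.Quotient.mkₐ k K) g = 1 := hg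
  have h0 : (1 : Pt k A (R ⧸ K)) = E.cell (fun _ => 0) 1 := by
    rw [cell_zero, map_one]
  have h2 := (E.mem_cell_iff (Pt.map (Ideal.Quotient.mkₐ k K) g)).mp
    ⟨fun _ => 0, 1, by rw [h1, h0]; rfl⟩
  have h3 : E.cellIdeal.map g.hom.toRingHom = ⊤ := by
    set J := E.cellIdeal.map g.hom.toRingHom with hJ
    have h4 : J.map (Ideal.Quotient.mk K) = ⊤ := by
      rw [hJ, Ideal.map_map]
      exact h2
    have h5 : (1 : R ⧸ K) ∈ J.map (Ideal.Quotient.mk K) := by rw [h4]; trivial
    rw [Ideal.mem_map_iff_of_surjective _ Ideal.Quotient.mk_surjective] at h5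
    obtain ⟨j, hj, hj1⟩ := h5
    have h6 : j - 1 ∈ K := by
      rw [← Ideal.Quotient.eq_zero_iff_mem, map_sub, hj1, map_one, sub_self]
    have h7 : IsNilpotent (j - 1) := by
      obtain ⟨n, hn⟩ := hK
      exact ⟨n, by
        have := Ideal.pow_mem_pow h6 n
        rw [hn] at this
        exact this⟩
    have h8 : IsUnit j := by
      have := h7.isUnit_add_one
      rwa [sub_add_cancel] at this
    exact Ideal.eq_top_of_isUnit_mem _ hj h8
  obtain ⟨x, t, hxt⟩ := (E.mem_cell_iff g).mpr h3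
  have hxt' : g = E.cell x t := hxt
  have h9 : E.cell (fun a => (Ideal.Quotient.mkₐ k K) (x a)) (TPt.map (Ideal.Quotient.mkₐ k K) t) =
      E.cell (fun _ => 0) 1 := by
    rw [← E.cell_nat, ← hxt', h1, h0]
  obtain ⟨h10, h11⟩ := E.cell_injective h9
  exact ⟨x, t, hxt', fun a => Ideal.Quotient.eq_zero_iff_mem.mp (congrFun h10 a), h11⟩

/-- **A closed infinitesimal subgroup functor normalised by the torus either contains a root vector
or is contained in the torus.** -/
theorem exists_tan_or_torus {I : Ideal A}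
    (S : ∀ (B : Type u) [CommRing B] [Algebra k B], Subgroup (Pt k A B))
    (hS : ∀ (B : Type u) [CommRing B] [Algebra k B] (g : Pt k A B),
      g ∈ S B ↔ ∀ f ∈ I, g.hom f = 0)
    (hT : ∀ (B : Type u) [CommRing B] [Algebra k B] (t : TPt M B) (g : Pt k A B),
      g ∈ S B → E.i B t * g * (E.i B t)⁻¹ ∈ S B)
    (hnil : IsNilpotent ((RingHom.ker ((1 : Pt k A k).hom : A →+* k)).map (Ideal.Quotient.mk I))) :
    (∃ a, ∀ f ∈ I, tan E.toDatum a f = 0) ∨
      ∀ (B : Type u) [CommRing B] [Algebra k B] (g : Pt k A B), g ∈ S B → ∃ t, g = E.i B t := by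
  by_cases hex : ∃ a, ∀ f ∈ I, tan E.toDatum a f = 0
  · exact Or.inl hex
  right
  push Not at hex
  have hmap : ∀ {B C : Type u} [CommRing B] [Algebra k B] [CommRing C] [Algebra k C]
      (φ : B →ₐ[k] C) {g : Pt k A B}, g ∈ S B → Pt.map φ g ∈ S C := by
    intro B C _ _ _ _ φ g hg
    rw [hS] at hg ⊢
    intro f hf
    rw [Pt.map_hom_apply, hg f hf, map_zero]
  set N := (RingHom.ker ((1 : Pt k A k).hom : A →+* k)).map (Ideal.Quotient.mk I) with hN
  let h : Pt k A (A ⧸ I) := Pt.mk (Ideal.Quotient.mkₐ k I)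
  have hh : h ∈ S (A ⧸ I) := by
    rw [hS]
    intro f hf
    exact Ideal.Quotient.eq_zero_iff_mem.mpr hf
  have hh' : h ∈ nr N := by
    rw [mem_nr]
    intro f
    rw [dd, one_hom]
    have : h.hom f - algebraMap k (A ⧸ I) ((1 : Pt k A k).hom f) =
        Ideal.Quotient.mk I (f - algebraMap k A ((1 : Pt k A k).hom f)) := by
      rw [map_sub]
      rfl
    rw [this]
    apply Ideal.mem_map_of_mem
    rw [RingHom.mem_ker, map_sub]
    change (1 : Pt k A k).hom f - (1 : Pt k A k).hom (algebraMap k A _) = 0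
    rw [AlgHom.commutes]
    exact sub_self _
  obtain ⟨x, t, hxt, hx, -⟩ := exists_cell_of_nr E hnil hh'
  have key : ∀ n, 1 ≤ n → ∀ a, x a ∈ N ^ n := by
    intro n hn
    induction n, hn using Nat.le_induction with
    | base => simpa using hx
    | succ n hn ih =>
      intro c
      let π : A ⧸ I →ₐ[k] (A ⧸ I) ⧸ N ^ (n + 1) := Ideal.Quotient.mkₐ k _
      have hK : (N ^ n).map (π : A ⧸ I →+* (A ⧸ I) ⧸ N ^ (n + 1)) *
          (N ^ n).map (π : A ⧸ I →+* (A ⧸ I) ⧸ N ^ (n + 1)) = ⊥ := by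
        rw [← Ideal.map_mul, ← pow_add, eq_bot_iff]
        refine (Ideal.map_mono (Ideal.pow_le_pow_right (by omega : n + 1 ≤ n + n))).trans ?_
        rw [Ideal.map_le_iff_le_comap]
        intro z hz
        exact Ideal.Quotient.eq_zero_iff_mem.mpr hz
      obtain ⟨f, hf, hfc⟩ := hex c
      have h1 := hmap π hh
      rw [hxt, E.cell_nat, E.cell_eq] at h1
      have h2 := weights (D := E.toDatum) S hS hT hK (allList_nodup b) (mem_allList b)
        (fun a => Ideal.mem_map_of_mem _ (ih a)) h1 c hf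
      have h3 : π (x c) = 0 := by
        have h4 : IsUnit (algebraMap k ((A ⧸ I) ⧸ N ^ (n + 1)) (tan E.toDatum c f)) :=
          (isUnit_iff_ne_zero.mpr hfc).map _
        exact (h4.mul_right_eq_zero).mp h2
      exact Ideal.Quotient.eq_zero_iff_mem.mp h3
  obtain ⟨n, hn⟩ := hnil
  have hx0 : x = fun _ => 0 := by
    funext a
    have h1 := Ideal.pow_le_pow_right (Nat.le_succ n) (key (n + 1) (by omega) a)
    rw [hn] at h1
    exact h1
  rw [hx0, cell_zero] at hxt
  intro B _ _ g hg
  rw [hS] at hg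
  refine ⟨TPt.map (Ideal.Quotient.liftₐ I g.hom hg) t, ?_⟩
  rw [← E.i_nat]
  have : E.i (A ⧸ I) t = h := hxt.symm
  rw [this]
  ext f
  rfl

end pin

end K803.Lie
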