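import Groth.Agent.ParSch.K803.HtOne
import Groth.Agent.ParSch.K803.FrobKer

/-!
# The least normal non-central subgroup scheme of height at most one
-/

set_option autoImplicit false
universe u

open CategoryTheory MonoidalCategory CartesianMonoidalCategory MonObj GrpObj AlgebraicGeometry

namespace K803.MinHt

open Groth.Agent.Sga3B Groth.Agent.Sga3B.Cell Groth.Agent.Sga3B.PinMod
open K803.SubPt K803.OfIdeal K803.Gen K803.Split K803.Lie K803.HtOne K803.FrobKer K221.Conn

variable {k : Type u} [Field k] {G : Over (Spec (CommRingCat.of k))} [GrpObj G]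
  {D : Red.SplitRed G} {c : Chart G (𝟙 (Spec (CommRingCat.of k)))}

/-- centrality of a subgroup as in the statements -/
def Central {H : Over (Spec (CommRingCat.of k))} (iH : H ⟶ G) : Prop :=
  ∀ (X : Over (Spec (CommRingCat.of k))) (n : X ⟶ H) (X' : Over (Spec (CommRingCat.of k)))
    (x : X' ⟶ X) (g : X' ⟶ G), (x ≫ n ≫ iH) * g = g * (x ≫ n ≫ iH)

/-- height at most one as in the statements -/
def Height (p : ℕ) (H : Over (Spec (CommRingCat.of k))) [GrpObj H] : Prop :=
  ∀ a : Γ(H.left, ⊤), (η[H]).left.appTop a = 0 → a ^ p = 0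

/-- a subgroup is central if its affine points are central -/
lemma central_of_points {H : Over (Spec (CommRingCat.of k))} [GrpObj H] (iH : H ⟶ G) [IsMonHom iH]
    (h : ∀ (B : Type u) [CommRing B] [Algebra k B] (g : Pt k c.A B), g ∈ sub c iH B →
      ∀ g' : Pt k c.A B, g * g' = g' * g) : Central iH := by
  intro X n X' x g
  apply AffYoneda.hom_ext
  intro B s z
  obtain ⟨ρ, rfl⟩ := exists_algebra B s
  let _ : Algebra k B := ρ.hom.toAlgebra
  rw [MonObj.comp_mul, MonObj.comp_mul]
  have h1 := h B ((c.pts B).symm ((z ≫ x ≫ n) ≫ iH)) (symm_mem_sub c iH _)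
    ((c.pts B).symm (z ≫ g))
  have h2 := congrArg (c.pts B) h1
  rw [map_mul, map_mul, MulEquiv.apply_symm_apply, MulEquiv.apply_symm_apply] at h2
  simp only [Category.assoc] at h2
  exact h2

lemma isNilpotent_of_pow (D : Red.SplitRed G) {I : Ideal c.A} {p : ℕ}
    (h : ∀ f : c.A, (1 : Pt k c.A k).hom f = 0 → f ^ p ∈ I) :
    IsNilpotent ((RingHom.ker ((1 : Pt k c.A k).hom : c.A →+* k)).map (Ideal.Quotient.mk I)) := by
  have := c.smooth D.reductive
  have h1 : IsNoetherianRing c.A := Algebra.FiniteType.isNoetherianRing k c.A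
  rw [Ideal.FG.isNilpotent_iff_le_nilradical (IsNoetherian.noetherian _)]
  intro x hx
  rw [Ideal.mem_map_iff_of_surjective _ Ideal.Quotient.mk_surjective] at hx
  obtain ⟨f, hf, rfl⟩ := hx
  rw [mem_nilradical]
  refine ⟨p, ?_⟩
  rw [← map_pow]
  exact Ideal.Quotient.eq_zero_iff_mem.mpr (h f hf)

/-- a nice subgroup contains the short root vectors -/
theorem tan_of_nice {p : ℕ} {H : Over (Spec (CommRingCat.of k))} [GrpObj H] (iH : H ⟶ G)
    [IsMonHom iH] (hn : AlgGrp.IsNormalHom iH) (hnc : ¬ Central iH) (hht : Height p H)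
    {I : Ideal c.A} (hI : ∀ (B : Type u) [CommRing B] [Algebra k B] (g : Pt k c.A B),
      g ∈ sub c iH B ↔ Kills c I g) (hirr : Irr D.P) {a b : D.idx} {m : ℤ} (hm : m = 2 ∨ m = 3)
    (hab : D.P.pairing a b = -m) (hba : D.P.pairing b a = -1) : Tan D I b := by
  have hS : Cut I (fun B _ _ => sub c iH B) := hI
  have hn' : ∀ (B : Type u) [CommRing B] [Algebra k B] (g h : Pt k c.A B), h ∈ sub c iH B →
      g * h * g⁻¹ ∈ sub c iH B := fun B _ _ g h hh => conj_mem c hn g hh
  rcases tan_or_central (D := D) hS hn'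
    (isNilpotent_of_pow D fun f hf => pow_mem_of_height hI hht hf) with ⟨e, he⟩ | h
  · exact tan_short hS hn' hirr hm hab hba he
  · exact absurd (central_of_points iH h) hnc

/-- a subgroup with a root vector is not central -/
theorem not_central {H : Over (Spec (CommRingCat.of k))} [GrpObj H] (iH : H ⟶ G)
    [IsMonHom iH] {I : Ideal c.A}
    (hI : ∀ (B : Type u) [CommRing B] [Algebra k B] (g : Pt k c.A B),
      g ∈ sub c iH B ↔ Kills c I g) {b : D.idx} (hb : Tan D I b) : ¬ Central iH := by
  classical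
  intro hc
  have hS : Cut I (fun B _ _ => sub c iH B) := hI
  have hε : (DualNumber.eps : DualNumber k) * DualNumber.eps = 0 := DualNumber.eps_mul_eps
  obtain ⟨n, hn⟩ := mem_of_tan hS hb hε
  let R' := MonoidAlgebra (DualNumber k) (Multiplicative D.M)
  let ι' : DualNumber k →ₐ[k] R' := IsScalarTower.toAlgHom k (DualNumber k) R'
  let s : TPt D.M R' := tM D.M (DualNumber k)
  have h1 := hc _ n _ (tMap (𝟙 _) ι') (c.pts R' ((c.datum D).i R' s))
  rw [hn, c.pts_nat, ← map_mul, ← map_mul] at h1
  have h2 := (c.pts R').injective h1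
  have h3 := (c.datum D).rel b s (ι' DualNumber.eps)
  rw [(c.datum D).uu_nat] at h2
  rw [← h2, mul_inv_cancel_right] at h3
  have h4 := (c.datum D).uu_inj b h3
  let κ : R' →+ DualNumber k := (Finsupp.applyAddHom (1 : Multiplicative D.M)).comp
    (MonoidAlgebra.coeffAddEquiv (R := DualNumber k) (M := Multiplicative D.M)).toAddMonoidHom
  have hκ : ∀ (m : Multiplicative D.M) (r : DualNumber k), κ (MonoidAlgebra.single m r) =
      Finsupp.single m r 1 := fun m r => rfl
  have e1 : TPt.ch ((c.datum D).root b) s * ι' DualNumber.eps =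
      MonoidAlgebra.single (Multiplicative.ofAdd (D.P.root b)) DualNumber.eps := by
    change MonoidAlgebra.single (Multiplicative.ofAdd (D.P.root b)) (1 : DualNumber k) *
      MonoidAlgebra.single 1 DualNumber.eps = _
    rw [MonoidAlgebra.single_mul_single, _root_.mul_one, _root_.one_mul]
  have e2 : ι' DualNumber.eps = MonoidAlgebra.single 1 DualNumber.eps := rfl
  have h5 := congrArg κ (e2.symm.trans (h4.trans e1))
  rw [hκ, hκ, Finsupp.single_eq_same, Finsupp.single_eq_of_ne] at h5
  · exact one_ne_zero (congrArg TrivSqZeroExt.snd h5)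
  · intro h6
    exact D.P.ne_zero b (congrArg Multiplicative.toAdd h6.symm)

variable (c) in
/-- the ideals of the closed normal non-central subgroups of height at most one -/
def Nice (p : ℕ) (I : Ideal c.A) : Prop :=
  ∃ (H : Over (Spec (CommRingCat.of k))) (_ : GrpObj H) (iH : H ⟶ G) (_ : IsMonHom iH),
    IsClosedImmersion iH.left ∧ AlgGrp.IsNormalHom iH ∧ ¬ Central iH ∧ Height p H ∧
      ∀ (B : Type u) [CommRing B] [Algebra k B] (g : Pt k c.A B), g ∈ sub c iH B ↔ Kills c I g

/-- the subgroup of an ideal `I` whose points form normal subgroups -/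
theorem nice_of_ideal {p : ℕ} {I : Ideal c.A}
    (hone : ∀ f ∈ I, (1 : Pt k c.A k).hom f = 0)
    (hmul : ∀ (B : Type u) [CommRing B] [Algebra k B] (g g' : Pt k c.A B),
      Kills c I g → Kills c I g' → Kills c I (g * g'))
    (hinv : ∀ (B : Type u) [CommRing B] [Algebra k B] (g : Pt k c.A B),
      Kills c I g → Kills c I g⁻¹)
    (hnorm : ∀ (B : Type u) [CommRing B] [Algebra k B] (g x : Pt k c.A B),
      Kills c I x → Kills c I (g * x * g⁻¹))
    (hp : ∀ f : c.A, (1 : Pt k c.A k).hom f = 0 → f ^ p ∈ I)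
    {b : D.idx} (hb : Tan D I b) : Nice c p I := by
  obtain ⟨_, _⟩ := exists_grpObj hone hmul hinv
  have hI : ∀ (B : Type u) [CommRing B] [Algebra k B] (g : Pt k c.A B),
      g ∈ sub c (clι c I) B ↔ Kills c I g := fun B _ _ g => exists_pt_iff g
  refine ⟨_, _, clι c I, inferInstance, inferInstance, ?_, not_central _ hI hb,
    height_of_pow_mem hp, hI⟩
  apply isNormalHom_of_conj (c := c)
  intro B _ _ g x hx
  rw [hI] at hx ⊢
  exact hnorm B g x hx

lemma kills_sSup_iff {T : Set (Ideal c.A)} {B : Type u} [CommRing B] [Algebra k B]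
    (g : Pt k c.A B) : Kills c (sSup T) g ↔ ∀ I ∈ T, Kills c I g := by
  constructor
  · intro h I hI f hf
    exact h f (le_sSup hI hf)
  · intro h
    have h2 : sSup T ≤ RingHom.ker (g.hom : c.A →+* B) := by
      rw [sSup_le_iff]
      exact fun I hI f hf => h I hI f hf
    exact fun f hf => h2 hf

/-- the Frobenius kernel -/
theorem nice_frobIdeal (p : ℕ) [Fact p.Prime] [CharP k p] (b : D.idx) :
    Nice c p (frobIdeal c p) := by
  refine nice_of_ideal (D := D) (b := b) ?_ ?_ ?_ ?_ ?_ ?_
  · exact (kills_frobIdeal_iff (1 : Pt k c.A k)).mpr (Pt.map_one _)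
  · intro B _ _ g g' h h'
    rw [kills_frobIdeal_iff] at h h' ⊢
    rw [Pt.map_mul, h, h', _root_.mul_one]
  · intro B _ _ g h
    rw [kills_frobIdeal_iff] at h ⊢
    rw [Pt.map_inv, h, _root_.inv_one]
  · intro B _ _ g x h
    rw [kills_frobIdeal_iff] at h ⊢
    rw [Pt.map_mul, Pt.map_mul, Pt.map_inv, h, _root_.mul_one, mul_inv_cancel]
  · intro f hf
    exact Ideal.subset_span ⟨f, hf, rfl⟩
  · have hε : (DualNumber.eps : DualNumber k) * DualNumber.eps = 0 := DualNumber.eps_mul_eps
    have h1 : Kills c (frobIdeal c p) ((c.datum D).uu b (DualNumber k) DualNumber.eps) := by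
      rw [kills_frobIdeal_iff, (c.datum D).uu_nat]
      have h2 : frA p k (DualNumber k) DualNumber.eps = 0 := by
        rw [frA_eq_zero_iff]
        obtain ⟨n, hn⟩ : ∃ n, p = n + 2 := ⟨p - 2, by have := (Fact.out : p.Prime).two_le; omega⟩
        rw [hn, pow_add, pow_two, hε, MulZeroClass.mul_zero]
      rw [h2]
      exact (c.datum D).uu_zero b
    intro f hf
    have h3 := dd_uu (c.datum D) b hε f
    have h4 := (kills_frobIdeal_iff (1 : Pt k c.A (DualNumber k))).mpr (Pt.map_one _) f hf
    rw [dd, h1 f hf, h4, sub_zero, ← _root_.mul_one DualNumber.eps] at h3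
    have h5 := congrArg TrivSqZeroExt.snd h3
    rw [TrivSqZeroExt.algebraMap_eq_inl] at h5
    simpa using h5.symm

/-- **The least closed normal non-central subgroup scheme of height at most one.** -/
theorem exists_least (p : ℕ) [Fact p.Prime] [CharP k p] (D : Red.SplitRed G) (hirr : Irr D.P)
    {a b : D.idx} (hab : D.P.pairing a b = -(p : ℤ)) (hba : D.P.pairing b a = -1) :
    ∃ (N : Over (Spec (CommRingCat.of k))) (_ : GrpObj N) (iN : N ⟶ G) (_ : IsMonHom iN),
      IsClosedImmersion iN.left ∧ AlgGrp.IsNormalHom iN ∧ ¬ Central iN ∧ Height p N ∧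
      ∀ (H : Over (Spec (CommRingCat.of k))) [GrpObj H] (iH : H ⟶ G) [IsMonHom iH],
        IsClosedImmersion iH.left → AlgGrp.IsNormalHom iH → ¬ Central iH → Height p H →
        ∃ f : N ⟶ H, f ≫ iH = iN := by
  have : IsAffineHom G.hom := D.reductive.1
  obtain ⟨c⟩ := exists_chart G (𝟙 (Spec (CommRingCat.of k)))
  have hred := isReduced D
  have hm : (p : ℤ) = 2 ∨ (p : ℤ) = 3 := by
    have h1 : a ≠ b := by
      rintro rfl
      rw [D.P.pairing_same] at hba
      omega
    have h2 : a ≠ D.P.reflectionPerm b b := by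
      intro h
      have := (Fact.out : p.Prime).two_le
      have h3 : D.P.pairing b a = -2 := by
        rw [h, D.P.pairing_reflectionPerm_self_right, D.P.pairing_same]
      omega
    have := (Fact.out : p.Prime).two_le
    have h3 := RComb.pairs h1 h2
    omega
  let J : Ideal c.A := sSup {I | Nice c p I}
  have hfrob := nice_frobIdeal (D := D) (c := c) p b
  have key : ∀ (B : Type u) [CommRing B] [Algebra k B] (g : Pt k c.A B), Kills c J g ↔
      ∀ I, Nice c p I → Kills c I g := fun B _ _ g => kills_sSup_iff g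
  have htan : ∀ I, Nice c p I → Tan D I b := by
    rintro I ⟨H, _, iH, _, hcl, hn, hnc, hht, hI⟩
    exact tan_of_nice iH hn hnc hht hI hirr hm hab hba
  have hJ : Nice c p J := by
    refine nice_of_ideal (D := D) (b := b) ?_ ?_ ?_ ?_ ?_ ?_
    · refine (key k 1).mpr ?_
      rintro I ⟨H, _, iH, _, hcl, hn, hnc, hht, hI⟩
      exact (hI k 1).mp (one_mem _)
    · intro B _ _ g g' h h'
      rw [key] at h h' ⊢
      intro I hN
      have h1 := h I hN
      have h2 := h' I hN
      obtain ⟨H, _, iH, _, hcl, hn, hnc, hht, hI⟩ := hN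
      rw [← hI] at h1 h2 ⊢
      exact mul_mem h1 h2
    · intro B _ _ g h
      rw [key] at h ⊢
      intro I hN
      have h1 := h I hN
      obtain ⟨H, _, iH, _, hcl, hn, hnc, hht, hI⟩ := hN
      rw [← hI] at h1 ⊢
      exact inv_mem h1
    · intro B _ _ g x h
      rw [key] at h ⊢
      intro I hN
      have h1 := h I hN
      obtain ⟨H, _, iH, _, hcl, hn, hnc, hht, hI⟩ := hN
      rw [← hI] at h1 ⊢
      exact conj_mem c hn g h1
    · intro f hf
      have h1 : frobIdeal c p ≤ J := le_sSup hfrob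
      exact h1 (Ideal.subset_span ⟨f, hf, rfl⟩)
    · have hε : (DualNumber.eps : DualNumber k) * DualNumber.eps = 0 := DualNumber.eps_mul_eps
      have h1 : Kills c J ((c.datum D).uu b (DualNumber k) DualNumber.eps) := by
        rw [key]
        intro I hN
        have h2 := htan I hN
        obtain ⟨H, _, iH, _, hcl, hn, hnc, hht, hI⟩ := hN
        have hS : Cut I (fun B _ _ => sub c iH B) := hI
        rw [← hI]
        exact mem_of_tan hS h2 hε
      have h0 : Kills c J (1 : Pt k c.A (DualNumber k)) := by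
        rw [key]
        rintro I ⟨H, _, iH, _, hcl, hn, hnc, hht, hI⟩
        exact (hI _ 1).mp (one_mem _)
      intro f hf
      have h3 := dd_uu (c.datum D) b hε f
      rw [dd, h1 f hf, h0 f hf, sub_zero, ← _root_.mul_one DualNumber.eps] at h3
      have h5 := congrArg TrivSqZeroExt.snd h3
      rw [TrivSqZeroExt.algebraMap_eq_inl] at h5
      simpa using h5.symm
  obtain ⟨N, _, iN, _, hcl, hn, hnc, hht, hI⟩ := hJ
  refine ⟨N, _, iN, inferInstance, hcl, hn, hnc, hht, ?_⟩
  intro H _ iH _ hcl' hn' hnc' hht'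
  have hm1 : Mono iH := Over.mono_of_mono_left _
  rw [exists_hom_iff c]
  intro B _ _ g hg
  obtain ⟨I, hI'⟩ := exists_ideal c iH
  rw [hI, key] at hg
  rw [hI']
  exact hg I ⟨H, _, iH, inferInstance, hcl', hn', hnc', hht', hI'⟩

end K803.MinHt
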