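import Groth.Agent.ParSch.K803.ParComb

/-!
# The roots of a maximal parabolic subgroup
-/

set_option autoImplicit false
set_option linter.unusedSectionVars false

open RootPairing

namespace K803.ParR

open K803.RComb K803.Pair2 K803.ParComb K221.Prop K221.Form K221.Conn K214.ChainComb

variable {κ M N : Type*} [Fintype κ] [AddCommGroup M] [AddCommGroup N] {P : RootPairing κ ℤ M N}
  [P.IsReduced] (b : P.Base) {α : κ} (hα : α ∈ b.support) (lam : M →+ ℤ)
  (hlam : ∀ β ∈ b.support, β ≠ α → lam (P.root β) = 0) (hlam0 : 0 < lam (P.root α))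
  {R : Set κ} (hpos : ∀ a, b.IsPos a → a ∈ R)
  (hrefl : ∀ a e, a ∈ R → P.reflectionPerm a a ∈ R → e ∈ R → P.reflectionPerm a e ∈ R)
  (hneg : ∀ β ∈ b.support, β ≠ α → P.reflectionPerm β β ∈ R)

include hα hlam hlam0 hpos hrefl hneg

lemma levi (n : ℕ) : ∀ γ, b.IsPos γ → lam (P.root γ) = 0 → b.height γ ≤ n →
    P.reflectionPerm γ γ ∈ R := by
  induction n with
  | zero =>
    intro γ h1 _ h4
    rw [RootPairing.Base.isPos_iff] at h1
    omega
  | succ n ih =>
    intro γ h1 h2 h3
    by_cases hs : γ ∈ b.support
    · exact hneg γ hs (by rintro rfl; omega)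
    · obtain ⟨β, hβ, hβ2⟩ := exists_pos_pairing b h1
      have hne : γ ≠ β := fun e => hs (e ▸ hβ)
      obtain ⟨h5, h6⟩ := isPos_refl b h1 hβ hne hβ2
      have h7 : lam (P.root (P.reflectionPerm β γ)) = - (P.pairing γ β * lam (P.root β)) := by
        rw [P.root_reflectionPerm, P.reflection_apply_root, map_sub, h2, map_zsmul, smul_eq_mul,
          zero_sub]
      have hβα : β ≠ α := by
        rintro rfl
        have h8 := lam_nonneg b hα lam hlam hlam0 h5
        rw [h7] at h8
        have : 0 < P.pairing γ β * lam (P.root β) := mul_pos hβ2 hlam0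
        omega
      have h8 := ih _ h5 (by rw [h7, hlam β hβ hβα, mul_zero, neg_zero]) (by omega)
      have h9 := hrefl β _ (hpos β (b.isPos_of_mem_support hβ)) (hneg β hβ hβα) h8
      rw [refl_n] at h9
      rwa [P.reflectionPerm_self] at h9

lemma mem_of_nonneg (a : κ) (h : 0 ≤ lam (P.root a)) : a ∈ R := by
  rcases RootPairing.Base.IsPos.or_neg b a with h1 | h1
  · exact hpos a h1
  · have h2 : b.IsPos (P.reflectionPerm a a) := h1
    have h3 := lam_nonneg b hα lam hlam hlam0 h2
    rw [root_n, map_neg] at h3
    have h4 := levi b hα lam hlam hlam0 hpos hrefl hneg _ _ h2 (by rw [root_n, map_neg]; omega)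
      (le_of_eq (Int.toNat_of_nonneg (le_of_lt h2)).symm)
    rwa [n_n] at h4

lemma not_mem (hα' : P.reflectionPerm α α ∉ R) (n : ℕ) : ∀ γ, b.IsPos γ → 0 < lam (P.root γ) →
    b.height γ ≤ n → P.reflectionPerm γ γ ∉ R := by
  induction n with
  | zero =>
    intro γ h1 _ h4
    rw [RootPairing.Base.isPos_iff] at h1
    omega
  | succ n ih =>
    intro γ h1 h2 h3 hR
    by_cases hs : γ ∈ b.support
    · by_cases hγ : γ = α
      · exact hα' (hγ ▸ hR)
      · rw [hlam γ hs hγ] at h2
        omega
    · obtain ⟨β, hβ, hβ2⟩ := exists_pos_pairing b h1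
      have hne : γ ≠ β := fun e => hs (e ▸ hβ)
      obtain ⟨h5, h6⟩ := isPos_refl b h1 hβ hne hβ2
      by_cases hβα : β = α
      · subst hβα
        -- `s_γ(-β)` is positive
        have h7 : b.IsPos (P.reflectionPerm γ (P.reflectionPerm β β)) := by
          have h8 : P.pairing β (P.reflectionPerm γ γ) < 0 := by
            have h9 := P.zero_lt_pairingIn_iff' (S := ℤ) (i := γ) (j := β)
            rw [pairingIn_eq, pairingIn_eq] at h9
            have h10 := h9.mp hβ2
            rw [RootPairing.pairing_reflectionPerm_self_right]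
            omega
          have h8' : 0 < P.pairing β γ := by
            rw [RootPairing.pairing_reflectionPerm_self_right] at h8
            omega
          have h9 : P.root (P.reflectionPerm γ (P.reflectionPerm β β)) =
              P.root (P.reflectionPerm β β) + (P.pairing β γ) • P.root γ := by
            rw [P.root_reflectionPerm, P.reflection_apply_root, pairing_n]
            module
          rw [RootPairing.Base.isPos_iff', b.height_add_zsmul h9]
          have h10 : b.height (P.reflectionPerm β β) = - b.height β :=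
            RootPairing.Base.height_reflectionPerm_self b β
          have h11 : b.height β = 1 := RootPairing.Base.height_one_of_mem_support hβ
          have h12 : 0 < b.height γ := h1
          rw [h10, h11, smul_eq_mul]
          nlinarith
        have h8 := hrefl γ _ (hpos γ h1) hR (hpos _ h7)
        rw [P.reflectionPerm_self] at h8
        exact hα' h8
      · have h7 : lam (P.root (P.reflectionPerm β γ)) = lam (P.root γ) := by
          rw [P.root_reflectionPerm, P.reflection_apply_root, map_sub, map_zsmul, smul_eq_mul,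
            hlam β hβ hβα, mul_zero, sub_zero]
        have h8 := hrefl β _ (hpos β (b.isPos_of_mem_support hβ)) (hneg β hβ hβα) hR
        rw [refl_n] at h8
        exact ih _ h5 (by rw [h7]; exact h2) (by omega) h8

lemma not_mem_of_neg (hα' : P.reflectionPerm α α ∉ R) (a : κ) (h : lam (P.root a) < 0) :
    a ∉ R := by
  rcases RootPairing.Base.IsPos.or_neg b a with h1 | h1
  · have := lam_nonneg b hα lam hlam hlam0 h1
    omega
  · have h2 : b.IsPos (P.reflectionPerm a a) := h1
    have h4 := not_mem b hα lam hlam hlam0 hpos hrefl hneg hα' _ _ h2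
      (by rw [root_n, map_neg]; omega) (le_of_eq (Int.toNat_of_nonneg (le_of_lt h2)).symm)
    rwa [n_n] at h4

end K803.ParR
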