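import Groth.Agent.ParSch.K803.Ind
import Groth.Agent.ParSch.K803.Irr
import Groth.Agent.ParSch.K803.ParR
import Groth.Agent.ParSch.K803.G2
import Groth.Agent.RedSub.H637.PosRoots
import Groth.Agent.S8071

/-!
# Non-reduced maximal parabolic subgroups
-/

set_option autoImplicit false
universe u

open CategoryTheory MonoidalCategory CartesianMonoidalCategory MonObj GrpObj AlgebraicGeometry Limits

namespace K803.ParMain

open Groth.Agent.Sga3B Groth.Agent.Sga3B.Cell Groth.Agent.Sga3B.PinMod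
open Groth.Agent.Sga3B.PtDescent Groth.Agent.Agf.H613 Groth.Agent.Agf.H613.TwData
open K803.SubPt K803.Gen K803.Lie K803.Nn K803.HtOne K803.Hyp K803.ParComb K221.Conn
open Polynomial

variable {k : Type u} [Field k] {G : Over (Spec (CommRingCat.of k))} [GrpObj G]

section points

variable {D : Red.SplitRed G} {c : Chart G (𝟙 (Spec (CommRingCat.of k)))}
  {S : ∀ (B : Type u) [CommRing B] [Algebra k B], Subgroup (Pt k c.A B)}

/-- the subgroup functor `S` contains the root group of `a` -/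
def Has (D : Red.SplitRed G) {c : Chart G (𝟙 (Spec (CommRingCat.of k)))}
    (S : ∀ (B : Type u) [CommRing B] [Algebra k B], Subgroup (Pt k c.A B)) (a : D.idx) : Prop :=
  ∀ (B : Type u) [CommRing B] [Algebra k B] (x : B), (c.datum D).uu a B x ∈ S B

lemma has_reflect {a e : D.idx} (ha : Has D S a) (ha' : Has D S (D.P.reflectionPerm a a))
    (he : Has D S e) : Has D S (D.P.reflectionPerm a e) := by
  obtain ⟨r, r', hnn⟩ := exists_nn D c a
  obtain ⟨s, hs⟩ := hnn e
  intro B _ _ x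
  have h0 : nn D c a r r' B ∈ S B := mul_mem (mul_mem (ha _ _) (ha' _ _)) (ha _ _)
  have h1 := mul_mem (mul_mem h0 (he B (algebraMap k B ((s)⁻¹ : kˣ) * x))) (inv_mem h0)
  have h2 : algebraMap k B (s : k) * (algebraMap k B ((s)⁻¹ : kˣ) * x) = x := by
    rw [← _root_.mul_assoc, ← map_mul, Units.mul_inv, map_one, _root_.one_mul]
  rw [hs, h2] at h1
  exact h1

end points

/-- points with values in reduced rings -/
lemma mem_of_range (c : Chart G (𝟙 (Spec (CommRingCat.of k)))) {P Q : Over (Spec (CommRingCat.of k))}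
    [GrpObj P] [GrpObj Q] (i : P ⟶ G) [IsMonHom i] (j : Q ⟶ G) [IsMonHom j]
    [IsClosedImmersion j.left] (h : Set.range i.left ⊆ Set.range j.left) {B : Type u} [CommRing B]
    [Algebra k B] [_root_.IsReduced B] {g : Pt k c.A B} (hg : g ∈ sub c i B) : g ∈ sub c j B := by
  obtain ⟨x, hx⟩ := hg
  have : IsReduced (tB (𝟙 (Spec (CommRingCat.of k))) B).left :=
    inferInstanceAs (IsReduced (Spec (CommRingCat.of B)))
  obtain ⟨y, hy⟩ := Groth.Agent.S4367.result (x ≫ i).left j.left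
    (by
      rw [Over.comp_left]
      rintro _ ⟨z, rfl⟩
      apply h
      exact ⟨x.left z, by rw [Scheme.Hom.comp_apply]⟩)
  refine ⟨Over.homMk y (by rw [← Over.w j, ← Category.assoc, hy, Over.w]), ?_⟩
  rw [← hx]
  ext1
  exact hy

/-- the pullback square of a preimage, on points -/
theorem isPullback_of_points (c : Chart G (𝟙 (Spec (CommRingCat.of k))))
    {G' P P' : Over (Spec (CommRingCat.of k))} [GrpObj G'] [GrpObj P] [GrpObj P']
    (c' : Chart G' (𝟙 (Spec (CommRingCat.of k)))) (φ : c'.A →ₐ[k] c.A)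
    (i : P ⟶ G) [IsMonHom i] [Mono i] (i' : P' ⟶ G') [IsMonHom i'] [Mono i']
    (h : ∀ (B : Type u) [CommRing B] [Algebra k B] (g : Pt k c.A B),
        g ∈ sub c i B ↔ comap φ g ∈ sub c' i' B) :
    ∃ ψ : P ⟶ P', IsPullback i ψ (TwGlue.homOf c c' φ) i' := by
  obtain ⟨ψ, hψ⟩ := (exists_factor_iff c' (i ≫ TwGlue.homOf c c' φ) i').mpr (by
    intro B _ _ x
    have h1 := (h B _).mp (symm_mem_sub c i x)
    have h2 : (c'.pts B).symm (x ≫ i ≫ TwGlue.homOf c c' φ) = comap φ ((c.pts B).symm (x ≫ i)) := by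
      apply (c'.pts B).injective
      rw [MulEquiv.apply_symm_apply, ← TwGlue.pts_homOf, MulEquiv.apply_symm_apply, Category.assoc]
    rw [h2]
    exact h1)
  have key : ∀ s : PullbackCone (TwGlue.homOf c c' φ) i', ∃ l : s.pt ⟶ P,
      l ≫ i = s.fst ∧ l ≫ ψ = s.snd := by
    intro s
    obtain ⟨l, hl⟩ := (exists_factor_iff c s.fst i).mpr (by
      intro B _ _ x
      rw [h]
      have h1 := symm_mem_sub c' i' (x ≫ s.snd)
      have h2 : (c'.pts B).symm ((x ≫ s.snd) ≫ i') = comap φ ((c.pts B).symm (x ≫ s.fst)) := by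
        apply (c'.pts B).injective
        rw [MulEquiv.apply_symm_apply, ← TwGlue.pts_homOf, MulEquiv.apply_symm_apply,
          Category.assoc, Category.assoc, s.condition]
      rw [← h2]
      exact h1)
    refine ⟨l, hl, ?_⟩
    rw [← cancel_mono i', Category.assoc, hψ, ← Category.assoc, hl, s.condition]
  refine ⟨ψ, ⟨⟨hψ.symm⟩, ⟨PullbackCone.isLimitAux' _ fun s => ⟨(key s).choose,
    (key s).choose_spec.1, (key s).choose_spec.2, fun {m} h1 _ => ?_⟩⟩⟩⟩
  exact (cancel_mono i).mp (h1.trans (key s).choose_spec.1.symm)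

/-- **Subgroup schemes with reduced part a maximal parabolic subgroup** -/
theorem main [IsAlgClosed k] (p : ℕ) [hp : Fact p.Prime] [CharP k p]
    (hG : Red.IsSemisimpleOver k G)
    (hsimple : ∀ (N : Over (Spec (CommRingCat.of k))) [GrpObj N] (n : N ⟶ G) [IsMonHom n],
      IsClosedImmersion n.left → Smooth N.hom → ConnectedSpace N.left → AlgGrp.IsNormalHom n →
      Red.IsTrivialGrp N ∨ IsIso n)
    (P : Over (Spec (CommRingCat.of k))) [GrpObj P] (iP : P ⟶ G) [IsMonHom iP]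
    [hPcl : IsClosedImmersion iP.left] (D : Red.SplitRed G) (bs : D.P.Base)
    (tP : D.T ⟶ P) (htP : tP ≫ iP = D.i)
    (hpos : ∀ a, bs.IsPos a → ∃ v : Red.Ga (Spec (CommRingCat.of k)) ⟶ P, v ≫ iP = D.u a)
    (a₀ : D.idx) (ha₀ : a₀ ∈ bs.support)
    (Q : Over (Spec (CommRingCat.of k))) [GrpObj Q] (j : Q ⟶ G) [IsMonHom j]
    [hQcl : IsClosedImmersion j.left] [Smooth Q.hom]
    (hQroots : ∀ c ∈ bs.support, ∀ c' : D.idx, D.P.root c' = -D.P.root c →
      ((∃ v : Red.Ga (Spec (CommRingCat.of k)) ⟶ Q, v ≫ j = D.u c') ↔ c ≠ a₀))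
    (hQP : Set.range j.left.base = Set.range iP.left.base)
    (hexc : ¬ (p = 2 ∧ Module.finrank ℤ D.M = 2 ∧ Fintype.card D.idx = 12 ∧
      ∃ c : D.idx, D.P.pairing c a₀ = -3)) :
    ∃ (G' : Over (Spec (CommRingCat.of k))) (_ : GrpObj G') (φ : G ⟶ G') (_ : IsMonHom φ)
      (P' : Over (Spec (CommRingCat.of k))) (_ : GrpObj P') (i' : P' ⟶ G') (_ : IsMonHom i')
      (ψ : P ⟶ P'),
      IsAffine G'.left ∧ Smooth G'.hom ∧ Surjective φ.left ∧ IsFinite φ.left ∧
      IsClosedImmersion i'.left ∧ Smooth P'.hom ∧ IsPullback iP.left ψ.left φ.left i'.left := by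
  have hss : Red.IsSemisimple G := AlgBc.isSemisimple_iff.2 hG
  have hirr := K803.Irr.irr D hG hsimple
  have hred := Split.isReduced D
  have hGa : IsAffineHom G.hom := D.reductive.1
  have hm1 : Mono iP := Over.mono_of_mono_left _
  have hm2 : Mono j := Over.mono_of_mono_left _
  obtain ⟨c⟩ := exists_chart G (𝟙 (Spec (CommRingCat.of k)))
  -- the roots of `P`
  let R : Set D.idx := {a | Has D (fun B _ _ => sub c iP B) a}
  have hR : ∀ a, a ∈ R ↔ ∃ v : Red.Ga (Spec (CommRingCat.of k)) ⟶ P, v ≫ iP = D.u a :=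
    fun a => (exists_ga_iff c D a iP).symm
  have hRrefl : ∀ a e, a ∈ R → D.P.reflectionPerm a a ∈ R → e ∈ R →
      D.P.reflectionPerm a e ∈ R := fun a e h1 h2 h3 => has_reflect h1 h2 h3
  have hQred : IsReduced Q.left := Groth.Agent.Books.AlgPtsSmooth.isReduced_of_smooth Q
  obtain ⟨f, hf⟩ := Groth.Agent.S4367.result j.left iP.left hQP.le
  let f' : Q ⟶ P := Over.homMk f (by rw [← Over.w iP, ← Category.assoc, hf, Over.w])
  have hf' : f' ≫ iP = j := by
    ext1
    exact hf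
  have hneg : ∀ β ∈ bs.support, β ≠ a₀ → D.P.reflectionPerm β β ∈ R := by
    intro β hβ hne
    obtain ⟨v, hv⟩ := (hQroots β hβ _ (root_n β)).mpr hne
    rw [hR]
    exact ⟨v ≫ f', by rw [Category.assoc, hf', hv]⟩
  have hα' : D.P.reflectionPerm a₀ a₀ ∉ R := by
    intro h
    refine (hQroots a₀ ha₀ _ (root_n a₀)).mp ?_ rfl
    rw [exists_ga_iff c D]
    intro B _ _ x
    have h1 := mem_of_range c iP j hQP.ge (h _ (X : k[X]))
    have h2 := map_mem c (aeval x : k[X] →ₐ[k] B) h1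
    rwa [(c.datum D).uu_nat, aeval_X] at h2
  have hpos' : ∀ a, bs.IsPos a → a ∈ R := fun a ha => (hR a).mpr (hpos a ha)
  -- the functional
  obtain ⟨lam, hlam, hlam0⟩ : ∃ lam : D.M →+ ℤ,
      (∀ β ∈ bs.support, β ≠ a₀ → lam (D.P.root β) = 0) ∧ 0 < lam (D.P.root a₀) := by
    classical
    obtain ⟨lam, n, hn, h⟩ := PinComb.exists_functional_of_linearIndependent
      (fun i : bs.support => D.P.root i) (bs.linearIndepOn_root.restrict_scalars' ℤ)
      (fun i => if (i : D.idx) = a₀ then 1 else 0)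
    refine ⟨lam, fun β hβ hne => ?_, ?_⟩
    · rw [h ⟨β, hβ⟩, if_neg hne, mul_zero]
    · rw [h ⟨a₀, ha₀⟩, if_pos rfl, _root_.mul_one]; exact hn
  obtain ⟨I, hI⟩ := exists_ideal c iP
  have hI' : Cut I (fun B _ _ => sub c iP B) := fun B _ _ g => hI B g
  have hT : ∀ (B : Type u) [CommRing B] [Algebra k B] (t : TPt D.M B),
      (c.datum D).i B t ∈ sub c iP B := (exists_torus_iff c D iP).mp ⟨tP, htP⟩
  have hex : ∀ a, lam (D.P.root a) < 0 → ∃ n : ℕ, ∀ (B : Type u) [CommRing B] [Algebra k B]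
      (x : B), (c.datum D).uu a B x ∈ sub c iP B → x ^ p ^ n = 0 := by
    intro a ha
    exact PinPt.exists_pow p hp.out.two_le hI' hT
      (ParR.not_mem_of_neg bs ha₀ lam hlam hlam0 hpos' hRrefl hneg hα' a ha)
  choose! m hm using hex
  have H : HypP D c lam p m (fun B _ _ => sub c iP B) :=
    { torus := hT
      pos := fun a ha => ParR.mem_of_nonneg bs ha₀ lam hlam hlam0 hpos' hRrefl hneg a ha
      neg := fun a ha B _ _ x hx => hm a ha B x hx }
  have hG2 : p = 2 → ∀ c, D.P.pairing c a₀ ≠ -3 := by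
    intro hp2 c hc
    obtain ⟨h1, h2⟩ := G2.of_pairing hirr hc
    exact hexc ⟨hp2, ((Groth.Agent.S8071.result k G D).mp hss).symm.trans h2, h1, c, hc⟩
  obtain ⟨G', i1, c', φ, P', i2, i', i3, h1, h2, h3, h4, h5, h6, h7, h8⟩ :=
    Ind.main p _ D bs c lam m iP hirr ha₀ hlam hlam0 hG2 H rfl
  have hm3 : Mono i' := Over.mono_of_mono_left _
  obtain ⟨ψ, hψ⟩ := isPullback_of_points c c' φ iP i' h8
  refine ⟨G', i1, TwGlue.homOf c c' φ, TwGlue.isMonHom_homOf c c' φ h3, P', i2, i', i3, ψ,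
    isAffine_of_isAffineHom G'.hom, h2, ?_, ?_, h6, h7, hψ.map (Over.forget _)⟩
  · have h9 : Surjective (Spec.map (CommRingCat.ofHom (φ : c'.A →+* c.A))) := ⟨h4⟩
    change Surjective (inv c.p ≫ Spec.map (CommRingCat.ofHom (φ : c'.A →+* c.A)) ≫ c'.p)
    infer_instance
  · have h9 : IsFinite (Spec.map (CommRingCat.ofHom (φ : c'.A →+* c.A))) :=
      (IsFinite.SpecMap_iff _).mpr h5
    change IsFinite (inv c.p ≫ Spec.map (CommRingCat.ofHom (φ : c'.A →+* c.A)) ≫ c'.p)
    infer_instance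

end K803.ParMain
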