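import Groth.Agent.RedSub.H650.QuotPts
import Groth.Agent.Sga3C.SchemImage
import Mathlib.AlgebraicGeometry.Sites.Fpqc

/-!
# The cartesian square `G × (H'/H) → G/H` over `G → G/H'`
-/

set_option autoImplicit false
universe u

open CategoryTheory MonoidalCategory CartesianMonoidalCategory MonObj GrpObj AlgebraicGeometry Limits

namespace K803.QuotFib

open Groth.Agent.RedSub.H650.QuotPts

variable {S : Scheme.{u}} {G H H' X X' Y : Over S} [GrpObj G] [GrpObj H] [GrpObj H']

/-- multiplication `G × H' → G` -/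
noncomputable def mm (iH' : H' ⟶ G) : G ⊗ H' ⟶ G := (G ◁ iH') ≫ μ[G]

omit [GrpObj H'] in
theorem lift_mm (iH' : H' ⟶ G) {T : Over S} (a : T ⟶ G) (h : T ⟶ H') :
    lift a h ≫ mm iH' = a * (h ≫ iH') := lift_comp iH' a h

theorem exists_map {iH : H ⟶ G} {iH' : H' ⟶ G} [IsMonHom iH'] {e : H ⟶ H'}
    (he : e ≫ iH' = iH) {q : G ⟶ X} (hq : RedSub.IsQuotient iH q) {r : H' ⟶ Y}
    (hr : RedSub.IsQuotient e r) : ∃ a : G ⊗ Y ⟶ X, (G ◁ r) ≫ a = mm iH' ≫ q := by
  obtain ⟨h1, h2, h3, h4⟩ := hr
  have sq := Groth.Agent.Sga3C.SchemImage.isPullback_whiskerLeft_left r G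
  have : Surjective (G ◁ r).left := MorphismProperty.of_isPullback sq.flip h1
  have : Flat (G ◁ r).left := MorphismProperty.of_isPullback sq.flip h2
  have : LocallyOfFinitePresentation (G ◁ r).left := MorphismProperty.of_isPullback sq.flip h3
  obtain ⟨g, hg⟩ := Groth.Agent.Sga3C.QuotRel.exists_desc (G ◁ r).left (mm iH' ≫ q).left
    fun {T} a b hab => by
      have hw : b ≫ (G ⊗ H').hom = a ≫ (G ⊗ H').hom := by
        rw [← Over.w (G ◁ r), ← Category.assoc, ← hab, Category.assoc]
      let a' : Over.mk (a ≫ (G ⊗ H').hom) ⟶ G ⊗ H' := Over.homMk a rfl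
      let b' : Over.mk (a ≫ (G ⊗ H').hom) ⟶ G ⊗ H' := Over.homMk b hw
      have hab' : a' ≫ (G ◁ r) = b' ≫ (G ◁ r) := Over.OverMorphism.ext hab
      have e1 : a' ≫ fst G H' = b' ≫ fst G H' := by
        have := congrArg (· ≫ fst G Y) hab'
        simpa using this
      have e2 : (a' ≫ snd G H') ≫ r = (b' ≫ snd G H') ≫ r := by
        have := congrArg (· ≫ snd G Y) hab'
        simpa using this
      obtain ⟨y, hy⟩ := ((ptQuot_of_isPullback h4) _ _ _).1 e2
      have key : a' ≫ mm iH' ≫ q = b' ≫ mm iH' ≫ q := by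
        have ha : a' = lift (a' ≫ fst G H') (a' ≫ snd G H') := by
          apply CartesianMonoidalCategory.hom_ext <;> simp
        have hb : b' = lift (b' ≫ fst G H') (b' ≫ snd G H') := by
          apply CartesianMonoidalCategory.hom_ext <;> simp
        have hc : (a' ≫ snd G H' * y ≫ e) ≫ iH' = (a' ≫ snd G H') ≫ iH' * y ≫ iH := by
          rw [MonObj.mul_comp, Category.assoc, Category.assoc, he]
        rw [ha, hb, ← Category.assoc, ← Category.assoc, lift_mm, lift_mm, ← e1, hy, hc,
          ← _root_.mul_assoc, mul_comp hq]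
      exact congrArg (fun x => x.left) key
  have hgw : g ≫ X.hom = (G ⊗ Y).hom := by
    have : Epi (G ◁ r).left := Flat.epi_of_flat_of_surjective _
    rw [← cancel_epi (G ◁ r).left, ← Category.assoc, hg, Over.w, Over.w]
  exact ⟨Over.homMk g hgw, Over.OverMorphism.ext hg⟩

/-- the fibration `G/H → G/H'` becomes `G × (H'/H) → G` over `G` -/
theorem isPullback {iH : H ⟶ G} {iH' : H' ⟶ G} [IsMonHom iH'] [Mono iH'] {e : H ⟶ H'}
    (he : e ≫ iH' = iH) {q : G ⟶ X} (hq : RedSub.IsQuotient iH q)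
    {q' : G ⟶ X'} (hq' : RedSub.IsQuotient iH' q') {f : X ⟶ X'} (hf : q ≫ f = q')
    {r : H' ⟶ Y} (hr : RedSub.IsQuotient e r) {a : G ⊗ Y ⟶ X} (ha : (G ◁ r) ≫ a = mm iH' ≫ q) :
    IsPullback a.left (fst G Y).left f.left q'.left := by
  have hr4 := hr
  obtain ⟨h1, h2, h3, h4⟩ := hr4
  have sq := Groth.Agent.Sga3C.SchemImage.isPullback_whiskerLeft_left r G
  have i1 : Surjective (G ◁ r).left := MorphismProperty.of_isPullback sq.flip h1
  have i2 : Flat (G ◁ r).left := MorphismProperty.of_isPullback sq.flip h2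
  have i3 : LocallyOfFinitePresentation (G ◁ r).left := MorphismProperty.of_isPullback sq.flip h3
  have : Epi (G ◁ r).left := Flat.epi_of_flat_of_surjective _
  have hepi : Epi (G ◁ r) := Over.epi_of_epi_left _
  have w : a ≫ f = fst G Y ≫ q' := by
    rw [← cancel_epi (G ◁ r), ← Category.assoc, ha, Category.assoc, hf,
      whiskerLeft_fst_assoc]
    exact hq'.2.2.2.w.symm
  have wl : a.left ≫ f.left = (fst G Y).left ≫ q'.left := congrArg (fun x => x.left) w
  -- the comparison map
  let c : (G ⊗ Y).left ⟶ pullback f.left q'.left := pullback.lift a.left (fst G Y).left wl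
  -- the composite with the covering is the base change of `q`
  have hcomp : IsPullback ((G ◁ r).left ≫ c) (mm iH').left (pullback.fst f.left q'.left) q.left := by
    have e1 : ((G ◁ r).left ≫ c) ≫ pullback.snd f.left q'.left = (fst G H').left := by
      rw [Category.assoc, pullback.lift_snd, ← Over.comp_left, whiskerLeft_fst]
    have e2 : ((G ◁ r).left ≫ c) ≫ pullback.fst f.left q'.left = (mm iH').left ≫ q.left := by
      rw [Category.assoc, pullback.lift_fst, ← Over.comp_left, ha, Over.comp_left]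
    have outer : IsPullback (((G ◁ r).left ≫ c) ≫ pullback.snd f.left q'.left) (mm iH').left
        q'.left (q.left ≫ f.left) := by
      rw [e1, ← Over.comp_left, hf]
      exact hq'.2.2.2.map (Over.forget S)
    exact IsPullback.of_right outer e2 (IsPullback.of_hasPullback f.left q'.left).flip
  have hmono : Mono c := by
    refine ⟨fun {T} x y hxy => ?_⟩
    have hx1 : x ≫ (fst G Y).left = y ≫ (fst G Y).left := by
      have := congrArg (· ≫ pullback.snd f.left q'.left) hxy
      simpa only [Category.assoc, c, pullback.lift_snd] using this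
    have hx2 : x ≫ a.left = y ≫ a.left := by
      have := congrArg (· ≫ pullback.fst f.left q'.left) hxy
      simpa only [Category.assoc, c, pullback.lift_fst] using this
    -- a covering on which both points lift
    obtain ⟨P₂, π, x', y', hπe, hx', hy'⟩ : ∃ (P₂ : Scheme.{u}) (π : P₂ ⟶ T)
        (x' y' : P₂ ⟶ (G ⊗ H').left), Epi π ∧ x' ≫ (G ◁ r).left = π ≫ x ∧
          y' ≫ (G ◁ r).left = π ≫ y := by
      refine ⟨pullback (pullback.fst x (G ◁ r).left ≫ y) (G ◁ r).left,
        pullback.fst _ _ ≫ pullback.fst x (G ◁ r).left,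
        pullback.fst _ _ ≫ pullback.snd x (G ◁ r).left, pullback.snd _ _, ?_, ?_, ?_⟩
      · exact Flat.epi_of_flat_of_surjective _
      · rw [Category.assoc, Category.assoc, pullback.condition]
      · rw [← pullback.condition, Category.assoc]
    have hw : y' ≫ (G ⊗ H').hom = x' ≫ (G ⊗ H').hom := by
      rw [← Over.w (G ◁ r), ← Category.assoc, ← Category.assoc, hx', hy',
        ← Over.w (fst G Y), Category.assoc, Category.assoc, reassoc_of% hx1]
    let X1 : Over.mk (x' ≫ (G ⊗ H').hom) ⟶ G ⊗ H' := Over.homMk x' rfl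
    let Y1 : Over.mk (x' ≫ (G ⊗ H').hom) ⟶ G ⊗ H' := Over.homMk y' hw
    have e1 : X1 ≫ fst G H' = Y1 ≫ fst G H' := by
      have h6 : (X1 ≫ (G ◁ r)) ≫ fst G Y = (Y1 ≫ (G ◁ r)) ≫ fst G Y := by
        apply Over.OverMorphism.ext
        change (x' ≫ (G ◁ r).left) ≫ (fst G Y).left = (y' ≫ (G ◁ r).left) ≫ (fst G Y).left
        rw [hx', hy', Category.assoc, Category.assoc, hx1]
      simpa only [Category.assoc, whiskerLeft_fst] using h6
    have e2 : (X1 ≫ mm iH') ≫ q = (Y1 ≫ mm iH') ≫ q := by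
      apply Over.OverMorphism.ext
      have h7 : (X1 ≫ (G ◁ r) ≫ a).left = (Y1 ≫ (G ◁ r) ≫ a).left := by
        change x' ≫ (G ◁ r).left ≫ a.left = y' ≫ (G ◁ r).left ≫ a.left
        rw [← Category.assoc, ← Category.assoc, hx', hy', Category.assoc, Category.assoc, hx2]
      rw [ha] at h7
      exact h7
    have hX : X1 = lift (X1 ≫ fst G H') (X1 ≫ snd G H') := by
      apply CartesianMonoidalCategory.hom_ext <;> simp
    have hY : Y1 = lift (Y1 ≫ fst G H') (Y1 ≫ snd G H') := by
      apply CartesianMonoidalCategory.hom_ext <;> simp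
    rw [hX, hY, lift_mm, lift_mm, ← e1] at e2
    obtain ⟨z, hz⟩ := (ptQuot_of_isPullback hq.2.2.2 _ _ _).1 e2
    rw [_root_.mul_assoc] at hz
    have hz2 := mul_left_cancel hz
    have hz3 : Y1 ≫ snd G H' = X1 ≫ snd G H' * (z ≫ e) := by
      rw [← cancel_mono iH', MonObj.mul_comp, hz2, Category.assoc z, he]
    have e3 : (X1 ≫ snd G H') ≫ r = (Y1 ≫ snd G H') ≫ r :=
      (ptQuot_of_isPullback h4 _ _ _).2 ⟨z, hz3⟩
    have e4 : X1 ≫ (G ◁ r) = Y1 ≫ (G ◁ r) := by
      apply CartesianMonoidalCategory.hom_ext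
      · simpa only [Category.assoc, whiskerLeft_fst] using e1
      · simpa only [Category.assoc, whiskerLeft_snd] using e3
    rw [← cancel_epi π, ← hx', ← hy']
    exact congrArg (fun x => x.left) e4
  obtain ⟨k1, k2, k3, -⟩ := hq
  have j1 : Surjective ((G ◁ r).left ≫ c) := MorphismProperty.of_isPullback hcomp.flip k1
  have j2 : Flat ((G ◁ r).left ≫ c) := MorphismProperty.of_isPullback hcomp.flip k2
  have j3 : LocallyOfFinitePresentation ((G ◁ r).left ≫ c) :=
    MorphismProperty.of_isPullback hcomp.flip k3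
  have j4 : EffectiveEpi ((G ◁ r).left ≫ c) := inferInstance
  have j5 : StrongEpi ((G ◁ r).left ≫ c) := inferInstance
  have j6 : StrongEpi c := strongEpi_of_strongEpi (G ◁ r).left c
  have j7 : IsIso c := isIso_of_mono_of_strongEpi c
  exact IsPullback.of_iso_pullback ⟨wl⟩ (asIso c) (pullback.lift_fst _ _ _) (pullback.lift_snd _ _ _)

end K803.QuotFib
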