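import Groth.Agent.ParSch.K803.HtOne
import Groth.Agent.ParSch.K803.OfIdeal
import Groth.Agent.Sga3B.MT.Fix
import Groth.Agent.Sga3B.RedIdComp
import Groth.Agent.S4367
import Mathlib.RingTheory.Nilpotent.Lemmas

/-!
# A smoothness criterion for subgroups containing a parabolic subgroup
-/

set_option autoImplicit false
universe u

open CategoryTheory AlgebraicGeometry Polynomial

namespace K803.Sm

open Groth.Agent.Sga3B Groth.Agent.Sga3B.Cell Groth.Agent.Sga3B.PinMod
open K803.SubPt K803.Gen K803.Split K803.Lie K803.HtOne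

lemma prod_split {Γ κ : Type*} [Group Γ] (L : List κ) (f g : κ → Γ)
    (h : ∀ a b, f a * g b = g b * f a) :
    (L.map fun a => f a * g a).prod = (L.map f).prod * (L.map g).prod := by
  induction L with
  | nil => simp
  | cons a L ih =>
    have h1 : ∀ L : List κ, g a * (L.map f).prod = (L.map f).prod * g a := by
      intro L
      induction L with
      | nil => simp
      | cons b L ih2 =>
        rw [List.map_cons, List.prod_cons, mul_assoc, ← ih2, ← mul_assoc, ← h, mul_assoc]
    rw [List.map_cons, List.prod_cons, List.map_cons, List.prod_cons, List.map_cons,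
      List.prod_cons, ih, mul_assoc, mul_assoc, ← mul_assoc (g a), h1, mul_assoc]

variable {k : Type u} [Field k] {G : Over (Spec (CommRingCat.of k))} [GrpObj G]
  {D : Red.SplitRed G} {c : Chart G (𝟙 (Spec (CommRingCat.of k)))} {I : Ideal c.A}
  {S : ∀ (B : Type u) [CommRing B] [Algebra k B], Subgroup (Pt k c.A B)}

/-- **Points near the unit** of a closed subgroup functor `S` whose root vectors are those of a
set `Ψ`: they are in every subgroup functor which contains the torus and the root groups of `Ψ` and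
is contained in `S`. -/
theorem near (hS : Cut I S) (Ψ : Set D.idx)
    (S' : ∀ (B : Type u) [CommRing B] [Algebra k B], Subgroup (Pt k c.A B))
    (hS' : ∀ (B : Type u) [CommRing B] [Algebra k B], S' B ≤ S B)
    (hT : ∀ (B : Type u) [CommRing B] [Algebra k B] (t : TPt D.M B), (c.datum D).i B t ∈ S' B)
    (hU : ∀ a ∈ Ψ, ∀ (B : Type u) [CommRing B] [Algebra k B] (x : B), (c.datum D).uu a B x ∈ S' B)
    (htan : ∀ a ∉ Ψ, ¬ Tan D I a) {B : Type u} [CommRing B] [Algebra k B] {K : Ideal B}
    (hK : IsNilpotent K) {g : Pt k c.A B} (hg : g ∈ S B) (hg' : g ∈ nr K) : g ∈ S' B := by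
  classical
  have := isReduced D
  obtain ⟨b⟩ := BaseZ.nonempty_base D.P
  obtain ⟨E, hE⟩ := Groth.Agent.Agf.H613.TwGlue.exists_pinCell D b c
  choose r hr using fun a => exists_scale E hE a
  obtain ⟨x, t, hxt, hx, -⟩ := exists_cell_of_nr E hK hg'
  have hEU : ∀ a ∈ Ψ, ∀ (C : Type u) [CommRing C] [Algebra k C] (y : C), E.uu a C y ∈ S' C := by
    intro a ha C _ _ y
    rw [hr]
    exact hU a ha C _
  have hET : ∀ (C : Type u) [CommRing C] [Algebra k C] (t : TPt D.M C), E.i C t ∈ S' C := by
    intro C _ _ t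
    rw [hE]
    exact hT C t
  have hE0 : ∀ (a : D.idx) (C : Type u) [CommRing C] [Algebra k C], E.uu a C (0 : C) = 1 :=
    fun a C _ _ => Datum.uu_zero (D := E.toDatum) a
  have key : ∀ n, 1 ≤ n → ∀ a ∉ Ψ, x a ∈ K ^ n := by
    intro n hn
    induction n, hn using Nat.le_induction with
    | base => simpa using fun a _ => hx a
    | succ n hn ih =>
      intro e he
      let π : B →ₐ[k] B ⧸ K ^ (n + 1) := Ideal.Quotient.mkₐ k _
      have hK1 : (K ^ n).map (π : B →+* B ⧸ K ^ (n + 1)) *
          (K ^ n).map (π : B →+* B ⧸ K ^ (n + 1)) = ⊥ := by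
        rw [← Ideal.map_mul, ← pow_add, eq_bot_iff]
        refine (Ideal.map_mono (Ideal.pow_le_pow_right (by omega : n + 1 ≤ n + n))).trans ?_
        rw [Ideal.map_le_iff_le_comap]
        intro z hz
        exact Ideal.Quotient.eq_zero_iff_mem.mpr hz
      have hK2 : (K ^ n).map (π : B →+* B ⧸ K ^ (n + 1)) *
          K.map (π : B →+* B ⧸ K ^ (n + 1)) = ⊥ := by
        rw [← Ideal.map_mul, ← pow_succ, eq_bot_iff, Ideal.map_le_iff_le_comap]
        intro z hz
        exact Ideal.Quotient.eq_zero_iff_mem.mpr hz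
      let y : D.idx → B ⧸ K ^ (n + 1) := fun a => if a ∈ Ψ then 0 else π (x a)
      let z : D.idx → B ⧸ K ^ (n + 1) := fun a => if a ∈ Ψ then π (x a) else 0
      have hy : ∀ a, y a ∈ (K ^ n).map (π : B →+* B ⧸ K ^ (n + 1)) := by
        intro a
        by_cases ha : a ∈ Ψ
        · simp only [y, if_pos ha]; exact zero_mem _
        · simp only [y, if_neg ha]
          exact Ideal.mem_map_of_mem _ (ih a ha)
      have hz : ∀ a, z a ∈ K.map (π : B →+* B ⧸ K ^ (n + 1)) := by
        intro a
        by_cases ha : a ∈ Ψ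
        · simp only [z, if_pos ha]
          exact Ideal.mem_map_of_mem _ (hx a)
        · simp only [z, if_neg ha]; exact zero_mem _
      have h1 : ∀ a, E.uu a (B ⧸ K ^ (n + 1)) (π (x a)) =
          E.uu a (B ⧸ K ^ (n + 1)) (y a) * E.uu a (B ⧸ K ^ (n + 1)) (z a) := by
        intro a
        by_cases ha : a ∈ Ψ
        · simp only [y, z, if_pos ha]
          rw [hE0, one_mul]
        · simp only [y, z, if_neg ha]
          rw [hE0, mul_one]
      have h2 := hS.map π hg
      rw [hxt, E.cell_nat] at h2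
      have h3 : E.cell (fun a => π (x a)) (TPt.map π t) =
          ((allList b).map fun a => E.uu a (B ⧸ K ^ (n + 1)) (y a)).prod *
          (((allList b).map fun a => E.uu a (B ⧸ K ^ (n + 1)) (z a)).prod *
            E.i (B ⧸ K ^ (n + 1)) (TPt.map π t)) := by
        have hps := prod_split (allList b) (fun a => E.uu a (B ⧸ K ^ (n + 1)) (y a))
          (fun a => E.uu a (B ⧸ K ^ (n + 1)) (z a)) (fun a a' => comm_of_mem hK2
          (uu_mem_nr E.toDatum a (hy a)) (uu_mem_nr E.toDatum a' (hz a')))
        rw [← mul_assoc, ← hps]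
        simp only [PinCell.cell, h1]
      have h4 : ((allList b).map fun a => E.uu a (B ⧸ K ^ (n + 1)) (z a)).prod *
            E.i (B ⧸ K ^ (n + 1)) (TPt.map π t) ∈ S (B ⧸ K ^ (n + 1)) := by
        refine mul_mem (list_prod_mem fun w hw => ?_) (hS' _ (hET _ _))
        obtain ⟨a, -, rfl⟩ := List.mem_map.mp hw
        by_cases ha : a ∈ Ψ
        · exact hS' _ (hEU a ha _ _)
        · simp only [z, if_neg ha]
          rw [hE0]
          exact one_mem _
      rw [h3] at h2
      have h5 := mul_mem h2 (inv_mem h4)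
      rw [mul_inv_cancel_right] at h5
      have h6 : E.toDatum.cell (allList b) y 1 ∈ S (B ⧸ K ^ (n + 1)) := by
        rw [Datum.cell, map_one, mul_one]
        exact h5
      have h7 := htan e he
      rw [Tan] at h7
      push Not at h7
      obtain ⟨f, hf, hfe⟩ := h7
      have h8 := weights (D := E.toDatum) (fun B _ _ => S B) hS
        (fun C _ _ t w hw => mul_mem (mul_mem (hS' _ (hET _ t)) hw) (inv_mem (hS' _ (hET _ t))))
        hK1 (allList_nodup b) (mem_allList b) hy h6 e hf
      simp only [y, if_neg he] at h8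
      obtain ⟨s, hs⟩ := tan_pin E hE e
      have h9 : π (x e) = 0 := by
        have h10 : IsUnit (algebraMap k (B ⧸ K ^ (n + 1)) (tan E.toDatum e f)) := by
          rw [hs]
          exact (isUnit_iff_ne_zero.mpr (mul_ne_zero hfe s.ne_zero)).map _
        exact (h10.mul_right_eq_zero).mp h8
      exact Ideal.Quotient.eq_zero_iff_mem.mp h9
  obtain ⟨n, hn⟩ := hK
  rw [hxt]
  refine mul_mem (list_prod_mem fun w hw => ?_) (hET _ _)
  obtain ⟨a, -, rfl⟩ := List.mem_map.mp hw
  by_cases ha : a ∈ Ψ
  · exact hEU a ha _ _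
  · have h1 := Ideal.pow_le_pow_right (Nat.le_succ n) (key (n + 1) (by omega) a ha)
    rw [hn] at h1
    have h2 : x a = 0 := h1
    rw [h2, hE0]
    exact one_mem _

end K803.Sm
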