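import Groth.Agent.ParSch.K803.Sm
import Groth.Agent.Sga3B.ChartGood

/-!
# A smoothness criterion for subgroups containing a torus
-/

set_option autoImplicit false
universe u

open CategoryTheory MonoidalCategory CartesianMonoidalCategory MonObj GrpObj AlgebraicGeometry Polynomial

namespace K803.Sm

open Groth.Agent.Sga3B Groth.Agent.Sga3B.Cell Groth.Agent.Sga3B.PinMod
open K803.SubPt K803.Gen K803.Split K803.Lie K803.HtOne

variable {k : Type u} [Field k] {G : Over (Spec (CommRingCat.of k))} [GrpObj G]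

lemma mem_of_reduced (c : Chart G (𝟙 (Spec (CommRingCat.of k)))) {P Q : Over (Spec (CommRingCat.of k))}
    [GrpObj P] [GrpObj Q] (iP : P ⟶ G) [IsMonHom iP] (d : Q ⟶ P) [IsMonHom d]
    [IsClosedImmersion d.left] (hd : Surjective d.left) {B : Type u} [CommRing B] [Algebra k B]
    [_root_.IsReduced B] {g : Pt k c.A B} (hg : g ∈ sub c iP B) : g ∈ sub c (d ≫ iP) B := by
  obtain ⟨h, hh⟩ := hg
  have : IsReduced (tB (𝟙 (Spec (CommRingCat.of k))) B).left :=
    inferInstanceAs (IsReduced (Spec (CommRingCat.of B)))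
  obtain ⟨y, hy⟩ := Groth.Agent.S4367.result h.left d.left
    (by rw [Set.range_eq_univ.mpr hd.surj]; exact Set.subset_univ _)
  refine ⟨Over.homMk y (by rw [← Over.w d, ← Category.assoc, hy, Over.w]), ?_⟩
  rw [← hh, ← Category.assoc]
  congr 1
  ext1
  exact hy

variable {D : Red.SplitRed G} {c : Chart G (𝟙 (Spec (CommRingCat.of k)))} {I : Ideal c.A}

/-- **Smoothness** of a closed subgroup containing the torus and the root groups of the roots which are
tangent to it. -/
theorem smooth [IsAlgClosed k] {P : Over (Spec (CommRingCat.of k))} [GrpObj P] (iP : P ⟶ G)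
    [IsMonHom iP] [IsClosedImmersion iP.left] (hI : Cut I (fun B _ _ => sub c iP B))
    (hT : ∀ (B : Type u) [CommRing B] [Algebra k B] (t : TPt D.M B), (c.datum D).i B t ∈ sub c iP B)
    (hU : ∀ a, Tan D I a → ∀ (B : Type u) [CommRing B] [Algebra k B] (x : B),
      (c.datum D).uu a B x ∈ sub c iP B) : Smooth P.hom := by
  have hGs : Smooth G.hom := D.reductive.2.1
  have hlf : LocallyOfFiniteType P.hom := by
    rw [← Over.w iP]; infer_instance
  have haff : IsAffineHom P.hom := by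
    have : IsAffineHom G.hom := D.reductive.1
    rw [← Over.w iP]; infer_instance
  obtain ⟨Q, _, d, hmon, hcl, hsurj, hred⟩ := RedIdComp.exists_reduced P
  have hlfQ : LocallyOfFiniteType Q.hom := by
    rw [← Over.w d]; infer_instance
  have haffQ : IsAffineHom Q.hom := by
    rw [← Over.w d]; infer_instance
  have hQs : Smooth Q.hom := Groth.Agent.Books.AlgPtsSmooth.smooth_of_isReduced Q
  have hclj : IsClosedImmersion (d ≫ iP).left := by
    rw [Over.comp_left]; infer_instance
  -- T and the root groups are in `Q`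
  have hTQ : ∀ (B : Type u) [CommRing B] [Algebra k B] (t : TPt D.M B),
      (c.datum D).i B t ∈ sub c (d ≫ iP) B := by
    intro B _ _ t
    have hdom : IsDomain (MonoidAlgebra k (Multiplicative D.M)) :=
      Groth.Agent.Sga3B.MT.RCell.fix_isDomain_groupAlgebra k D.M
    have h1 := mem_of_reduced c iP d hsurj (hT _ (tM D.M k))
    have h2 := map_mem c (tHom (R := k) t) h1
    rw [(c.datum D).i_nat] at h2
    have h3 := map_tM (R := k) t
    rw [← h3]
    exact h2
  have hUQ : ∀ a, Tan D I a → ∀ (B : Type u) [CommRing B] [Algebra k B] (x : B),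
      (c.datum D).uu a B x ∈ sub c (d ≫ iP) B := by
    intro a ha B _ _ x
    have h1 := mem_of_reduced c iP d hsurj (hU a ha _ (X : k[X]))
    have h2 := map_mem c (aeval x : k[X] →ₐ[k] B) h1
    rwa [(c.datum D).uu_nat, aeval_X] at h2
  obtain ⟨J, hJ⟩ := exists_ideal c (d ≫ iP)
  have hm1 : Mono iP := Over.mono_of_mono_left _
  have hm2 : Mono (d ≫ iP) := Over.mono_of_mono_left _
  have hle : ∀ (B : Type u) [CommRing B] [Algebra k B], sub c (d ≫ iP) B ≤ sub c iP B := by
    intro B _ _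
    exact (exists_hom_iff c (d ≫ iP) iP).mp ⟨d, rfl⟩ B
  -- the ideals
  have hJrad : J ≤ I.radical := by
    have h1 : (Pt.mk (Ideal.Quotient.mkₐ k I.radical) : Pt k c.A (c.A ⧸ I.radical)) ∈
        sub c iP (c.A ⧸ I.radical) := by
      rw [hI (c.A ⧸ I.radical)]
      intro f hf
      exact Ideal.Quotient.eq_zero_iff_mem.mpr (Ideal.le_radical hf)
    have hr : _root_.IsReduced (c.A ⧸ I.radical) :=
      (Ideal.isRadical_iff_quotient_reduced _).mp (Ideal.radical_isRadical I)
    have h2 := mem_of_reduced c iP d hsurj h1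
    rw [hJ] at h2
    intro f hf
    exact Ideal.Quotient.eq_zero_iff_mem.mp (h2 f hf)
  have hft : Algebra.FiniteType k c.A := c.finiteType D.reductive
  have hnoeth : IsNoetherianRing c.A := Algebra.FiniteType.isNoetherianRing k c.A
  have hnil : IsNilpotent (J.map (Ideal.Quotient.mk I)) := by
    obtain ⟨n, hn⟩ := IsNoetherianRing.isNilpotent_nilradical (c.A ⧸ I)
    refine ⟨n, ?_⟩
    rw [Ideal.zero_eq_bot, eq_bot_iff] at hn ⊢
    refine (Ideal.pow_right_mono ?_ n).trans hn
    rw [Ideal.map_le_iff_le_comap]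
    intro f hf
    obtain ⟨m, hm⟩ := hJrad hf
    rw [Ideal.mem_comap, mem_nilradical]
    refine ⟨m, ?_⟩
    rw [← map_pow]
    exact Ideal.Quotient.eq_zero_iff_mem.mpr hm
  -- the universal point
  let B := c.A ⧸ I
  let K : Ideal B := J.map (Ideal.Quotient.mk I)
  let g : Pt k c.A B := Pt.mk (Ideal.Quotient.mkₐ k I)
  have hg : g ∈ sub c iP B := by
    rw [hI B]
    intro f hf
    exact Ideal.Quotient.eq_zero_iff_mem.mpr hf
  let π : B →ₐ[k] B ⧸ K := Ideal.Quotient.mkₐ k K
  have hgπ : Pt.map π g ∈ sub c (d ≫ iP) (B ⧸ K) := by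
    rw [hJ]
    intro f hf
    exact Ideal.Quotient.eq_zero_iff_mem.mpr (Ideal.mem_map_of_mem _ hf)
  obtain ⟨x, hx⟩ := hgπ
  obtain ⟨cQ⟩ := exists_chart Q (𝟙 (Spec (CommRingCat.of k)))
  have hsm : Algebra.Smooth k cQ.A := ChartFib.smooth_of_isPullback cQ.isPullback
  obtain ⟨y, hy⟩ := Algebra.FormallySmooth.exists_lift (R := k) K hnil ((cQ.pts (B ⧸ K)).symm x).hom
  let q : Pt k c.A B := (c.pts B).symm (cQ.pts B (Pt.mk y) ≫ d ≫ iP)
  have hq : q ∈ sub c (d ≫ iP) B := symm_mem_sub c _ _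
  have hqπ : Pt.map π q = Pt.map π g := by
    apply (c.pts (B ⧸ K)).injective
    rw [← hx, ← c.pts_nat]
    have h1 : tMap (𝟙 (Spec (CommRingCat.of k))) π ≫ cQ.pts B (Pt.mk y) = x := by
      rw [cQ.pts_nat]
      have h2 : Pt.map π (Pt.mk y) = (cQ.pts (B ⧸ K)).symm x := hy
      rw [h2, MulEquiv.apply_symm_apply]
    rw [MulEquiv.apply_symm_apply, ← Category.assoc, h1]
  have hnear : g * q⁻¹ ∈ sub c (d ≫ iP) B := by
    refine near hI {a | Tan D I a} (fun B _ _ => sub c (d ≫ iP) B) hle hTQ hUQ (fun a ha => ha)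
      hnil (mul_mem hg (inv_mem (hle B hq))) ?_
    rw [nr, MonoidHom.mem_ker, Pt.mapHom_apply, Pt.map_mul, Pt.map_inv]
    have h1 : Pt.map (Ideal.Quotient.mkₐ k K) q = Pt.map (Ideal.Quotient.mkₐ k K) g := hqπ
    rw [h1, mul_inv_cancel]
  have hgQ : g ∈ sub c (d ≫ iP) B := by
    have h1 := mul_mem hnear hq
    rwa [inv_mul_cancel_right] at h1
  have hJI : J ≤ I := by
    intro f hf
    have h1 := (hJ B g).mp hgQ f hf
    exact Ideal.Quotient.eq_zero_iff_mem.mp h1
  obtain ⟨f, hf⟩ := (exists_hom_iff c iP (d ≫ iP)).mpr (fun C _ _ z hz => by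
    rw [hJ]
    exact fun w hw => (hI C z).mp hz w (hJI hw))
  have hfd : f ≫ d = 𝟙 P := by
    rw [← cancel_mono iP, Category.assoc, hf, Category.id_comp]
  have hdf : d ≫ f = 𝟙 Q := by
    rw [← cancel_mono (d ≫ iP), Category.assoc, hf, Category.id_comp]
  have hfi : IsIso f.left := ⟨d.left, by rw [← Over.comp_left, hfd]; rfl,
    by rw [← Over.comp_left, hdf]; rfl⟩
  rw [← Over.w f]
  infer_instance

end K803.Sm
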