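import Groth.Agent.ParSch.K803.Lie
import Groth.Agent.ParSch.K803.Split
import Groth.Agent.ParSch.K803.RComb

/-!
# Structure constants: commutators with infinitesimal arguments
-/

set_option autoImplicit false
universe u

open CategoryTheory MonoidalCategory CartesianMonoidalCategory MonObj GrpObj AlgebraicGeometry

namespace K803.Str

open Groth.Agent.Sga3B Groth.Agent.Sga3B.Cell Groth.Agent.Sga3B.PinMod
open K803.SubPt K803.Gen K803.Split K803.Lie

section poly

variable {k B : Type u} [CommRing k] [CommRing B] [Algebra k B]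

/-- the exponent `X_j ^ i X_{j'}` -/
noncomputable def mm (j j' : Fin 2) (i : ℕ) : Fin 2 →₀ ℕ := Finsupp.single j i + Finsupp.single j' 1

lemma mm_left {j j' : Fin 2} (hj : j ≠ j') (i : ℕ) : mm j j' i j = i := by
  simp [mm, Ne.symm hj]

lemma mm_right {j j' : Fin 2} (hj : j ≠ j') (i : ℕ) : mm j j' i j' = 1 := by
  simp [mm, hj]

/-- evaluation of a polynomial in two variables with one infinitesimal argument -/
lemma aeval_eq (p : MvPolynomial (Fin 2) k) (j j' : Fin 2) (hj : j ≠ j') (i : ℕ) (x : Fin 2 → B)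
    (hx : x j' * x j' = 0)
    (h : ∀ n, MvPolynomial.coeff n p ≠ 0 → n j' ≠ 0 ∧ (n j' = 1 → n j = i)) :
    MvPolynomial.aeval x p = algebraMap k B (MvPolynomial.coeff (mm j j' i) p) * (x j ^ i * x j') := by
  classical
  have huniv : (Finset.univ : Finset (Fin 2)) = {j, j'} := by
    revert hj
    fin_cases j <;> fin_cases j' <;> decide
  have hprod : ∀ n : Fin 2 →₀ ℕ, ∏ s, x s ^ n s = x j ^ n j * x j' ^ n j' := by
    intro n
    rw [huniv, Finset.prod_pair hj]
  rw [MvPolynomial.aeval_def, MvPolynomial.eval₂_eq']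
  rw [Finset.sum_eq_single (mm j j' i)]
  · rw [hprod, mm_left hj, mm_right hj, pow_one]
  · intro n hn hne
    rw [MvPolynomial.mem_support_iff] at hn
    obtain ⟨h1, h2⟩ := h n hn
    rw [hprod]
    have h3 : n j' ≠ 1 := by
      intro h3
      apply hne
      ext s
      have hs : s = j ∨ s = j' := by
        have := Finset.mem_univ s
        rw [huniv] at this
        simpa using this
      rcases hs with rfl | rfl
      · rw [h2 h3, mm_left hj]
      · rw [h3, mm_right hj]
    have h4 : x j' ^ n j' = 0 := by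
      obtain ⟨m, hm⟩ : ∃ m, n j' = m + 2 := ⟨n j' - 2, by omega⟩
      rw [hm, pow_add, pow_two, hx, mul_zero]
    rw [h4, mul_zero, mul_zero]
  · intro h
    rw [MvPolynomial.notMem_support_iff.mp h, map_zero, zero_mul]

end poly

variable {k : Type u} [Field k] {G : Over (Spec (CommRingCat.of k))} [GrpObj G]
  {D : Red.SplitRed G} {c : Chart G (𝟙 (Spec (CommRingCat.of k)))}

/-- **Commutators of root groups with one infinitesimal argument** -/
theorem exists_comm {a b : D.idx} (hlin : LinearIndependent ℤ ![D.P.root a, D.P.root b])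
    {L : List D.idx} {δ : (c.datum D).CR} (hδ : (c.datum D).EtOn L δ)
    (hδ0 : (c.datum D).ev0 δ = 1) :
    ∃ (C C' : D.idx → k) (d d' : D.idx → ℕ),
      (∀ e, C e ≠ 0 → d e ≠ 0 ∧ d e • D.P.root a + D.P.root b = D.P.root e) ∧
      (∀ e, C' e ≠ 0 → d' e ≠ 0 ∧ D.P.root a + d' e • D.P.root b = D.P.root e) ∧
      (∀ e, D.P.root a + D.P.root b = D.P.root e → C e = C' e ∧ d e = 1 ∧ d' e = 1) ∧
      (∀ (B : Type u) [CommRing B] [Algebra k B] (x ε : B), ε * ε = 0 →
        (c.datum D).uu a B x * (c.datum D).uu b B ε * ((c.datum D).uu a B x)⁻¹ *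
          ((c.datum D).uu b B ε)⁻¹ =
          (c.datum D).cell L (fun e => algebraMap k B (C e) * (x ^ d e * ε)) 1) ∧
      (∀ (B : Type u) [CommRing B] [Algebra k B] (x ε : B), ε * ε = 0 →
        (c.datum D).uu a B ε * (c.datum D).uu b B x * ((c.datum D).uu a B ε)⁻¹ *
          ((c.datum D).uu b B x)⁻¹ =
          (c.datum D).cell L (fun e => algebraMap k B (C' e) * (x ^ d' e * ε)) 1) := by
  classical
  obtain ⟨lam, n, hn, hlam⟩ := PinComb.exists_functional_of_linearIndependent
    ![D.P.root a, D.P.root b] hlin (fun _ => 1)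
  have hla : 0 < lam (D.P.root a) := by
    have h1 : lam (D.P.root a) = n * 1 := hlam 0
    omega
  have hlb : 0 < lam (D.P.root b) := by
    have h1 : lam (D.P.root b) = n * 1 := hlam 1
    omega
  obtain ⟨Y, hY, hv⟩ := Datum.exists_commutator hδ hδ0 a b lam hla hlb
  have huniq : ∀ (e : D.idx) (i j i' j' : ℕ), i • D.P.root a + j • D.P.root b = D.P.root e →
      i' • D.P.root a + j' • D.P.root b = D.P.root e → i = i' ∧ j = j' := by
    intro e i j i' j' h h'
    rw [LinearIndependent.pair_iff] at hlin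
    have := hlin ((i : ℤ) - i') ((j : ℤ) - j') (by
      rw [sub_smul, sub_smul, natCast_zsmul, natCast_zsmul, natCast_zsmul, natCast_zsmul]
      rw [← h'] at h
      have h2 := sub_eq_zero.mpr h
      rw [← h2]
      abel)
    omega
  let d : D.idx → ℕ := fun e => if h : ∃ i : ℕ, i • D.P.root a + D.P.root b = D.P.root e then
    h.choose else 0
  let d' : D.idx → ℕ := fun e => if h : ∃ i : ℕ, D.P.root a + i • D.P.root b = D.P.root e then
    h.choose else 0
  have hd : ∀ (e : D.idx) (i : ℕ), i • D.P.root a + D.P.root b = D.P.root e → d e = i := by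
    intro e i hi
    have h : ∃ i : ℕ, i • D.P.root a + D.P.root b = D.P.root e := ⟨i, hi⟩
    have h1 : d e = h.choose := dif_pos h
    rw [h1]
    exact (huniq e _ 1 _ 1 (by rw [one_smul]; exact h.choose_spec) (by rw [one_smul]; exact hi)).1
  have hd' : ∀ (e : D.idx) (i : ℕ), D.P.root a + i • D.P.root b = D.P.root e → d' e = i := by
    intro e i hi
    have h : ∃ i : ℕ, D.P.root a + i • D.P.root b = D.P.root e := ⟨i, hi⟩
    have h1 : d' e = h.choose := dif_pos h
    rw [h1]
    exact (huniq e 1 _ 1 _ (by rw [one_smul]; exact h.choose_spec) (by rw [one_smul]; exact hi)).2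
  have h01 : (0 : Fin 2) ≠ 1 := by decide
  have h10 : (1 : Fin 2) ≠ 0 := by decide
  refine ⟨fun e => MvPolynomial.coeff (mm 0 1 (d e)) (Y e),
    fun e => MvPolynomial.coeff (mm 1 0 (d' e)) (Y e), d, d',
    ?_, ?_, ?_, ?_, ?_⟩
  · intro e he
    obtain ⟨h1, h2, h3⟩ := hY e _ he
    have e0 := mm_left h01 (d e)
    have e1 := mm_right h01 (d e)
    rw [e0] at h1
    rw [e0, e1, one_smul] at h3
    exact ⟨h1, h3⟩
  · intro e he
    obtain ⟨h1, h2, h3⟩ := hY e _ he
    have e0 := mm_right h10 (d' e)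
    have e1 := mm_left h10 (d' e)
    rw [e1] at h2
    rw [e0, e1, one_smul] at h3
    exact ⟨h2, h3⟩
  · intro e he
    have h1 := hd e 1 (by rw [one_smul]; exact he)
    have h2 := hd' e 1 (by rw [one_smul]; exact he)
    refine ⟨?_, h1, h2⟩
    change MvPolynomial.coeff (mm 0 1 (d e)) (Y e) = MvPolynomial.coeff (mm 1 0 (d' e)) (Y e)
    rw [h1, h2, mm, mm, add_comm]
  · intro B _ _ x ε hε
    refine (hv B ![x, ε]).trans ?_
    congr 1
    funext e
    refine aeval_eq (Y e) 0 1 (by decide) (d e) ![x, ε] hε ?_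
    intro m hm
    obtain ⟨h1, h2, h3⟩ := hY e m hm
    refine ⟨h2, fun h4 => ?_⟩
    rw [h4, one_smul] at h3
    exact (hd e _ h3).symm
  · intro B _ _ x ε hε
    refine (hv B ![ε, x]).trans ?_
    congr 1
    funext e
    refine aeval_eq (Y e) 1 0 (by decide) (d' e) ![ε, x] hε ?_
    intro m hm
    obtain ⟨h1, h2, h3⟩ := hY e m hm
    refine ⟨h1, fun h4 => ?_⟩
    rw [h4, one_smul] at h3
    exact (hd' e _ h3).symm

end K803.Str
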